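import Groth.Prelude.Def_KZero
import Groth.Prelude.Def_KZero2
import Mathlib.Algebra.Homology.ShortComplex.Exact
import Mathlib.CategoryTheory.Abelian.Refinements
import Mathlib.CategoryTheory.Abelian.Exact

/-!
# Basic API for Grothendieck groups
-/

universe v u w

open CategoryTheory CategoryTheory.Limits ZeroObject

namespace Groth.Agent.KZ

section Abelian

variable {A : Type u} [Category.{v} A] [Abelian A]

lemma cl_ses {S : ShortComplex A} (hS : S.ShortExact) :
    KZero.cl S.X₂ = KZero.cl S.X₁ + KZero.cl S.X₃ := by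
  rw [KZero.cl, KZero.cl, KZero.cl, ← QuotientAddGroup.mk_add,
    QuotientAddGroup.eq_iff_sub_mem, ← sub_sub]
  exact AddSubgroup.subset_closure ⟨S, hS, rfl⟩

lemma K0_hom_ext {G : Type w} [AddCommGroup G] {f g : KZero.K0 A →+ G}
    (h : ∀ X, f (KZero.cl X) = g (KZero.cl X)) : f = g :=
  QuotientAddGroup.addMonoidHom_ext _ (FreeAbelianGroup.lift_ext _ _ h)

lemma exists_lift {G : Type w} [AddCommGroup G] (φ : A → G)
    (h : ∀ S : ShortComplex A, S.ShortExact → φ S.X₂ = φ S.X₁ + φ S.X₃) :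
    ∃ f : KZero.K0 A →+ G, ∀ X, f (KZero.cl X) = φ X := by
  refine ⟨QuotientAddGroup.lift _ (FreeAbelianGroup.lift φ) ?_, fun X => FreeAbelianGroup.lift_apply_of φ X⟩
  rw [KZero.relAb, AddSubgroup.closure_le]
  rintro x ⟨S, hS, rfl⟩
  simp [h S hS]

lemma shortExact_iso_zero {X Y Z : A} (e : X ≅ Y) (hZ : IsZero Z) :
    (ShortComplex.mk (0 : Z ⟶ X) e.hom zero_comp).ShortExact where
  exact := (ShortComplex.exact_iff_mono _ rfl).2 (inferInstanceAs (Mono e.hom))
  mono_f := ⟨fun _ _ _ => hZ.eq_of_tgt _ _⟩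
  epi_g := inferInstanceAs (Epi e.hom)

lemma cl_isZero {Z : A} (hZ : IsZero Z) : KZero.cl Z = 0 := by
  have := cl_ses (shortExact_iso_zero (Iso.refl Z) hZ)
  simpa using this

lemma cl_iso {X Y : A} (e : X ≅ Y) : KZero.cl X = KZero.cl Y := by
  have := cl_ses (shortExact_iso_zero e (isZero_zero A))
  simpa [cl_isZero (isZero_zero A)] using this

variable (P : ObjectProperty A)

lemma clSub_of_prop {X : A} (h : P X) :
    KZero.clSub P X = QuotientAddGroup.mk (FreeAbelianGroup.of ⟨X, h⟩) := by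
  rw [KZero.clSub, dif_pos h]

lemma clSub_ses {S : ShortComplex A} (hS : S.ShortExact) (h₁ : P S.X₁) (h₂ : P S.X₂)
    (h₃ : P S.X₃) :
    KZero.clSub P S.X₂ = KZero.clSub P S.X₁ + KZero.clSub P S.X₃ := by
  rw [clSub_of_prop P h₁, clSub_of_prop P h₂, clSub_of_prop P h₃, ← QuotientAddGroup.mk_add,
    QuotientAddGroup.eq_iff_sub_mem, ← sub_sub]
  exact AddSubgroup.subset_closure ⟨S, h₁, h₂, h₃, hS, rfl⟩

lemma clSub_isZero {Z : A} (hZ : IsZero Z) : KZero.clSub P Z = 0 := by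
  by_cases h : P Z
  · have := clSub_ses P (shortExact_iso_zero (Iso.refl Z) hZ) h h h
    simpa using this
  · rw [KZero.clSub, dif_neg h]

/-- Invariance under isomorphism, when some zero object belongs to `P`. -/
lemma clSub_iso {X Y Z : A} (e : X ≅ Y) (hX : P X) (hY : P Y) (hZ : IsZero Z) (hPZ : P Z) :
    KZero.clSub P X = KZero.clSub P Y := by
  have := clSub_ses P (shortExact_iso_zero e hZ) hPZ hX hY
  simpa [clSub_isZero P hZ] using this

lemma K0sub_hom_ext {G : Type w} [AddCommGroup G] {f g : KZero.K0sub P →+ G}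
    (h : ∀ X, P X → f (KZero.clSub P X) = g (KZero.clSub P X)) : f = g := by
  refine QuotientAddGroup.addMonoidHom_ext _ (FreeAbelianGroup.lift_ext _ _ fun X => ?_)
  have := h X.1 X.2
  rwa [clSub_of_prop P X.2] at this

lemma exists_liftSub {G : Type w} [AddCommGroup G] (φ : A → G)
    (h : ∀ S : ShortComplex A, S.ShortExact → P S.X₁ → P S.X₂ → P S.X₃ →
      φ S.X₂ = φ S.X₁ + φ S.X₃) :
    ∃ f : KZero.K0sub P →+ G, ∀ X, P X → f (KZero.clSub P X) = φ X := by
  refine ⟨QuotientAddGroup.lift _ (FreeAbelianGroup.lift fun X : Subtype P => φ X.1) ?_,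
    fun X hX => ?_⟩
  rotate_left
  · rw [clSub_of_prop P hX]; exact FreeAbelianGroup.lift_apply_of _ (⟨X, hX⟩ : Subtype P)
  rw [KZero.relSub, AddSubgroup.closure_le]
  rintro x ⟨S, h₁, h₂, h₃, hS, rfl⟩
  simp [h S hS h₁ h₂ h₃]

/-- The short exact sequence of an epimorphism and its kernel. -/
noncomputable abbrev kerSeq {X Y : A} (p : X ⟶ Y) : ShortComplex A :=
  ShortComplex.mk (kernel.ι p) p (kernel.condition p)

lemma kerSeq_shortExact {X Y : A} (p : X ⟶ Y) [Epi p] : (kerSeq p).ShortExact where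
  exact := (kerSeq p).exact_of_f_is_kernel (kernelIsKernel p)

/-- The kernels of a morphism of short exact sequences. -/
noncomputable def kernelsSeq {T S : ShortComplex A} (φ : T ⟶ S) : ShortComplex A :=
  ShortComplex.mk (kernel.map φ.τ₁ φ.τ₂ T.f S.f φ.comm₁₂) (kernel.map φ.τ₂ φ.τ₃ T.g S.g φ.comm₂₃)
    (by ext; simp)

lemma kernelsSeq_shortExact {T S : ShortComplex A} (φ : T ⟶ S) (hT : T.ShortExact)
    (hS : S.ShortExact) [Epi φ.τ₁] : (kernelsSeq φ).ShortExact := by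
  have := hT.mono_f; have := hT.epi_g; have := hS.mono_f
  have hm : Mono (kernelsSeq φ).f := by
    have : Mono ((kernelsSeq φ).f ≫ kernel.ι φ.τ₂) := by simp [kernelsSeq]; infer_instance
    exact mono_of_mono _ (kernel.ι φ.τ₂)
  refine ShortComplex.ShortExact.mk' ?_ hm ?_
  · rw [ShortComplex.exact_iff_exact_up_to_refinements]
    intro W x hx
    simp only [kernelsSeq] at x hx ⊢
    have hx' : (x ≫ kernel.ι φ.τ₂) ≫ T.g = 0 := by
      simpa [Category.assoc] using (hx =≫ kernel.ι φ.τ₃).trans zero_comp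
    let y := hT.exact.lift (x ≫ kernel.ι φ.τ₂) hx'
    have hy : y ≫ T.f = x ≫ kernel.ι φ.τ₂ := hT.exact.lift_f _ _
    have hy' : y ≫ φ.τ₁ = 0 := by
      rw [← cancel_mono S.f, Category.assoc, φ.comm₁₂, reassoc_of% hy]
      simp
    exact ⟨W, 𝟙 W, inferInstance, kernel.lift φ.τ₁ y hy', by ext; simp [hy]⟩
  · rw [epi_iff_surjective_up_to_refinements]
    intro W y
    simp only [kernelsSeq] at y ⊢
    obtain ⟨W', π, hπ, x, hx⟩ := surjective_up_to_refinements_of_epi T.g (y ≫ kernel.ι φ.τ₃)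
    have hx' : (x ≫ φ.τ₂) ≫ S.g = 0 := by
      rw [Category.assoc, φ.comm₂₃, ← Category.assoc, ← hx]
      simp
    let a := hS.exact.lift (x ≫ φ.τ₂) hx'
    have ha : a ≫ S.f = x ≫ φ.τ₂ := hS.exact.lift_f _ _
    obtain ⟨W'', π', hπ', z, hz⟩ := surjective_up_to_refinements_of_epi φ.τ₁ a
    have hk : (π' ≫ x - z ≫ T.f) ≫ φ.τ₂ = 0 := by
      rw [Preadditive.sub_comp, Category.assoc, Category.assoc, ← φ.comm₁₂, ← ha,
        ← Category.assoc, ← Category.assoc, hz, sub_self]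
    refine ⟨W'', π' ≫ π, inferInstance, kernel.lift φ.τ₂ _ hk, ?_⟩
    ext
    simp [hx]

end Abelian

section Triangulated

variable {D : Type u} [Category.{v} D] [Preadditive D] [HasZeroObject D] [HasShift D ℤ]
  [∀ n : ℤ, (shiftFunctor D n).Additive] [Pretriangulated D] (P : ObjectProperty D)

open Pretriangulated

lemma clTr_of_prop {X : D} (h : P X) :
    KZero.clTr P X = QuotientAddGroup.mk (FreeAbelianGroup.of ⟨X, h⟩) := by
  rw [KZero.clTr, dif_pos h]

lemma clTr_triangle {T : Triangle D} (hT : T ∈ distTriang D) (h₁ : P T.obj₁) (h₂ : P T.obj₂)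
    (h₃ : P T.obj₃) :
    KZero.clTr P T.obj₂ = KZero.clTr P T.obj₁ + KZero.clTr P T.obj₃ := by
  rw [clTr_of_prop P h₁, clTr_of_prop P h₂, clTr_of_prop P h₃, ← QuotientAddGroup.mk_add,
    QuotientAddGroup.eq_iff_sub_mem, ← sub_sub]
  exact AddSubgroup.subset_closure ⟨T, h₁, h₂, h₃, hT, rfl⟩

lemma clTr_isZero {Z : D} (hZ : IsZero Z) : KZero.clTr P Z = 0 := by
  by_cases h : P Z
  · have hT : Triangle.mk (𝟙 Z) (0 : Z ⟶ Z) (0 : Z ⟶ Z⟦(1 : ℤ)⟧) ∈ distTriang D :=
      isomorphic_distinguished _ (contractible_distinguished Z) _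
        (Triangle.isoMk _ _ (Iso.refl _) (Iso.refl _) hZ.isoZero
          (hZ.eq_of_src _ _) (hZ.eq_of_src _ _) (hZ.eq_of_src _ _))
    have := clTr_triangle P hT h h h
    simpa using this
  · rw [KZero.clTr, dif_neg h]

lemma clTr_iso {X Y Z : D} (e : X ≅ Y) (hX : P X) (hY : P Y) (hZ : IsZero Z) (hPZ : P Z) :
    KZero.clTr P X = KZero.clTr P Y := by
  have hT : Triangle.mk e.hom (0 : Y ⟶ Z) (0 : Z ⟶ X⟦(1 : ℤ)⟧) ∈ distTriang D :=
    isomorphic_distinguished _ (contractible_distinguished X) _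
      (Triangle.isoMk _ _ (Iso.refl _) e.symm hZ.isoZero
        (e.hom_inv_id.trans (Category.id_comp (𝟙 X)).symm) ((isZero_zero D).eq_of_tgt _ _) (hZ.eq_of_src _ _))
  have := clTr_triangle P hT hX hY hPZ
  simpa [clTr_isZero P hZ] using this.symm

lemma K0tr_hom_ext {G : Type w} [AddCommGroup G] {f g : KZero.K0tr P →+ G}
    (h : ∀ X, P X → f (KZero.clTr P X) = g (KZero.clTr P X)) : f = g := by
  refine QuotientAddGroup.addMonoidHom_ext _ (FreeAbelianGroup.lift_ext _ _ fun X => ?_)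
  have := h X.1 X.2
  rwa [clTr_of_prop P X.2] at this

lemma exists_liftTr {G : Type w} [AddCommGroup G] (φ : D → G)
    (h : ∀ T : Triangle D, T ∈ distTriang D → P T.obj₁ → P T.obj₂ → P T.obj₃ →
      φ T.obj₂ = φ T.obj₁ + φ T.obj₃) :
    ∃ f : KZero.K0tr P →+ G, ∀ X, P X → f (KZero.clTr P X) = φ X := by
  refine ⟨QuotientAddGroup.lift _ (FreeAbelianGroup.lift fun X : Subtype P => φ X.1) ?_,
    fun X hX => ?_⟩
  rotate_left
  · rw [clTr_of_prop P hX]; exact FreeAbelianGroup.lift_apply_of _ (⟨X, hX⟩ : Subtype P)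
  rw [KZero.relTr, AddSubgroup.closure_le]
  rintro x ⟨T, h₁, h₂, h₃, hT, rfl⟩
  simp [h T hT h₁ h₂ h₃]

end Triangulated

end Groth.Agent.KZ
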