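import Groth.Agent.KZ.CycleClass
import Groth.Agent.KFlatLib.Scheme.TensorStalk
import Groth.Agent.KFlatLib.Scheme.QCohTensor
import Groth.Agent.QCoh.TensorSections
import Groth.Agent.QCoh.LocFree

/-! The cycle class of a tensor product with a locally free module. -/

set_option autoImplicit false
set_option backward.isDefEq.respectTransparency false
set_option backward.isDefEq.respectTransparency.types false

universe u

open CategoryTheory CategoryTheory.Limits AlgebraicGeometry TopologicalSpace Opposite MonoidalCategory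
open scoped TensorProduct

namespace Groth.Agent.KZ.CycleClass

open Groth.Agent

variable {X : Scheme.{u}}

theorem isFinLocFree_of_rank {E : X.Modules} {e : ℕ} (h : FlatMod.IsFinLocFreeOfRank e E) :
    FlatMod.IsFinLocFree E := fun x => let ⟨U, hx, hU⟩ := h x; ⟨U, e, hx, hU⟩

theorem isCoh_tensor_rank {E F : X.Modules} {e : ℕ} (hE : FlatMod.IsFinLocFreeOfRank e E) (hF : Coh.IsCoh F) :
    Coh.IsCoh (CohB1.tensorMod E F) :=
  by
  have hE' := isFinLocFree_of_rank hE
  have hqE := QCoh.isQCoh_of_isFinLocFree hE'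
  refine QCoh.isCoh_iff.2 ⟨KFlatLib.isQCoh_tensor hqE hF.1, fun U => ?_⟩
  haveI := QCoh.finite_sections hF U.2
  haveI := QCoh.finite_sections (M := E) ⟨hqE, QCoh.isFT_of_isFP (QCoh.isFP_of_isFinLocFree hE')⟩ U.2
  exact Module.Finite.of_surjective (QCoh.tmLin E F U.1) (QCoh.bijective_tmLin hqE hF.1 U.2).2

theorem exists_basis {E : X.Modules} {n : ℕ} (hE : FlatMod.IsFinLocFreeOfRank n E) (x : X) :
    Nonempty (Module.Basis (Fin n) (X.presheaf.stalk x) (E.presheaf.stalk x)) := by
  have hEf := isFinLocFree_of_rank hE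
  have hq := QCoh.isQCoh_of_isFinLocFree hEf
  haveI := QCoh.free_stalk_of_isFinLocFree hEf x
  haveI := QCoh.finite_stalk_of_isFT hq (QCoh.isFT_of_isFP (QCoh.isFP_of_isFinLocFree hEf)) x
  obtain ⟨U, hxU, ⟨e⟩⟩ := hE x
  obtain ⟨_, ⟨V, hV, rfl⟩, hxV, hle⟩ := X.isBasis_affineOpens.exists_subset_of_mem_open hxU U.2
  obtain ⟨l⟩ := QCoh.free_sections hV hle e
  exact ⟨Module.finBasisOfFinrankEq _ _ (QCoh.finrank_stalk_of_freeChart hV hq l hxV)⟩

theorem len_tensor {E F : X.Modules} {e : ℕ} (hE : FlatMod.IsFinLocFreeOfRank e E) (x : X) :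
    len (CohB1.tensorMod E F) x = e * len F x := by
  obtain ⟨b⟩ := exists_basis hE x
  let T := (F.presheaf.stalk x : Type u)
  let M := (((DCoh.tensorBi.obj E).obj F).presheaf.stalk x : Type u)
  let φ : M ≃ₗ[X.presheaf.stalk x] (Fin e → T) :=
    (KFlatLib.stalkTensorIso x E F).symm.toLinearEquiv ≪≫ₗ
      TensorProduct.congr b.equivFun (LinearEquiv.refl _ _) ≪≫ₗ
      TensorProduct.comm (X.presheaf.stalk x) (Fin e → X.presheaf.stalk x) T ≪≫ₗ
      TensorProduct.piScalarRight (X.presheaf.stalk x) (X.presheaf.stalk x) T (Fin e)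
  show Module.length (X.presheaf.stalk x) M = _
  rw [φ.length_eq, Module.length_pi_of_fintype]
  simp [len, T]

theorem tensor_sub_mem [IsNoetherian X] {E F : X.Modules} {e : ℕ} (hE : FlatMod.IsFinLocFreeOfRank e E)
    (hF : Coh.IsCoh F) {r : ℕ} (hr : topologicalKrullDim ↥(CohB1.support F) ≤ r) :
    KZero.clSub (fun M : X.Modules => Coh.IsCoh M) (CohB1.tensorMod E F) -
        e • KZero.clSub (fun M : X.Modules => Coh.IsCoh M) F ∈ H r := by
  have hG := isCoh_tensor_rank hE hF
  have hs : CohB1.support (CohB1.tensorMod E F) ⊆ CohB1.support F := fun x hx hsub => hx <| by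
    have h0 : len (CohB1.tensorMod E F) x = 0 := by
      rw [len_tensor hE x, len_eq_zero (M := F) (not_not.2 hsub), mul_zero]
    exact Module.length_eq_zero_iff.1 h0
  obtain ⟨hfinG, fG, pG⟩ := good r hG ((H23.TopDim.dim_le_dim_of_subset hs).trans hr)
  obtain ⟨hfinF, fF, pF⟩ := good r hF hr
  have hsum : (∑ᶠ x, term r (CohB1.tensorMod E F) x) = e • ∑ᶠ x, term r F x := by
    rw [smul_finsum' e (fF.subset (term_support_subset r F))]
    refine finsum_congr fun x => ?_
    unfold term
    split_ifs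
    · rw [len_tensor hE x, ENat.toNat_mul, ENat.toNat_coe, mul_smul]
    · rw [smul_zero]
  have h := (H r).sub_mem pG ((H r).nsmul_mem pF e)
  rw [hsum, smul_sub, sub_sub_sub_cancel_right] at h
  exact h

end Groth.Agent.KZ.CycleClass
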