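import Groth.Agent.KZ.Localization
import Groth.Agent.KZ.CycleTensor
import Groth.Agent.KFlatLib.Scheme.PullTensorCx

/-! Rank minus class is nilpotent on `K₀` of coherent modules. -/

set_option autoImplicit false
set_option backward.isDefEq.respectTransparency false
set_option backward.isDefEq.respectTransparency.types false

universe u

open CategoryTheory CategoryTheory.Limits AlgebraicGeometry TopologicalSpace Opposite MonoidalCategory
open scoped TensorProduct

namespace Groth.Agent.KZ.RankNilp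

open Groth.Agent

variable {X : Scheme.{u}}

theorem support_X₂_subset {S : ShortComplex X.Modules} (hS : S.ShortExact) (h₁ : Coh.IsQCoh S.X₁)
    (h₂ : Coh.IsQCoh S.X₂) (h₃ : Coh.IsQCoh S.X₃) :
    CohB1.support S.X₂ ⊆ CohB1.support S.X₁ ∪ CohB1.support S.X₃ := fun x hx => by
  by_contra hc
  simp only [Set.mem_union, not_or] at hc
  refine hx ((Module.length_eq_zero_iff (R := X.presheaf.stalk x)).1 ?_)
  rw [CycLib.length_stalk_shortExact hS h₁ h₂ h₃ x, Module.length_eq_zero_iff.2 (not_not.1 hc.1),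
    Module.length_eq_zero_iff.2 (not_not.1 hc.2)]
  exact add_zero _

/-- Classes of coherent modules supported in `C`. -/
noncomputable def S (C : Set X) : AddSubgroup (KZero.K0sub fun M : X.Modules => Coh.IsCoh M) :=
  AddSubgroup.closure {c | ∃ M : X.Modules, Coh.IsCoh M ∧ CohB1.support M ⊆ C ∧
    c = KZero.clSub (fun M : X.Modules => Coh.IsCoh M) M}

variable [IsNoetherian X]

theorem isoMem {M N : X.Modules} (e : M ≅ N) (hM : Coh.IsCoh M) : Coh.IsCoh N :=
  (isClosedUnderIsomorphisms_isCoh).of_iso e hM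

theorem sigma_const {M : X.Modules} (hM : Coh.IsCoh M) : ∀ r : ℕ,
    Coh.IsCoh (∐ fun _ : Fin r => M) ∧ CohB1.support (∐ fun _ : Fin r => M) ⊆ CohB1.support M ∧
      KZero.clSub (fun M : X.Modules => Coh.IsCoh M) (∐ fun _ : Fin r => M) =
        r • KZero.clSub (fun M : X.Modules => Coh.IsCoh M) M := by
  intro r
  induction r with
  | zero =>
    have hz : IsZero (∐ fun _ : Fin 0 => M) :=
      (IsZero.iff_id_eq_zero _).2 (Sigma.hom_ext _ _ fun b => b.elim0)
    have hc : Coh.IsCoh (∐ fun _ : Fin 0 => M) :=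
      isoMem (IsZero.iso (isZero_zero _) hz) isCoh_zero
    refine ⟨hc, ?_, by rw [clSub_isZero _ hz, zero_smul]⟩
    rw [QCoh.support_eq_empty_of_isZero hz hc.1]
    exact Set.empty_subset _
  | succ n ih =>
    obtain ⟨hc, hs, hcl⟩ := ih
    let f : (∐ fun _ : Fin n => M) ⟶ ∐ fun _ : Fin (n + 1) => M :=
      Sigma.desc fun b => Sigma.ι (fun _ : Fin (n + 1) => M) b.castSucc
    let g : (∐ fun _ : Fin (n + 1) => M) ⟶ M :=
      Sigma.desc fun b => if b = Fin.last n then 𝟙 M else 0
    have hne : ∀ b : Fin n, b.castSucc ≠ Fin.last n := fun b => (Fin.castSucc_lt_last b).ne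
    have w : f ≫ g = 0 := Sigma.hom_ext _ _ fun b => by simp [f, g, hne b]
    let σ : (ShortComplex.mk f g w).Splitting :=
      { r := Sigma.desc fun b : Fin (n + 1) => Fin.lastCases 0 (fun c => Sigma.ι (fun _ : Fin n => M) c) b
        s := Sigma.ι (fun _ : Fin (n + 1) => M) (Fin.last n)
        f_r := Sigma.hom_ext _ _ fun b => by simp [f]
        s_g := by simp [g]
        id := Sigma.hom_ext _ _ fun b => by
          refine Fin.lastCases ?_ (fun c => ?_) b
          · simp [f, g]
          · simp [f, g, hne c] }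
    have hS := σ.shortExact
    have h2 : Coh.IsCoh (∐ fun _ : Fin (n + 1) => M) := isCoh_X₂ hS hc hM
    refine ⟨h2, (support_X₂_subset hS hc.1 h2.1 hM.1).trans (Set.union_subset hs le_rfl), ?_⟩
    rw [show KZero.clSub (fun M : X.Modules => Coh.IsCoh M) (∐ fun _ : Fin (n + 1) => M) = _ from
      clSub_ses (fun M : X.Modules => Coh.IsCoh M) hS hc h2 hM, succ_nsmul]
    exact congrArg (· + _) hcl

/-- `O ⊗ M ≅ M`. -/
noncomputable def structureTensorIso {Y : Scheme.{u}} (M : Y.Modules) :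
    (DCoh.tensorBi.obj (Coh.structureModule Y)).obj M ≅ M :=
  DCoh.shP.mapIso (λ_ (DCoh.toP.obj M)) ≪≫
    (@asIso _ _ _ _ (KFlatLib.counitShP Y) (NatIso.isIso_of_isIso_app _)).app M

omit [AlgebraicGeometry.IsNoetherian X] in
theorem restrict_tensor_free (U : X.Opens) {r : ℕ} {V : X.Modules}
    (e : V.restrict U.ι ≅ FlatMod.freeMod U.toScheme r) (M : X.Modules) :
    Nonempty (((DCoh.tensorBi.obj V).obj M).restrict U.ι ≅ (∐ fun _ : Fin r => M).restrict U.ι) :=
  let j := U.ι
  let ρ := Scheme.Modules.restrictFunctorIsoPullback j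
  ⟨ρ.app _ ≪≫ ((KFlatLib.pullTensorBiIso j).app V).app M ≪≫
      (DCoh.tensorBi.mapIso ((ρ.app V).symm ≪≫ e)).app _ ≪≫
      PreservesCoproduct.iso (DCoh.tensorBi.flip.obj _) _ ≪≫
      Sigma.mapIso (fun _ => structureTensorIso _ ≪≫ (ρ.app M).symm) ≪≫
      (PreservesCoproduct.iso (Scheme.Modules.restrictFunctor j) _).symm⟩

theorem diff_mem {G F₁ : X.Modules} (hG : Coh.IsCoh G) (hF : Coh.IsCoh F₁) (p : G ⟶ F₁)
    (U : X.Opens) [IsIso ((Scheme.Modules.restrictFunctor U.ι).map p)] {C : Set X}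
    (hGC : CohB1.support G ⊆ C) (hFC : CohB1.support F₁ ⊆ C) :
    KZero.clSub (fun M : X.Modules => Coh.IsCoh M) G - KZero.clSub (fun M : X.Modules => Coh.IsCoh M) F₁ ∈
      S (C ∩ (U : Set X)ᶜ) := by
  let R := Scheme.Modules.restrictFunctor U.ι
  haveI : PreservesFiniteLimits R := QCoh.restrict_preservesFiniteLimits U.ι
  have hk := QCoh.isCoh_kernel hG hF p
  have hc := QCoh.isCoh_cokernel hG.1 hF p
  have hI : Coh.IsCoh (cokernel (kernel.ι p)) := QCoh.isCoh_cokernel hk.1 hG _
  let m : cokernel (kernel.ι p) ⟶ F₁ := cokernel.desc _ p (kernel.condition p)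
  haveI : Mono m := inferInstanceAs (Mono (Abelian.factorThruCoimage p))
  have h1 := clSub_ses (fun M : X.Modules => Coh.IsCoh M) (shortExact_of_mono (kernel.ι p)) hk hG hI
  have hS2 : (ShortComplex.mk m (cokernel.π p) (by
      rw [← cancel_epi (cokernel.π (kernel.ι p))]; simp [m])).ShortExact := by
    refine .mk' ?_ inferInstance inferInstance
    refine ShortComplex.exact_of_g_is_cokernel _ (CokernelCofork.IsColimit.ofπ _ _
      (fun g hg => cokernel.desc p g (by
        rw [show p = cokernel.π (kernel.ι p) ≫ m by simp [m], Category.assoc]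
        exact (congrArg _ hg).trans comp_zero))
      (fun g hg => cokernel.π_desc _ _ _) (fun g hg b hb => ?_))
    rw [← cancel_epi (cokernel.π p), cokernel.π_desc]
    exact hb
  have h2 := clSub_ses (fun M : X.Modules => Coh.IsCoh M) hS2 hI hF hc
  have hkz : IsZero (R.obj (kernel p)) :=
    (isZero_kernel_of_mono (R.map p)).of_iso (PreservesKernel.iso R p)
  have hcz : IsZero (R.obj (cokernel p)) :=
    (isZero_cokernel_of_epi (R.map p)).of_iso (PreservesCokernel.iso R p)
  have e : KZero.clSub (fun M : X.Modules => Coh.IsCoh M) G - KZero.clSub (fun M : X.Modules => Coh.IsCoh M) F₁ =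
      KZero.clSub (fun M : X.Modules => Coh.IsCoh M) (kernel p) -
        KZero.clSub (fun M : X.Modules => Coh.IsCoh M) (cokernel p) := by
    rw [show KZero.clSub (fun M : X.Modules => Coh.IsCoh M) G = _ from h1,
      show KZero.clSub (fun M : X.Modules => Coh.IsCoh M) F₁ = _ from h2]
    abel
  rw [e]
  exact (S _).sub_mem
    (AddSubgroup.subset_closure ⟨_, hk, Set.subset_inter
      ((QCoh.mem_support_of_mono hk.1 hG.1 (kernel.ι p)).trans hGC) (Localization.isZero_restrict_iff hk hkz), rfl⟩)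
    (AddSubgroup.subset_closure ⟨_, hc, Set.subset_inter
      ((QCoh.support_of_epi hF.1 hc.1 (cokernel.π p)).trans hFC) (Localization.isZero_restrict_iff hc hcz), rfl⟩)

theorem tensor_step (U : X.Opens) {r : ℕ} {V : X.Modules} (hV : FlatMod.IsFinLocFreeOfRank r V)
    (e : V.restrict U.ι ≅ FlatMod.freeMod U.toScheme r) {M : X.Modules} (hM : Coh.IsCoh M) {C : Set X}
    (hC : CohB1.support M ⊆ C) :
    KZero.clSub (fun M : X.Modules => Coh.IsCoh M) ((DCoh.tensorBi.obj V).obj M) -
        r • KZero.clSub (fun M : X.Modules => Coh.IsCoh M) M ∈ S (C ∩ (U : Set X)ᶜ) := by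
  have h₁ : Coh.IsCoh ((DCoh.tensorBi.obj V).obj M) := CycleClass.isCoh_tensor_rank hV hM
  have s₁ : CohB1.support ((DCoh.tensorBi.obj V).obj M) ⊆ C := fun x hx => hC fun hsub => hx <| by
    have h0 : CycleClass.len (CohB1.tensorMod V M) x = 0 := by
      rw [CycleClass.len_tensor hV x, CycleClass.len_eq_zero (M := M) (not_not.2 hsub), mul_zero]
    exact Module.length_eq_zero_iff.1 h0
  obtain ⟨h₂, s₂, hcl⟩ := sigma_const hM r
  obtain ⟨φ⟩ := restrict_tensor_free U e M
  obtain ⟨G, p₁, p₂, hG, hmono, i₁, i₂⟩ := exists_span' U _ _ h₁ h₂ φ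
  haveI := hmono
  have hb := isCoh_biprod h₁ h₂
  have sG : CohB1.support G ⊆ C := (QCoh.mem_support_of_mono hG.1 hb.1 (biprod.lift p₁ p₂)).trans
    ((support_X₂_subset (S := ShortComplex.mk biprod.inl biprod.snd biprod.inl_snd)
      (ShortComplex.Splitting.ofHasBinaryBiproduct _ _).shortExact h₁.1 hb.1 h₂.1).trans
      (Set.union_subset s₁ (s₂.trans hC)))
  have a := diff_mem hG h₁ p₁ U sG s₁
  have b := diff_mem hG h₂ p₂ U sG (s₂.trans hC)
  have := (S _).sub_mem b a
  rwa [sub_sub_sub_cancel_left, hcl] at this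

theorem nilpotent {r : ℕ} {V : X.Modules} (hV : FlatMod.IsFinLocFreeOfRank r V)
    (D : KZero.K0sub (fun M : X.Modules => Coh.IsCoh M) →+ KZero.K0sub (fun M : X.Modules => Coh.IsCoh M))
    (hD : ∀ M : X.Modules, Coh.IsCoh M → D (KZero.clSub (fun M : X.Modules => Coh.IsCoh M) M) =
      KZero.clSub (fun M : X.Modules => Coh.IsCoh M) ((DCoh.tensorBi.obj V).obj M) -
        r • KZero.clSub (fun M : X.Modules => Coh.IsCoh M) M) :
    ∃ n : ℕ, ∀ y, (⇑D)^[n] y = 0 := by
  classical
  have hV' := hV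
  choose U hxU he using hV'
  obtain ⟨F, hF⟩ := isCompact_univ.elim_finite_subcover (fun x : X => (U x : Set X)) (fun x => (U x).2)
    fun x _ => Set.mem_iUnion.2 ⟨x, hxU x⟩
  have step : ∀ (x : X) (C : Set X) (y : KZero.K0sub (fun M : X.Modules => Coh.IsCoh M)),
      y ∈ S C → D y ∈ S (C ∩ (U x : Set X)ᶜ) := fun x C y hy => by
    have : S C ≤ (S (C ∩ (U x : Set X)ᶜ)).comap D := (AddSubgroup.closure_le _).2 <| by
      rintro _ ⟨M, hM, hs, rfl⟩
      rw [SetLike.mem_coe, AddSubgroup.mem_comap]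
      rw [hD M hM]
      exact tensor_step (U x) hV (he x).some hM hs
    exact this hy
  have all : ∀ y, y ∈ S (Set.univ : Set X) := fun y => by
    obtain ⟨w, rfl⟩ := QuotientAddGroup.mk_surjective y
    induction w using FreeAbelianGroup.induction_on with
    | zero => exact (S _).zero_mem
    | add a b ha hb => rw [QuotientAddGroup.mk_add]; exact (S _).add_mem ha hb
    | neg a ha => rw [QuotientAddGroup.mk_neg]; exact (S _).neg_mem ha
    | of N =>
      obtain ⟨N, hN⟩ := N
      exact AddSubgroup.subset_closure ⟨N, hN, Set.subset_univ _, (clSub_of_prop _ hN).symm⟩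
  have iter : ∀ T : Finset X, ∃ n : ℕ, ∀ y, (⇑D)^[n] y ∈ S (⋂ x ∈ T, (U x : Set X)ᶜ) := fun T => by
    induction T using Finset.induction with
    | empty => exact ⟨0, fun y => by simpa using all y⟩
    | @insert a T _ ih =>
      obtain ⟨n, hn⟩ := ih
      refine ⟨n + 1, fun y => ?_⟩
      rw [Function.iterate_succ', Finset.set_biInter_insert, Set.inter_comm]
      exact step a _ _ (hn y)
  obtain ⟨n, hn⟩ := iter F
  refine ⟨n, fun y => ?_⟩
  have he : (⋂ x ∈ F, (U x : Set X)ᶜ) = ∅ := Set.eq_empty_iff_forall_notMem.2 fun z hz => by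
    obtain ⟨x, hx, hzx⟩ := Set.mem_iUnion₂.1 (hF (Set.mem_univ z))
    exact Set.mem_iInter₂.1 hz x hx hzx
  have hbot : S (∅ : Set X) ≤ ⊥ := (AddSubgroup.closure_le _).2 <| by
    rintro _ ⟨M, hM, hs, rfl⟩
    refine AddSubgroup.mem_bot.2 (clSub_isZero _ (QCoh.isZero_of_app_eq_zero hM.1 fun W t =>
      TopCat.Presheaf.section_ext (show TopCat.Sheaf AddCommGrpCat.{u} X.toPresheafedSpace.carrier
        from ⟨M.presheaf, M.isSheaf⟩) W.1 t 0 fun x _ => ?_))
    haveI : Subsingleton (M.presheaf.stalk x) := not_not.1 fun h => hs h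
    exact Subsingleton.elim (α := M.presheaf.stalk x) _ _
  exact AddSubgroup.mem_bot.1 (hbot (he ▸ hn y))

end Groth.Agent.KZ.RankNilp
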