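import Groth.Agent.KZ.Derived
import Groth.Agent.QCoh.DevissageP
import Groth.Agent.QCoh.DevissageSum

/-! The thick class of coherent modules, and generators of its `K₀` by dévissage. -/

universe u

set_option backward.isDefEq.respectTransparency false
set_option backward.isDefEq.respectTransparency.types false

open CategoryTheory CategoryTheory.Limits AlgebraicGeometry Opposite ZeroObject

namespace Groth.Agent.KZ

variable {X : Scheme.{u}}

/-- The map on sections as a linear map. -/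
noncomputable def appLin {M N : X.Modules} (φ : M ⟶ N) (U : X.Opens) : Γ(M, U) →ₗ[Γ(X, U)] Γ(N, U) where
  toFun := φ.app U
  map_add' := map_add _
  map_smul' r m := Scheme.Modules.Hom.app_smul φ r m

theorem isCoh_X₂ {S : ShortComplex X.Modules} (hS : S.ShortExact) (h₁ : Coh.IsCoh S.X₁) (h₃ : Coh.IsCoh S.X₃) :
    Coh.IsCoh S.X₂ := by
  have hQ := QCoh.isQCoh_X₂ hS h₁.1 h₃.1
  refine QCoh.isCoh_iff.2 ⟨hQ, fun U => ?_⟩
  haveI := QCoh.finite_sections h₁ U.2
  haveI := QCoh.finite_sections h₃ U.2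
  have := hS.mono_f
  have := hS.epi_g
  refine ⟨Submodule.fg_of_fg_map_of_fg_inf_ker (appLin S.g U.1) ?_ ?_⟩
  · have htop : (⊤ : Submodule Γ(X, U.1) Γ(S.X₂, U.1)).map (appLin S.g U.1) = ⊤ :=
      eq_top_iff.2 fun y _ => by
        obtain ⟨x, hx⟩ := QCoh.app_surjective_of_epi hQ h₃.1 S.g U.2 y
        exact ⟨x, trivial, hx⟩
    rw [htop]
    exact Module.Finite.fg_top
  · have : (⊤ : Submodule Γ(X, U.1) Γ(S.X₂, U.1)) ⊓ LinearMap.ker (appLin S.g U.1) = (⊤ : Submodule _ _).map (appLin S.f U.1) := by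
      refine le_antisymm (fun x hx => ?_) ?_
      · obtain ⟨w, hw⟩ := QCoh.exists_app_f_eq hS U.1 x hx.2
        exact ⟨w, trivial, hw⟩
      · rintro _ ⟨w, -, rfl⟩
        exact ⟨trivial, QCoh.app_g_f U.1 w⟩
    rw [this]
    exact Module.Finite.fg_top.map _

theorem isClosedUnderIsomorphisms_isCoh :
    ObjectProperty.IsClosedUnderIsomorphisms (fun M : X.Modules => Coh.IsCoh M) :=
  ⟨fun {M N} e h => QCoh.isCoh_of_epi e.hom h
    ((SheafOfModules.isQuasicoherent X.ringCatSheaf).prop_of_iso e h.1)⟩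

theorem isCoh_zero [IsLocallyNoetherian X] : Coh.IsCoh (0 : X.Modules) := by
  have h := (QCoh.isCoh_structureModule' (X := X))
  exact QCoh.isCoh_of_epi (cokernel.π (𝟙 (Coh.structureModule X))) h
    ((QCoh.isCoh_cokernel h.1 h (𝟙 (Coh.structureModule X))).1) |> fun hc =>
      isClosedUnderIsomorphisms_isCoh.of_iso (IsZero.iso (isZero_cokernel_of_epi _) (isZero_zero _)) hc

variable (X) in
/-- Coherent modules as an object property. -/
def cohProp : ObjectProperty X.Modules := fun M => Coh.IsCoh M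

instance : (cohProp X).IsClosedUnderIsomorphisms := isClosedUnderIsomorphisms_isCoh

instance [IsLocallyNoetherian X] : (cohProp X).ContainsZero := ⟨⟨0, isZero_zero _, isCoh_zero⟩⟩

instance [IsLocallyNoetherian X] : (cohProp X).IsClosedUnderKernels :=
  ⟨fun K hK => by
    obtain ⟨f, k, hk, hM, hN⟩ := hK
    exact isClosedUnderIsomorphisms_isCoh.of_iso ((kernelIsKernel f).conePointUniqueUpToIso hk)
      (QCoh.isCoh_kernel hM hN f)⟩

instance [IsLocallyNoetherian X] : (cohProp X).IsClosedUnderCokernels :=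
  ⟨fun K hK => by
    obtain ⟨f, k, hk, hM, hN⟩ := hK
    exact isClosedUnderIsomorphisms_isCoh.of_iso ((cokernelIsCokernel f).coconePointUniqueUpToIso hk)
      (QCoh.isCoh_cokernel hM.1 hN f)⟩

instance [IsLocallyNoetherian X] : (cohProp X).IsClosedUnderExtensions :=
  ⟨fun hS h₁ h₃ => isCoh_X₂ hS h₁ h₃⟩

/-- `K₀` of coherent modules supported in a closed set is generated by modules of generic length one. -/
theorem closure_clSub_eq_top [IsNoetherian X] (Y' : Set X) {ι : Type u} (F : ι → X.Modules)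
    (hF : ∀ a : ι, Coh.IsCoh (F a) ∧ CohB1.support (F a) ⊆ Y')
    (hgen : ∀ (Z : Set X), IsClosed Z → IsIrreducible Z → Z ⊆ Y' → ∀ y : X, closure ({y} : Set X) = Z →
      ∃ a : ι, CohB1.support (F a) ⊆ Z ∧ Module.length (X.presheaf.stalk y) ((F a).presheaf.stalk y) = 1) :
    AddSubgroup.closure (Set.range fun a : ι =>
        KZero.clSub (fun G : X.Modules => Coh.IsCoh G ∧ CohB1.support G ⊆ Y') (F a)) = ⊤ := by
  set C : ObjectProperty X.Modules := fun G => Coh.IsCoh G ∧ CohB1.support G ⊆ Y' with hC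
  set H := AddSubgroup.closure (Set.range fun a : ι => KZero.clSub C (F a))
  have hiso : ∀ {M N : X.Modules}, (M ≅ N) → C M → C N := fun e h =>
    ⟨isClosedUnderIsomorphisms_isCoh.of_iso e h.1, (QCoh.support_iso e h.1.1).symm ▸ h.2⟩
  have h0 : C (0 : X.Modules) := ⟨isCoh_zero, by
    rw [QCoh.support_eq_empty_of_isZero (isZero_zero _) isCoh_zero.1]; exact Set.empty_subset _⟩
  let P : X.Modules → Prop := fun M => C M → KZero.clSub C M ∈ H
  have hP : ∀ M N : X.Modules, Nonempty (M ≅ N) → P M → P N := fun M N ⟨e⟩ h hN => by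
    rw [← clSub_iso C e (hiso e.symm hN) hN (isZero_zero _) h0]
    exact h (hiso e.symm hN)
  have hsub : ∀ {S : ShortComplex X.Modules}, S.ShortExact → Coh.IsCoh S.X₁ → Coh.IsCoh S.X₂ → Coh.IsCoh S.X₃ →
      CohB1.support S.X₂ ⊆ Y' → C S.X₁ ∧ C S.X₂ ∧ C S.X₃ := fun {S} hS a b c d => by
    have := hS.mono_f
    have := hS.epi_g
    exact ⟨⟨a, (QCoh.mem_support_of_mono a.1 b.1 S.f).trans d⟩, ⟨b, d⟩,
      ⟨c, (QCoh.support_of_epi b.1 c.1 S.g).trans d⟩⟩
  refine (AddSubgroup.eq_top_iff' H).2 fun z => ?_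
  obtain ⟨w, rfl⟩ := QuotientAddGroup.mk_surjective z
  induction w using FreeAbelianGroup.induction_on with
  | zero => exact H.zero_mem
  | add a b ha hb => rw [QuotientAddGroup.mk_add]; exact H.add_mem ha hb
  | neg a ha => rw [QuotientAddGroup.mk_neg]; exact H.neg_mem ha
  | of M =>
    obtain ⟨M, hM⟩ := M
    rw [← clSub_of_prop C hM]
    refine QCoh.devissage P hP (fun N hN _ => by rw [clSub_isZero C hN]; exact H.zero_mem) Y'
      (fun S hS a b c d p1 p3 hb => ?_) (fun y hy hsmall Z i _ _ hr => ?_)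
      (fun S hS a b c d p2 p3 ha => ?_) hM.1 hM.2 hM
    · obtain ⟨h1, h2, h3⟩ := hsub hS a b c d
      rw [clSub_ses C hS h1 h2 h3]
      exact H.add_mem (p1 h1) (p3 h3)
    · obtain ⟨k, hk, hlen⟩ := hgen _ isClosed_closure isIrreducible_singleton.closure hy y rfl
      refine QCoh.push_structure_of_simple P hP y (fun S hS a b c d => ?_) hsmall (hF k).1 hk ?_
        (QCoh.simpleAt_of_length (hF k).1.1 y hlen) (fun _ => AddSubgroup.subset_closure ⟨k, rfl⟩) i hr
      · obtain ⟨h1, h2, h3⟩ := hsub hS a b c (d.trans hy)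
        have he := clSub_ses C hS h1 h2 h3
        refine ⟨fun p1 p2 _ => ?_, fun p1 p3 _ => ?_, fun p2 p3 _ => ?_⟩
        · rw [show KZero.clSub C S.X₃ = KZero.clSub C S.X₂ - KZero.clSub C S.X₁ by rw [he]; abel]
          exact H.sub_mem (p2 h2) (p1 h1)
        · rw [he]; exact H.add_mem (p1 h1) (p3 h3)
        · rw [show KZero.clSub C S.X₁ = KZero.clSub C S.X₂ - KZero.clSub C S.X₃ by rw [he]; abel]
          exact H.sub_mem (p2 h2) (p3 h3)
      · intro hs
        haveI := hs
        rw [Module.length_eq_zero] at hlen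
        exact zero_ne_one hlen
    · obtain ⟨h1, h2, h3⟩ := hsub hS a b c d
      rw [show KZero.clSub C S.X₁ = KZero.clSub C S.X₂ - KZero.clSub C S.X₃ by
        rw [clSub_ses C hS h1 h2 h3]; abel]
      exact H.sub_mem (p2 h2) (p3 h3)

end Groth.Agent.KZ
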