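import Groth.Agent.KZ.Basic

/-! Dévissage for `K₀` of abelian categories. -/

set_option autoImplicit false

universe v u v' u'

open CategoryTheory CategoryTheory.Limits ZeroObject

namespace Groth.Agent.KZ

variable {A : Type u} [Category.{v} A] [Abelian A]

/-- `Fil P Q M c`: `M` has a finite filtration in `P` with factors in `Q` whose classes add up to `c`. -/
inductive Fil (P Q : ObjectProperty A) : A → KZero.K0sub Q → Prop
  | zero {M : A} : IsZero M → P M → Fil P Q M 0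
  | step {S : ShortComplex A} {c : KZero.K0sub Q} : S.ShortExact → P S.X₂ → Q S.X₃ → Fil P Q S.X₁ c →
      Fil P Q S.X₂ (c + KZero.clSub Q S.X₃)

/-- `P` is an abelian subcategory and `Q` is closed under subobjects and quotients in `P`. -/
structure DevData (P Q : ObjectProperty A) : Prop where
  isoP : P.IsClosedUnderIsomorphisms
  zeroP : P 0
  kerP : ∀ {X Y : A} (f : X ⟶ Y), P X → P Y → P (kernel f)
  cokerP : ∀ {X Y : A} (f : X ⟶ Y), P X → P Y → P (cokernel f)
  le : ∀ X, Q X → P X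
  zeroQ : Q 0
  closed : ∀ S : ShortComplex A, S.ShortExact → P S.X₁ → P S.X₃ → Q S.X₂ → Q S.X₁ ∧ Q S.X₃

variable {P Q : ObjectProperty A}

theorem Fil.mem {M : A} {c : KZero.K0sub Q} (h : Fil P Q M c) : P M := by
  cases h with
  | zero _ h => exact h
  | step _ h _ _ => exact h

theorem Fil.iso (D : DevData P Q) {M M' : A} {c : KZero.K0sub Q} (h : Fil P Q M c) (e : M ≅ M') :
    Fil P Q M' c := by
  haveI := D.isoP
  cases h with
  | zero h hp => exact .zero (h.of_iso e.symm) (P.prop_of_iso e hp)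
  | @step S c hS h2 h3 h1 =>
    exact Fil.step (S := ShortComplex.mk (S.f ≫ e.hom) (e.inv ≫ S.g) (by simp))
      (ShortComplex.shortExact_of_iso (S₁ := S) (ShortComplex.isoMk (S₁ := S) (Iso.refl _) e (Iso.refl _) (by simp) (by simp)) hS)
      (P.prop_of_iso e h2) h3 h1

theorem isoQ (D : DevData P Q) {X Y : A} (e : X ≅ Y) (h : Q X) : Q Y := by
  haveI := D.isoP
  exact (D.closed (ShortComplex.mk (0 : (0 : A) ⟶ X) e.hom zero_comp)
    (shortExact_iso_zero e (isZero_zero A)) D.zeroP (P.prop_of_iso e (D.le _ h)) h).2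

theorem shortExact_of_epi {X Y : A} (p : X ⟶ Y) [Epi p] :
    (ShortComplex.mk (kernel.ι p) p (kernel.condition p)).ShortExact :=
  .mk' (ShortComplex.exact_of_f_is_kernel _ (kernelIsKernel p)) inferInstance ‹_›

theorem shortExact_of_mono {X Y : A} (j : X ⟶ Y) [Mono j] :
    (ShortComplex.mk j (cokernel.π j) (cokernel.condition j)).ShortExact :=
  .mk' (ShortComplex.exact_of_g_is_cokernel _ (cokernelIsCokernel j)) ‹_› inferInstance

theorem Fil.sub (D : DevData P Q) {M : A} {c : KZero.K0sub Q} (h : Fil P Q M c) :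
    ∀ {K L : A} (j : K ⟶ M) (p : M ⟶ L) (w : j ≫ p = 0), (ShortComplex.mk j p w).ShortExact → P K → P L →
      ∃ c₁ c₂, Fil P Q K c₁ ∧ Fil P Q L c₂ ∧ c = c₁ + c₂ := by
  haveI := D.isoP
  induction h with
  | zero hz hp =>
    intro K L j p w hT hK hL
    have := hT.mono_f
    have := hT.epi_g
    exact ⟨0, 0, .zero (IsZero.of_mono j hz) hK, .zero (IsZero.of_epi p hz) hL, (add_zero _).symm⟩
  | @step S c hS h2 h3 h1 ih =>
    intro K L j p w hT hK hL
    have := hT.mono_f
    have := hT.epi_g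
    have := hS.mono_f
    have := hS.epi_g
    have hP1 := h1.mem
    let g' := j ≫ S.g
    let I : A := Limits.image g'
    let ι : I ⟶ S.X₃ := Limits.image.ι g'
    let π : K ⟶ I := factorThruImage g'
    have hπι : π ≫ ι = g' := Limits.image.fac g'
    haveI : Epi π := inferInstanceAs (Epi (factorThruImage g'))
    let K' : A := kernel g'
    have hK' : P K' := D.kerP g' hK (D.le _ h3)
    have hπk : kernel.ι g' ≫ π = 0 := by
      rw [← cancel_mono ι, Category.assoc, hπι, kernel.condition, zero_comp]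
    have hT₁ : (ShortComplex.mk (kernel.ι g') π hπk).ShortExact := by
      refine .mk' ?_ inferInstance inferInstance
      refine ShortComplex.exact_of_f_is_kernel _ (KernelFork.IsLimit.ofι _ _
        (fun x hx => kernel.lift g' x (by rw [← hπι, ← Category.assoc, hx, zero_comp]))
        (fun x hx => kernel.lift_ι _ _ _) (fun x hx m hm => ?_))
      ext
      simpa using hm
    have hI : P I := P.prop_of_iso
      (IsColimit.coconePointUniqueUpToIso (cokernelIsCokernel (kernel.ι g')) hT₁.gIsCokernel)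
      (D.cokerP _ hK' hK)
    let Y : A := cokernel ι
    have hY : P Y := D.cokerP ι hI (D.le _ h3)
    have hQ := D.closed _ (shortExact_of_mono ι) hI hY h3
    have hzero : (kernel.ι g' ≫ j) ≫ S.g = 0 := (Category.assoc _ _ _).trans (kernel.condition g')
    let j' : K' ⟶ S.X₁ := hS.exact.lift (kernel.ι g' ≫ j) hzero
    have hj' : j' ≫ S.f = kernel.ι g' ≫ j := hS.exact.lift_f _ _
    haveI : Mono j' := by
      have : Mono (j' ≫ S.f) := by rw [hj']; infer_instance
      exact mono_of_mono j' S.f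
    let L' : A := cokernel j'
    have hL' : P L' := D.cokerP _ hK' hP1
    obtain ⟨c₁, c₂, hc₁, hc₂, hc⟩ := ih j' (cokernel.π j') (cokernel.condition j')
      (shortExact_of_mono j') hK' hL'
    have hsum : KZero.clSub Q S.X₃ = KZero.clSub Q I + KZero.clSub Q Y :=
      clSub_ses Q (shortExact_of_mono ι) hQ.1 h3 hQ.2
    have hK1 : Fil P Q K (c₁ + KZero.clSub Q I) := Fil.step hT₁ hK hQ.1 hc₁
    let a : L' ⟶ L := cokernel.desc j' (S.f ≫ p) (by rw [← Category.assoc, hj', Category.assoc, w, comp_zero])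
    obtain ⟨b, hb⟩ : ∃ b : L ⟶ Y, p ≫ b = S.g ≫ cokernel.π ι := by
      refine ⟨hT.exact.desc (S.g ≫ cokernel.π ι) ?_, hT.exact.g_desc _ _⟩
      show j ≫ S.g ≫ cokernel.π ι = 0
      rw [← Category.assoc, show j ≫ S.g = π ≫ ι from hπι.symm, Category.assoc, cokernel.condition, comp_zero]
    have hab : a ≫ b = 0 := by
      rw [← cancel_epi (cokernel.π j')]
      simp [a, hb]
    have hepi : Epi b := by
      have : Epi (p ≫ b) := by rw [hb]; infer_instance
      exact epi_of_epi p b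
    have hmono : Mono a := by
      refine Preadditive.mono_of_cancel_zero _ fun {W} x hx => ?_
      obtain ⟨W', r, hr, y, hy⟩ := surjective_up_to_refinements_of_epi (cokernel.π j') x
      have hy0 : (y ≫ S.f) ≫ p = 0 := by
        rw [show (y ≫ S.f) ≫ p = (y ≫ cokernel.π j') ≫ a by simp [a], ← hy, Category.assoc, hx, comp_zero]
      let z : W' ⟶ K := hT.exact.lift (y ≫ S.f) hy0
      have hz : z ≫ j = y ≫ S.f := hT.exact.lift_f _ _
      have hz0 : z ≫ g' = 0 := by
        show z ≫ j ≫ S.g = 0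
        rw [← Category.assoc, hz, Category.assoc, S.zero, comp_zero]
      have hyj : y = kernel.lift g' z hz0 ≫ j' := by
        rw [← cancel_mono S.f, Category.assoc, hj', ← Category.assoc, kernel.lift_ι, hz]
      rw [← cancel_epi r, hy, hyj, Category.assoc, cokernel.condition, comp_zero, comp_zero]
    have hex : (ShortComplex.mk a b hab).Exact := by
      rw [ShortComplex.exact_iff_exact_up_to_refinements]
      intro W x hx
      dsimp at x hx ⊢
      obtain ⟨W₁, r₁, hr₁, m, hm⟩ := surjective_up_to_refinements_of_epi p x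
      have hm0 : (m ≫ S.g) ≫ cokernel.π ι = 0 := by
        rw [Category.assoc, ← hb, ← Category.assoc, ← hm, Category.assoc, hx, comp_zero]
      let i : W₁ ⟶ I := (shortExact_of_mono ι).exact.lift (m ≫ S.g) hm0
      have hi : i ≫ ι = m ≫ S.g := (shortExact_of_mono ι).exact.lift_f _ _
      obtain ⟨W₂, r₂, hr₂, k, hk⟩ := surjective_up_to_refinements_of_epi π i
      have hd : (r₂ ≫ m - k ≫ j) ≫ S.g = 0 := by
        rw [Preadditive.sub_comp, Category.assoc, Category.assoc, show j ≫ S.g = π ≫ ι from hπι.symm,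
          ← Category.assoc k, ← hk, Category.assoc, hi, sub_self]
      let n : W₂ ⟶ S.X₁ := hS.exact.lift (r₂ ≫ m - k ≫ j) hd
      have hn : n ≫ S.f = r₂ ≫ m - k ≫ j := hS.exact.lift_f _ _
      refine ⟨W₂, r₂ ≫ r₁, inferInstance, n ≫ cokernel.π j', ?_⟩
      have : (n ≫ cokernel.π j') ≫ a = (n ≫ S.f) ≫ p := by simp [a]
      rw [this, hn, Preadditive.sub_comp, Category.assoc, Category.assoc k, w, comp_zero, sub_zero,
        Category.assoc, hm]
    have hL1 : Fil P Q L (c₂ + KZero.clSub Q Y) :=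
      Fil.step (S := ShortComplex.mk a b hab) (.mk' hex hmono hepi) hL hQ.2 hc₂
    exact ⟨_, _, hK1, hL1, by rw [hc, hsum]; abel⟩

theorem Fil.eq_clSub (D : DevData P Q) {M : A} {c : KZero.K0sub Q} (h : Fil P Q M c) (hQ : Q M) :
    c = KZero.clSub Q M := by
  induction h with
  | zero hz _ => rw [clSub_isZero Q hz]
  | @step S c hS h2 h3 h1 ih =>
    have hq := D.closed S hS h1.mem (D.le _ h3) hQ
    rw [ih hq.1, ← clSub_ses Q hS hq.1 hQ hq.2]

theorem Fil.unique (D : DevData P Q) {M : A} {c c' : KZero.K0sub Q} (h : Fil P Q M c) (h' : Fil P Q M c') :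
    c = c' := by
  induction h generalizing c' with
  | zero hz hp =>
    rw [h'.eq_clSub D (isoQ D (IsZero.iso (isZero_zero A) hz) D.zeroQ), clSub_isZero Q hz]
  | @step S c hS h2 h3 h1 ih =>
    obtain ⟨c₁, c₂, hc₁, hc₂, hc⟩ := h'.sub D S.f S.g S.zero hS h1.mem (D.le _ h3)
    rw [hc, ← ih hc₁, ← hc₂.eq_clSub D h3]

/-- Dévissage: the inclusion of `Q` in `P` induces an isomorphism on `K₀`. -/
theorem devissage_equiv (D : DevData P Q) (hfil : ∀ M, P M → ∃ c, Fil P Q M c) :
    ∃ φ : KZero.K0sub Q ≃+ KZero.K0sub P, ∀ X, Q X → φ (KZero.clSub Q X) = KZero.clSub P X := by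
  classical
  obtain ⟨f, hf⟩ := exists_liftSub Q (fun X => KZero.clSub P X) fun S hS a b c =>
    clSub_ses P hS (D.le _ a) (D.le _ b) (D.le _ c)
  have hex : ∀ M : A, ∃ c, P M → Fil P Q M c := fun M =>
    if h : P M then let ⟨c, hc⟩ := hfil M h; ⟨c, fun _ => hc⟩ else ⟨0, fun h' => absurd h' h⟩
  choose F hF using hex
  obtain ⟨g, hg⟩ := exists_liftSub P F fun S hS a b c => by
    obtain ⟨c₁, c₂, hc₁, hc₂, hc⟩ := (hF _ b).sub D S.f S.g S.zero hS a c
    rw [hc, hc₁.unique D (hF _ a), hc₂.unique D (hF _ c)]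
  refine ⟨AddMonoidHom.toAddEquiv f g (K0sub_hom_ext Q fun X hX => ?_) (K0sub_hom_ext P fun X hX => ?_),
    fun X hX => hf X hX⟩
  · rw [AddMonoidHom.comp_apply, hf X hX, hg X (D.le _ hX), AddMonoidHom.id_apply]
    exact (hF X (D.le _ hX)).eq_clSub D hX
  · rw [AddMonoidHom.comp_apply, hg X hX, AddMonoidHom.id_apply]
    have key : ∀ {M : A} {c : KZero.K0sub Q}, Fil P Q M c → f c = KZero.clSub P M := fun h => by
      induction h with
      | zero hz _ => rw [map_zero, clSub_isZero P hz]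
      | @step S c hS h2 h3 h1 ih => rw [map_add, ih, hf _ h3, ← clSub_ses P hS h1.mem h2 (D.le _ h3)]
    exact key (hF X hX)

/-- Transport of `K₀` along an exact fully faithful functor. -/
theorem exists_equiv_sub {B : Type u'} [Category.{v'} B] [Abelian B] (F : A ⥤ B) [F.Additive]
    [PreservesFiniteLimits F] [PreservesFiniteColimits F] (P : ObjectProperty A) (Q : ObjectProperty B)
    (hPQ : ∀ X, P X → Q (F.obj X)) (hff : ∀ X Y, P X → P Y → Function.Bijective (F.map : (X ⟶ Y) → _))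
    (hreflect : ∀ S : ShortComplex A, P S.X₁ → P S.X₂ → P S.X₃ → (S.map F).ShortExact → S.ShortExact)
    (hess : ∀ Y, Q Y → ∃ X, P X ∧ Nonempty (F.obj X ≅ Y)) (hP0 : ∃ Z, IsZero Z ∧ P Z) :
    ∃ φ : KZero.K0sub P ≃+ KZero.K0sub Q, ∀ X, P X → φ (KZero.clSub P X) = KZero.clSub Q (F.obj X) := by
  classical
  obtain ⟨Z, hZ, hPZ⟩ := hP0
  have hFZ : IsZero (F.obj Z) := F.map_isZero hZ
  obtain ⟨f, hf⟩ := exists_liftSub P (fun X => KZero.clSub Q (F.obj X)) fun S hS a b c =>
    clSub_ses Q (hS.map_of_exact F) (hPQ _ a) (hPQ _ b) (hPQ _ c)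
  have : ∀ Y : B, ∃ X : A, Q Y → P X ∧ Nonempty (F.obj X ≅ Y) := fun Y =>
    if h : Q Y then let ⟨X, e⟩ := hess Y h; ⟨X, fun _ => e⟩ else ⟨Z, fun h' => absurd h' h⟩
  choose G hG using this
  have pre : ∀ {X Y : A}, P X → P Y → (F.obj X ≅ F.obj Y) → Nonempty (X ≅ Y) := fun {X Y} hX hY e => by
    obtain ⟨a, ha⟩ := (hff X Y hX hY).2 e.hom
    obtain ⟨b, hb⟩ := (hff Y X hY hX).2 e.inv
    exact ⟨⟨a, b, (hff X X hX hX).1 (by rw [F.map_comp, ha, hb, F.map_id, e.hom_inv_id]),
      (hff Y Y hY hY).1 (by rw [F.map_comp, hb, ha, F.map_id, e.inv_hom_id])⟩⟩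
  obtain ⟨g, hg⟩ := exists_liftSub Q (fun Y => KZero.clSub P (G Y)) fun S hS a b c => by
    obtain ⟨p1, ⟨e1⟩⟩ := hG _ a
    obtain ⟨p2, ⟨e2⟩⟩ := hG _ b
    obtain ⟨p3, ⟨e3⟩⟩ := hG _ c
    obtain ⟨u, hu⟩ := (hff _ _ p1 p2).2 (e1.hom ≫ S.f ≫ e2.inv)
    obtain ⟨v, hv⟩ := (hff _ _ p2 p3).2 (e2.hom ≫ S.g ≫ e3.inv)
    have huv : u ≫ v = 0 := (hff _ _ p1 p3).1 (by rw [F.map_comp, hu, hv, F.map_zero]; simp)
    refine clSub_ses P (hreflect (ShortComplex.mk u v huv) p1 p2 p3 ?_) p1 p2 p3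
    exact ShortComplex.shortExact_of_iso
      (ShortComplex.isoMk (S₁ := S) e1.symm e2.symm e3.symm
        ((congrArg (e1.inv ≫ ·) hu).trans (e1.inv_hom_id_assoc _))
        ((congrArg (e2.inv ≫ ·) hv).trans (e2.inv_hom_id_assoc _))) hS
  refine ⟨AddMonoidHom.toAddEquiv f g (K0sub_hom_ext P fun X hX => ?_) (K0sub_hom_ext Q fun Y hY => ?_),
    fun X hX => hf X hX⟩
  · rw [AddMonoidHom.comp_apply, hf X hX, hg _ (hPQ _ hX), AddMonoidHom.id_apply]
    obtain ⟨p, ⟨e⟩⟩ := hG _ (hPQ _ hX)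
    exact clSub_iso P (pre p hX e).some p hX hZ hPZ
  · rw [AddMonoidHom.comp_apply, hg Y hY, hf _ (hG Y hY).1, AddMonoidHom.id_apply]
    exact clSub_iso Q (hG Y hY).2.some (hPQ _ (hG Y hY).1) hY hFZ (hPQ _ hPZ)

end Groth.Agent.KZ
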