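import Groth.Prelude.Def_SGA6
import Groth.Agent.KZ.Devissage
import Groth.Agent.KZ.CohClass
import Groth.Agent.QCoh.ClosedPush
import Groth.Agent.QCoh.Filtration
import Groth.Agent.H23.RedSub

/-! Dévissage of coherent modules along closed immersions. -/

set_option autoImplicit false
set_option backward.isDefEq.respectTransparency false
set_option backward.isDefEq.respectTransparency.types false

universe u

open CategoryTheory CategoryTheory.Limits AlgebraicGeometry TopologicalSpace Opposite ZeroObject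
open scoped TensorProduct

namespace Groth.Agent.KZ.ClosedDev

open Groth.Agent

variable {X Z : Scheme.{u}} (i : Z ⟶ X) [IsClosedImmersion i]

theorem exists_preimage_eq (V : Z.Opens) : ∃ U : X.Opens, i ⁻¹ᵁ U = V := by
  obtain ⟨U, hU, he⟩ := i.isClosedEmbedding.isInducing.isOpen_iff.1 V.2
  exact ⟨⟨U, hU⟩, Opens.ext he⟩

theorem push_map_injective {M N : Z.Modules} (φ ψ : M ⟶ N)
    (h : (Scheme.Modules.pushforward i).map φ = (Scheme.Modules.pushforward i).map ψ) : φ = ψ := by
  ext V : 1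
  obtain ⟨U, rfl⟩ := exists_preimage_eq i V
  exact congrArg (fun f => Scheme.Modules.Hom.app f U) h

theorem isIso_of_isIso_push {M N : Z.Modules} (φ : M ⟶ N) [IsIso ((Scheme.Modules.pushforward i).map φ)] :
    IsIso φ := by
  refine Scheme.Modules.Hom.isIso_iff_isIso_app.2 fun V => ?_
  obtain ⟨U, rfl⟩ := exists_preimage_eq i V
  exact Scheme.Modules.Hom.isIso_iff_isIso_app.1 (inferInstance : IsIso ((Scheme.Modules.pushforward i).map φ)) U

/-- A module killed by the ideal of the closed subscheme. -/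
def Killed (G : X.Modules) : Prop :=
  ∀ (U : X.affineOpens), ∀ a ∈ i.ker.ideal U, ∀ s : Γ(G, U.1), a • s = 0

theorem killed_push (M : Z.Modules) : Killed i ((Scheme.Modules.pushforward i).obj M) := fun U a ha s => by
  refine (QCoh.pushforward_smul i U.1 a s).trans ?_
  rw [Scheme.Hom.ker_apply] at ha
  exact (congrArg (fun t => (t : Γ(Z, i ⁻¹ᵁ U.1)) • (show Γ(M, i ⁻¹ᵁ U.1) from s)) (RingHom.mem_ker.1 ha)).trans
    (zero_smul Γ(Z, i ⁻¹ᵁ U.1) _)

theorem killed_push_reduced {Y : Scheme.{u}} (j : Y ⟶ X) [IsReduced Y] [IsClosedImmersion j]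
    (hj : Set.range j ⊆ Set.range i) (M : Y.Modules) :
    Killed i ((Scheme.Modules.pushforward j).obj M) := fun U a ha s => by
  refine (QCoh.pushforward_smul j U.1 a s).trans ?_
  obtain ⟨g, rfl⟩ := H23.RedSub.exists_lift_closed j i hj
  rw [Scheme.Hom.ker_apply] at ha
  have h0 : (g ≫ i).app U.1 a = 0 := by
    rw [Scheme.Hom.comp_app]
    exact (congrArg (g.app (i ⁻¹ᵁ U.1)) (RingHom.mem_ker.1 ha)).trans (map_zero _)
  exact (congrArg (fun t => (t : Γ(Y, (g ≫ i) ⁻¹ᵁ U.1)) • (show Γ(M, (g ≫ i) ⁻¹ᵁ U.1) from s)) h0).trans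
    (zero_smul Γ(Y, (g ≫ i) ⁻¹ᵁ U.1) _)

theorem Killed.of_mono {A B : X.Modules} (f : A ⟶ B) [Mono f] (h : Killed i B) : Killed i A :=
  fun U a ha s => QCoh.app_injective f U.1 (by
    rw [map_zero]; exact (Scheme.Modules.Hom.app_smul f a s).trans (h U a ha _))

theorem Killed.of_epi {A B : X.Modules} (f : A ⟶ B) [Epi f] (hA : Coh.IsQCoh A) (hB : Coh.IsQCoh B)
    (h : Killed i A) : Killed i B := fun U a ha s => by
  obtain ⟨t, rfl⟩ := QCoh.app_surjective_of_epi hA hB f U.2 s
  exact (Scheme.Modules.Hom.app_smul f a t).symm.trans ((congrArg _ (h U a ha t)).trans (map_zero _))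

theorem Killed.of_isZero {A : X.Modules} (hA : IsZero A) : Killed i A := fun U a _ s => by
  have h : Scheme.Modules.Hom.app (𝟙 A) U.1 (a • s) = Scheme.Modules.Hom.app (0 : A ⟶ A) U.1 (a • s) := by
    rw [hA.eq_of_src (𝟙 A) 0]
  exact h

theorem isCoh_pull {M : X.Modules} (hM : Coh.IsCoh M) : Coh.IsCoh ((Scheme.Modules.pullback i).obj M) := by
  let N := (Scheme.Modules.pullback i).obj M
  refine ⟨QCoh.isQCoh_pullback i hM.1, ?_⟩
  refine QCoh.isFT_of_finite (QCoh.isQCoh_pullback i hM.1) (fun U : X.affineOpens => i ⁻¹ᵁ U.1)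
    (top_unique fun x _ => ?_) (fun U => U.2.preimage i) fun U => ?_
  · obtain ⟨_, ⟨U, hU, rfl⟩, hxU, -⟩ := X.isBasis_affineOpens.exists_subset_of_mem_open
      (Set.mem_univ (i x)) isOpen_univ
    exact Opens.mem_iSup.2 ⟨⟨U, hU⟩, hxU⟩
  letI : Algebra Γ(X, U.1) Γ(Z, i ⁻¹ᵁ U.1) := (i.app U.1).hom.toAlgebra
  letI : Module Γ(X, U.1) Γ(N, i ⁻¹ᵁ U.1) := Module.compHom _ (i.app U.1).hom
  haveI : IsScalarTower Γ(X, U.1) Γ(Z, i ⁻¹ᵁ U.1) Γ(N, i ⁻¹ᵁ U.1) := .of_algebraMap_smul fun _ _ => rfl
  haveI := QCoh.finite_sections hM U.2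
  let l : Γ(M, U.1) →ₗ[Γ(X, U.1)] Γ(N, i ⁻¹ᵁ U.1) :=
    { toFun := QCoh.pullSec i M le_rfl
      map_add' := QCoh.pullSec_add i M le_rfl
      map_smul' := fun r m => (QCoh.pullSec_smul i M le_rfl r m).trans
        (congrArg (fun t => (t : Γ(Z, i ⁻¹ᵁ U.1)) • QCoh.pullSec i M le_rfl m)
          (by rw [← Scheme.Hom.app_eq_appLE]; rfl)) }
  exact Module.Finite.equiv (QCoh.isBaseChange_pullback U.2 i (U.2.preimage i) hM.1 le_rfl
    (fun r => by rw [← Scheme.Hom.app_eq_appLE]; rfl) l fun x => rfl).equiv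

theorem isIso_counit {M : Z.Modules} (hM : Coh.IsQCoh ((Scheme.Modules.pushforward i).obj M)) :
    IsIso ((Scheme.Modules.pullbackPushforwardAdjunction i).counit.app M) := by
  have := (QCoh.isIso_unit_closed_iff i hM).2 (killed_push i M)
  have h := (Scheme.Modules.pullbackPushforwardAdjunction i).right_triangle_components M
  haveI : IsIso ((Scheme.Modules.pushforward i).map
      ((Scheme.Modules.pullbackPushforwardAdjunction i).counit.app M)) := by
    rw [(IsIso.eq_inv_of_hom_inv_id h : _ = inv _)]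
    infer_instance
  exact isIso_of_isIso_push i _

theorem push_map_bijective {M N : Z.Modules} (hM : Coh.IsQCoh ((Scheme.Modules.pushforward i).obj M)) :
    Function.Bijective ((Scheme.Modules.pushforward i).map : (M ⟶ N) → _) := by
  refine ⟨fun φ ψ h => push_map_injective i φ ψ h, fun f => ?_⟩
  let adj := Scheme.Modules.pullbackPushforwardAdjunction i
  haveI : IsIso (adj.unit.app ((Scheme.Modules.pushforward i).obj M)) :=
    (QCoh.isIso_unit_closed_iff i hM).2 (killed_push i M)
  haveI := isIso_counit i hM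
  refine ⟨inv (adj.counit.app M) ≫ (Scheme.Modules.pullback i).map f ≫ adj.counit.app N, ?_⟩
  have h1 : (Scheme.Modules.pushforward i).map (adj.counit.app M) = inv (adj.unit.app ((Scheme.Modules.pushforward i).obj M)) :=
    IsIso.eq_inv_of_hom_inv_id (adj.right_triangle_components M)
  rw [Functor.map_comp, Functor.map_comp, Functor.map_inv]
  simp only [h1, IsIso.inv_inv]
  rw [← Category.assoc, adj.unit_naturality, Category.assoc, adj.right_triangle_components]
  exact Category.comp_id f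

theorem isCoh_obj_iff [IsNoetherian X] {M : Z.Modules} :
    Coh.IsCoh M → Coh.IsCoh ((Scheme.Modules.pushforward i).obj M) :=
  fun h => QCoh.isCoh_push i h

/-- Dévissage along a closed immersion with the same points. -/
theorem mapSub_bijective [IsNoetherian X] [Surjective i]
    [(Scheme.Modules.pushforward i).Additive] [PreservesFiniteLimits (Scheme.Modules.pushforward i)]
    [PreservesFiniteColimits (Scheme.Modules.pushforward i)]
    (hi : ∀ M : Z.Modules, Coh.IsCoh M → Coh.IsCoh ((Scheme.Modules.pushforward i).obj M)) :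
    Function.Bijective (SGA6.mapSub (Scheme.Modules.pushforward i) (fun M : Z.Modules => Coh.IsCoh M)
      (fun M : X.Modules => Coh.IsCoh M) hi) := by
  let P : ObjectProperty X.Modules := fun M => Coh.IsCoh M
  let Q : ObjectProperty X.Modules := fun M => Coh.IsCoh M ∧ Killed i M
  haveI : IsLocallyNoetherian Z := LocallyOfFiniteType.isLocallyNoetherian i
  have D : DevData P Q :=
    { isoP := isClosedUnderIsomorphisms_isCoh
      zeroP := isCoh_zero
      kerP := fun f hX hY => QCoh.isCoh_kernel hX hY f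
      cokerP := fun f hX hY => QCoh.isCoh_cokernel hX.1 hY f
      le := fun M h => h.1
      zeroQ := ⟨isCoh_zero, Killed.of_isZero i (isZero_zero _)⟩
      closed := fun S hS h1 h3 h2 => by
        have := hS.mono_f
        have := hS.epi_g
        exact ⟨⟨h1, h2.2.of_mono i S.f⟩, ⟨h3, h2.2.of_epi i S.g h2.1.1 h3.1⟩⟩ }
  obtain ⟨φ, hφ⟩ := devissage_equiv D fun M hM => by
    induction QCoh.filt_of_isCoh hM with
    | @zero N h => exact ⟨0, .zero h hM⟩
    | @step N M' f _ _ hNc hMc hex ih =>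
      obtain ⟨c, hc⟩ := ih hNc
      obtain ⟨Y, j, hj, hY, I, ι, hι, hI, -, ⟨e⟩⟩ := hex
      haveI := hj; haveI := hY
      have hcok := QCoh.isCoh_cokernel hNc.1 hMc f
      have hk : Killed i (cokernel f) := (killed_push_reduced i j
        (fun x _ => i.surjective x) I).of_mono i e.hom
      exact ⟨_, Fil.step (shortExact_of_mono f) hMc ⟨hcok, hk⟩ hc⟩
  haveI : (Scheme.Modules.pushforward i).Faithful := ⟨fun {A B} {f g} h => push_map_injective i f g h⟩
  obtain ⟨ψ, hψ⟩ := exists_equiv_sub (Scheme.Modules.pushforward i) (fun M : Z.Modules => Coh.IsCoh M) Q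
    (fun M hM => ⟨hi M hM, killed_push i M⟩) (fun M N hM _ => push_map_bijective i (hi M hM).1)
    (fun S _ _ _ hS => by
      exact .mk' ((ShortComplex.exact_map_iff_of_faithful S _).1 hS.exact)
        ((Scheme.Modules.pushforward i).mono_of_mono_map hS.mono_f)
        ((Scheme.Modules.pushforward i).epi_of_epi_map hS.epi_g))
    (fun M hM => by
      have := (QCoh.isIso_unit_closed_iff i hM.1.1).2 hM.2
      exact ⟨_, isCoh_pull i hM.1,
        ⟨(asIso ((Scheme.Modules.pullbackPushforwardAdjunction i).unit.app M)).symm⟩⟩)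
    ⟨0, isZero_zero _, isCoh_zero⟩
  have he : (SGA6.mapSub (Scheme.Modules.pushforward i) (fun M : Z.Modules => Coh.IsCoh M)
      (fun M : X.Modules => Coh.IsCoh M) hi) = φ.toAddMonoidHom.comp ψ.toAddMonoidHom := by
    refine K0sub_hom_ext _ fun M hM => ?_
    show _ = φ (ψ _)
    rw [hψ M hM, hφ _ ⟨hi M hM, killed_push i M⟩, clSub_of_prop (fun M : Z.Modules => Coh.IsCoh M) hM,
      clSub_of_prop (fun M : X.Modules => Coh.IsCoh M) (hi M hM)]
    rfl
  rw [he]
  exact φ.bijective.comp ψ.bijective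

end Groth.Agent.KZ.ClosedDev
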