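import Groth.Agent.KZ.LFRes
import Groth.Agent.KZ.ClosedDev
import Groth.Agent.KFlatLib.Perfect.LocFree
import Groth.Agent.PnCoh.Finite.Projective
import Groth.Agent.PnCoh.Finite.TwistInv
import Groth.Agent.QCoh.DevissageSum
import Groth.Agent.GrpSchLib.SmoothRegular
import Groth.Agent.Proj16.Points

/-! Subschemes of projective space have enough locally free modules. -/

set_option autoImplicit false
set_option backward.isDefEq.respectTransparency false
set_option backward.isDefEq.respectTransparency.types false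

universe u

open CategoryTheory CategoryTheory.Limits AlgebraicGeometry TopologicalSpace Opposite ZeroObject

namespace Groth.Agent.KZ.QuasiProj

open Groth.Agent MvPolynomial

attribute [local instance] Abelian.hasFiniteBiproducts

theorem flf_of_invertible {X : Scheme.{u}} {L : X.Modules} (hL : PicF.IsInvertible L) : FlatMod.IsFinLocFree L :=
  fun x => let ⟨U, hx, ⟨e⟩⟩ := hL x
    ⟨U, 1, hx, ⟨e ≪≫ (coproductUniqueIso fun _ : Fin 1 => Coh.structureModule (U : Scheme.{u})).symm⟩⟩

theorem flf_biproduct {X : Scheme.{u}} [IsNoetherian X] {β : Type u} [Fintype β] (T : β → X.Modules)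
    (h : ∀ b, FlatMod.IsFinLocFree (T b)) : FlatMod.IsFinLocFree (⨁ T) := by
  refine LFRes.pdlt_one_iff.1 ⟨QCoh.isCoh_biproduct T fun b => LFRes.flf_isCoh (h b), fun x => ?_⟩
  have hproj : ∀ b, Projective ((DerSch.stalkFunctor X x).obj (T b)) := fun b =>
    projective_iff_hasProjectiveDimensionLT_one.2 ((LFRes.pdlt_one_iff.2 (h b)).2 x)
  haveI : PreservesColimitsOfShape (Discrete β) (DerSch.stalkFunctor X x) := inferInstance
  haveI := preservesBiproductsOfShape_of_preservesCoproductsOfShape (J := β) (DerSch.stalkFunctor X x)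
  haveI : ∀ b, Projective (((DerSch.stalkFunctor X x).obj ∘ T) b) := fun b => (hproj b)
  haveI : Projective (LFRes.stk (⨁ T) x) :=
    Projective.of_iso ((DerSch.stalkFunctor X x).mapBiproduct T).symm inferInstance
  infer_instance

/-- Enough locally free modules on projective space. -/
theorem enough_projSpace (k : Type u) [Field k] (N : ℕ) : KRR.HasEnoughLocFree (CohB1.ProjSpace N k) := by
  intro F hF
  let 𝒜 := CohB1.polyGrading N k
  let f : ULift.{u} (Fin (N + 1)) → MvPolynomial (Fin (N + 1)) k := fun j => MvPolynomial.X j.down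
  have hf : ∀ j, f j ∈ 𝒜 1 := fun j => isHomogeneous_X k j.down
  have hcov : ⨆ j, PnCoh.Finite.D 𝒜 (f j) = ⊤ := by
    refine top_le_iff.1 ?_
    refine le_trans (PnCoh.iSup_mOpen_single (ι := Fin (N + 1)) (R := k)).ge ?_
    refine iSup_le fun j => ?_
    exact le_iSup_of_le (ULift.up j) le_rfl
  haveI hP : IsNoetherian (Proj 𝒜) := Proj16.isNoetherian_proj _
  have hnoeth : ∀ j, IsNoetherianRing Γ(Proj 𝒜, PnCoh.Finite.D 𝒜 (f j)) := fun j =>
    IsLocallyNoetherian.component_noetherian ⟨_, PnCoh.Finite.isAffineOpen_D hf j⟩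
  obtain ⟨ι, hι, d, S, p, q, hS, hF3, -, -, hpq⟩ :=
    PnCoh.Finite.exists_presentation hf hcov hnoeth (PnCoh.Finite.good_of_isCoh hf (F := F) hF)
  haveI := hι
  haveI := hS.epi_g
  let T : ι → (Proj 𝒜).Modules := fun a => Twist.twist 𝒜 (d a)
  let g : (⨁ T) ⟶ S.X₃ := biproduct.desc fun a => q a ≫ S.g
  haveI : Epi g := ⟨fun {Z} u v huv => by
    rw [← cancel_epi S.g, ← Category.id_comp S.g, ← hpq, Preadditive.sum_comp, Preadditive.sum_comp,
      Preadditive.sum_comp]
    refine Finset.sum_congr rfl fun a _ => ?_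
    have hq : q a ≫ S.g ≫ u = q a ≫ S.g ≫ v := by
      have h := congrArg (biproduct.ι T a ≫ ·) huv
      simp only [g, biproduct.ι_desc_assoc, Category.assoc] at h
      exact h
    simp only [Category.assoc, hq]⟩
  exact ⟨⨁ T, g ≫ eqToHom hF3, flf_biproduct T fun a =>
    flf_of_invertible (PnCoh.Finite.isInvertible_twist f hf hcov (d a)), epi_comp _ _⟩

theorem enough_open {X : Scheme.{u}} [IsNoetherian X] (hX : KRR.HasEnoughLocFree X) (U : X.Opens) :
    KRR.HasEnoughLocFree U.toScheme := by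
  intro F hF
  obtain ⟨G, hq, hft, ⟨e⟩⟩ := QCoh.exists_extension_abs (extStep U) F hF.1 hF.2
  obtain ⟨E, p, hE, hp⟩ := hX G ⟨hq, hft⟩
  let R := Scheme.Modules.restrictFunctor U.ι
  refine ⟨(Scheme.Modules.pullback U.ι).obj E,
    ((Scheme.Modules.restrictFunctorIsoPullback U.ι).app E).inv ≫ R.map p ≫ e.hom,
    KFlatLib.isFinLocFree_pullback U.ι hE, ?_⟩
  haveI : Epi (R.map p) := inferInstance
  exact epi_comp _ _

theorem enough_closed {X Z : Scheme.{u}} [IsNoetherian X] (hX : KRR.HasEnoughLocFree X) (i : Z ⟶ X)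
    [IsClosedImmersion i] : KRR.HasEnoughLocFree Z := by
  intro F hF
  have hiF : Coh.IsCoh ((Coh.push i).obj F) := QCoh.isCoh_push i hF
  obtain ⟨E, p, hE, hp⟩ := hX _ hiF
  haveI := ClosedDev.isIso_counit i hiF.1
  refine ⟨(Scheme.Modules.pullback i).obj E, (Scheme.Modules.pullback i).map p ≫
    (Scheme.Modules.pullbackPushforwardAdjunction i).counit.app F,
    KFlatLib.isFinLocFree_pullback i hE, ?_⟩
  haveI : Epi ((Scheme.Modules.pullback i).map p) := inferInstance
  exact epi_comp _ _

theorem noetherian_and_enough {k : Type u} [Field k] {N : ℕ} {X : Scheme.{u}}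
    (ι : X ⟶ CohB1.ProjSpace N k) [IsImmersion ι] :
    IsNoetherian X ∧ KRR.HasEnoughLocFree X := by
  haveI : IsNoetherian (CohB1.ProjSpace N k) := Proj16.isNoetherian_proj _
  let U := ι.coborderRange
  haveI : IsLocallyNoetherian U.toScheme := isLocallyNoetherian_of_isOpenImmersion U.ι
  haveI : CompactSpace U.toScheme := isCompact_iff_compactSpace.1 (NoetherianSpace.isCompact _)
  haveI : IsNoetherian U.toScheme := {}
  haveI : IsLocallyNoetherian X := LocallyOfFiniteType.isLocallyNoetherian ι.liftCoborder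
  haveI : CompactSpace X := QuasiCompact.compactSpace_of_compactSpace ι.liftCoborder
  exact ⟨{}, enough_closed (enough_open (enough_projSpace k N) U) ι.liftCoborder⟩

theorem bijective_smooth (k : Type u) [Field k] (N : ℕ) (X : Scheme.{u}) (f : X ⟶ Spec (CommRingCat.of k)) [Smooth f]
    (ι : X ⟶ CohB1.ProjSpace N k) [IsImmersion ι] :
    ∃ α : KZero.K0sub (fun M : X.Modules => FlatMod.IsFinLocFree M) →+ KZero.K0sub (fun M : X.Modules => Coh.IsCoh M),
      (∀ E : X.Modules, FlatMod.IsFinLocFree E →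
        α (KZero.clSub (fun M : X.Modules => FlatMod.IsFinLocFree M) E) = KZero.clSub (fun M : X.Modules => Coh.IsCoh M) E) ∧
      Function.Bijective α := by
  obtain ⟨hN, hE⟩ := noetherian_and_enough ι
  haveI := hN
  obtain ⟨α, hα⟩ := exists_liftSub (fun M : X.Modules => FlatMod.IsFinLocFree M)
    (fun M => KZero.clSub (fun M : X.Modules => Coh.IsCoh M) M) fun S hS a b c =>
      clSub_ses (fun M : X.Modules => Coh.IsCoh M) hS (LFRes.flf_isCoh a) (LFRes.flf_isCoh b) (LFRes.flf_isCoh c)
  exact ⟨α, hα, LFRes.bijective_regular hE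
    (fun x => GrpSchLib.isRegularLocalRing_stalk_of_smooth f x) α hα⟩

end Groth.Agent.KZ.QuasiProj
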