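import Groth.Prelude.Def_ChowK
import Groth.Agent.KZ.CohClass
import Groth.Agent.CycLib.StalkSES
import Groth.Agent.H23.TopDim

/-! The class of a coherent module modulo smaller dimension is the class of its cycle. -/

set_option autoImplicit false
set_option backward.isDefEq.respectTransparency false
set_option backward.isDefEq.respectTransparency.types false

universe u

open CategoryTheory CategoryTheory.Limits AlgebraicGeometry TopologicalSpace Opposite

namespace Groth.Agent.KZ.CycleClass

open Groth.Agent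

variable {X : Scheme.{u}}

theorem lt_succ_cast {d : WithBot ℕ∞} {m : ℕ} (h : d < ((m + 1 : ℕ) : WithBot ℕ∞)) :
    d ≤ (m : WithBot ℕ∞) := by
  rcases d with _ | _ | k
  · exact bot_le
  · exact absurd h (not_lt_of_ge (WithBot.coe_le_coe.2 le_top))
  · have h' : ((k : ℕ∞) : WithBot ℕ∞) < ((m + 1 : ℕ) : WithBot ℕ∞) := h
    show ((k : ℕ∞) : WithBot ℕ∞) ≤ (m : WithBot ℕ∞)
    norm_cast at h' ⊢
    omega

/-- The closure of a point is irreducible, so a closed subset missing the point has smaller dimension. -/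
theorem dim_lt {x : X} {n : ℕ} (hn : topologicalKrullDim ↥(closure ({x} : Set X)) ≤ n) {C : Set X}
    (hC : IsClosed C) (hCx : C ⊆ closure {x}) (hx : x ∉ C) : topologicalKrullDim ↥C < n := by
  set T : Set X := closure {x} with hT
  haveI : IrreducibleSpace ↥T :=
    { toPreirreducibleSpace := Subtype.preirreducibleSpace isIrreducible_singleton.closure.2
      toNonempty := ⟨⟨x, subset_closure rfl⟩⟩ }
  have hfin : topologicalKrullDim ↥T ≠ ⊤ := fun h => by
    rw [h] at hn
    exact absurd hn (not_le_of_gt (WithBot.coe_lt_coe.2 (ENat.coe_lt_top n)))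
  set Y : Set ↥T := Subtype.val ⁻¹' C
  have hYc : IsClosed Y := hC.preimage continuous_subtype_val
  have hne : Y ≠ Set.univ := fun h => hx (h.ge (Set.mem_univ ⟨x, subset_closure rfl⟩) : _)
  have h1 : topologicalKrullDim ↥Y < n := (H23.TopDim.dim_lt_of_ssubset hfin hYc hne).trans_le hn
  refine lt_of_le_of_lt ?_ h1
  have hg : Topology.IsInducing (fun c : ↥C => (⟨⟨c.1, hCx c.2⟩, c.2⟩ : ↥Y)) :=
    Topology.IsInducing.of_comp (f := fun c : ↥C => (⟨⟨c.1, hCx c.2⟩, c.2⟩ : ↥Y))
      (g := fun y : ↥Y => y.1.1) (by fun_prop) (by fun_prop)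
      (Topology.IsInducing.subtypeVal (t := C))
  exact hg.topologicalKrullDim_le

theorem eq_of_dim {x y : X} {n : ℕ} (hn : topologicalKrullDim ↥(closure ({x} : Set X)) ≤ n)
    (hy : topologicalKrullDim ↥(closure ({y} : Set X)) = n) (hxy : y ∈ closure ({x} : Set X)) : y = x := by
  by_contra hne
  refine (dim_lt hn isClosed_closure ((closure_minimal (Set.singleton_subset_iff.2 hxy) isClosed_closure))
    (fun hx => hne ?_)).ne hy
  exact ((specializes_iff_mem_closure.2 hx).antisymm (specializes_iff_mem_closure.2 hxy)).eq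

/-- Points spanning a subset of dimension `n`. -/
def D (n : ℕ) : Set X := {x | topologicalKrullDim ↥(closure ({x} : Set X)) = n}

theorem notMem_support_of_dim_lt {M : X.Modules} (hM : Coh.IsCoh M) {n : ℕ}
    (h : topologicalKrullDim ↥(CohB1.support M) < n) {x : X} (hx : x ∈ D (X := X) n) :
    x ∉ CohB1.support M := fun hm => h.not_ge (hx.ge.trans (H23.TopDim.dim_le_dim_of_subset
      ((QCoh.isClosed_support_of_isFT hM.1 hM.2).closure_subset_iff.2 (Set.singleton_subset_iff.2 hm))))

/-- The length of the stalk of a module at a point. -/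
noncomputable def len (M : X.Modules) (x : X) : ℕ∞ :=
  Module.length (X.presheaf.stalk x) (M.presheaf.stalk x)

theorem len_eq_zero {M : X.Modules} {x : X} (h : x ∉ CohB1.support M) : len M x = 0 :=
  Module.length_eq_zero_iff.2 (not_not.1 h)

section Integral

variable [IsNoetherian X] {Z : Scheme.{u}} (i : Z ⟶ X) [IsClosedImmersion i] [IsIntegral Z]

theorem not_isZero_structureModule : ¬ IsZero (Coh.structureModule Z) := fun h => by
  have h1 : Scheme.Modules.Hom.app (𝟙 (Coh.structureModule Z)) ⊤ (1 : Γ(Z, ⊤)) =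
      Scheme.Modules.Hom.app (0 : Coh.structureModule Z ⟶ Coh.structureModule Z) ⊤ (1 : Γ(Z, ⊤)) := by
    rw [h.eq_of_src (𝟙 _) 0]
  exact one_ne_zero (α := Γ(Z, ⊤)) h1

theorem generic_mem_support :
    i (genericPoint Z) ∈ CohB1.support ((Coh.push i).obj (Coh.structureModule Z)) :=
  (QCoh.mem_support_push_ideal i (𝟙 _) QCoh.isQCoh_structureModule not_isZero_structureModule).1

theorem len_push_structure :
    len ((Coh.push i).obj (Coh.structureModule Z)) (i (genericPoint Z)) = 1 := by
  set M := (Coh.push i).obj (Coh.structureModule Z)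
  set ξ := i (genericPoint Z) with hξ
  obtain ⟨U, hU, hξU⟩ := QCoh.exists_affine_mem ξ
  set e : M.presheaf.stalk ξ := M.presheaf.germ U ξ hξU (1 : Γ(Z, i ⁻¹ᵁ U))
  let L := LinearMap.toSpanSingleton (X.presheaf.stalk ξ) (M.presheaf.stalk ξ) e
  have hne : Nontrivial (M.presheaf.stalk ξ) := not_subsingleton_iff_nontrivial.1 (generic_mem_support i)
  have hsurj : Function.Surjective L := fun t => by
    obtain ⟨V, hV, hξV, m, rfl⟩ := CycLib.exists_germ_affine M t
    obtain ⟨_, ⟨W, hW, rfl⟩, hξW, hle⟩ :=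
      X.isBasis_affineOpens.exists_subset_of_mem_open (show ξ ∈ U ⊓ V from ⟨hξU, hξV⟩) (U ⊓ V).isOpen
    have hWU : W ≤ U := fun a ha => (hle ha).1
    have hWV : W ≤ V := fun a ha => (hle ha).2
    set m' : Γ(M, W) := M.presheaf.map (homOfLE hWV).op m
    obtain ⟨r, hr⟩ := i.app_surjective W hW (show Γ(Z, i ⁻¹ᵁ W) from m')
    refine ⟨X.presheaf.germ W ξ hξW r, ?_⟩
    show X.presheaf.germ W ξ hξW r • e = _
    rw [show e = M.presheaf.germ W ξ hξW (M.presheaf.map (homOfLE hWU).op (1 : Γ(Z, i ⁻¹ᵁ U))) from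
        (TopCat.Presheaf.germ_res_apply (F := M.presheaf) (homOfLE hWU) ξ hξW _).symm,
      ← QCoh.germ_smul']
    refine Eq.trans (congrArg _ ?_) (TopCat.Presheaf.germ_res_apply (F := M.presheaf) (homOfLE hWV) ξ hξW m)
    refine (QCoh.pushforward_smul i W r _).trans ?_
    have h1 : (show Γ(Z, i ⁻¹ᵁ W) from M.presheaf.map (homOfLE hWU).op (1 : Γ(Z, i ⁻¹ᵁ U))) = 1 :=
      map_one (Z.presheaf.map ((Opens.map i.base).map (homOfLE hWU)).op).hom
    exact (congrArg (fun a : Γ(Z, i ⁻¹ᵁ W) => (i.app W r) * a) h1).trans ((mul_one _).trans hr)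
  have hker : LinearMap.ker L = IsLocalRing.maximalIdeal (X.presheaf.stalk ξ) := by
    refine ((IsLocalRing.maximalIdeal.isMaximal _).eq_of_le ?_ fun a ha => ?_).symm
    · intro h
      obtain ⟨t, ht⟩ := exists_ne (0 : M.presheaf.stalk ξ)
      obtain ⟨a, rfl⟩ := hsurj t
      exact ht (LinearMap.mem_ker.1 (h.ge trivial))
    · obtain ⟨V, hξV, r, rfl⟩ := X.presheaf.exists_germ_eq a
      set W := U ⊓ V
      have hξW : ξ ∈ W := ⟨hξU, hξV⟩
      rw [LinearMap.mem_ker]
      show X.presheaf.germ V ξ hξV r • e = 0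
      rw [show e = M.presheaf.germ W ξ hξW (M.presheaf.map (homOfLE inf_le_left).op (1 : Γ(Z, i ⁻¹ᵁ U))) from
          (TopCat.Presheaf.germ_res_apply (F := M.presheaf) (homOfLE (inf_le_left : W ≤ U)) ξ hξW _).symm,
        ← X.presheaf.germ_res_apply (homOfLE (inf_le_right : W ≤ V)) ξ hξW r, ← QCoh.germ_smul']
      set r' : Γ(X, W) := X.presheaf.map (homOfLE (inf_le_right : W ≤ V)).op r
      have hr0 : i.app W r' = 0 := by
        by_contra hc
        have hb := (QCoh.ne_zero_iff_mem_basicOpen _).1 hc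
        rw [← Scheme.preimage_basicOpen] at hb
        have hu : IsUnit (X.presheaf.germ W ξ hξW r') := (X.mem_basicOpen _ _ hξW).1 hb
        rw [X.presheaf.germ_res_apply] at hu
        exact (IsLocalRing.mem_maximalIdeal _).1 ha hu
      refine (congrArg _ ((QCoh.pushforward_smul i W r' _).trans ?_)).trans (map_zero _)
      rw [hr0]
      exact zero_mul (M₀ := Γ(Z, i ⁻¹ᵁ W)) _
  refine Module.length_eq_one_iff.2 (isSimpleModule_iff_quot_maximal.2
    ⟨LinearMap.ker L, hker ▸ IsLocalRing.maximalIdeal.isMaximal _,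
      ⟨(L.quotKerEquivOfSurjective hsurj).symm⟩⟩)

end Integral

variable [IsNoetherian X]

/-- Coherent modules. -/
local notation "𝒞" => fun M : X.Modules => Coh.IsCoh M

noncomputable section

/-- The subgroup generated by classes of modules of dimension `< n`. -/
def H (n : ℕ) : AddSubgroup (KZero.K0sub fun M : X.Modules => Coh.IsCoh M) :=
  AddSubgroup.closure {c | ∃ G : X.Modules, Coh.IsCoh G ∧
    topologicalKrullDim ↥(CohB1.support G) < n ∧ c = KZero.clSub (fun M : X.Modules => Coh.IsCoh M) G}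

/-- The summand at a point of the cycle of a module. -/
noncomputable def term (n : ℕ) (M : X.Modules) (x : X) : KZero.K0sub fun M : X.Modules => Coh.IsCoh M :=
  if topologicalKrullDim ↥(closure ({x} : Set X)) = n then
    (len M x).toNat • KZero.clSub (fun M : X.Modules => Coh.IsCoh M) (Cyc.closureStructureSheaf x) else 0

theorem term_support_subset (n : ℕ) (M : X.Modules) :
    Function.support (term n M) ⊆ {x | x ∈ D n ∧ len M x ≠ 0} := fun x hx => by
  simp only [Function.mem_support, term] at hx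
  split_ifs at hx with h
  · exact ⟨h, fun h0 => hx (by rw [h0]; simp)⟩
  · exact absurd rfl hx

/-- The inductive statement. -/
def Good (n : ℕ) (M : X.Modules) : Prop :=
  (∀ x ∈ D (X := X) n, len M x ≠ ⊤) ∧ {x | x ∈ D (X := X) n ∧ len M x ≠ 0}.Finite ∧
    KZero.clSub (fun M : X.Modules => Coh.IsCoh M) M - (∑ᶠ x, term n M x) ∈ H n

theorem good_of_small {n : ℕ} {M : X.Modules} (hM : Coh.IsCoh M)
    (h : topologicalKrullDim ↥(CohB1.support M) < n) : Good n M := by
  have h0 : ∀ x ∈ D (X := X) n, len M x = 0 := fun x hx => len_eq_zero (notMem_support_of_dim_lt hM h hx)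
  refine ⟨fun x hx => by simp [h0 x hx], ?_, ?_⟩
  · convert Set.finite_empty
    ext x
    simpa using fun hx => h0 x hx
  · rw [finsum_eq_zero_of_forall_eq_zero, sub_zero]
    · exact AddSubgroup.subset_closure ⟨M, hM, h, rfl⟩
    · intro x
      unfold term
      split_ifs with hx
      · rw [h0 x hx]; simp
      · rfl

theorem good_ext {n : ℕ} {S : ShortComplex X.Modules} (hS : S.ShortExact) (h₁ : Coh.IsCoh S.X₁)
    (h₂ : Coh.IsCoh S.X₂) (h₃ : Coh.IsCoh S.X₃) :
    (Good n S.X₁ → Good n S.X₃ → Good n S.X₂) ∧ (Good n S.X₂ → Good n S.X₃ → Good n S.X₁) := by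
  have hl : ∀ x, len S.X₂ x = len S.X₁ x + len S.X₃ x := fun x =>
    CycLib.length_stalk_shortExact hS h₁.1 h₂.1 h₃.1 x
  have hc := clSub_ses (fun M : X.Modules => Coh.IsCoh M) hS h₁ h₂ h₃
  have hsum : (∀ x ∈ D (X := X) n, len S.X₁ x ≠ ⊤ ∧ len S.X₃ x ≠ ⊤) →
      {x | x ∈ D (X := X) n ∧ len S.X₁ x ≠ 0}.Finite → {x | x ∈ D (X := X) n ∧ len S.X₃ x ≠ 0}.Finite →
      (∑ᶠ x, term n S.X₂ x) = (∑ᶠ x, term n S.X₁ x) + ∑ᶠ x, term n S.X₃ x := fun ht f1 f3 => by
    rw [← finsum_add_distrib (f1.subset (term_support_subset n _)) (f3.subset (term_support_subset n _))]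
    refine finsum_congr fun x => ?_
    unfold term
    split_ifs with hx
    · rw [hl, ENat.toNat_add (ht x hx).1 (ht x hx).2, add_smul]
    · rw [add_zero]
  constructor
  · rintro ⟨t1, f1, p1⟩ ⟨t3, f3, p3⟩
    refine ⟨fun x hx => by rw [hl]; exact WithTop.add_ne_top.2 ⟨t1 x hx, t3 x hx⟩,
      (f1.union f3).subset fun x hx => ?_, ?_⟩
    · rcases eq_or_ne (len S.X₁ x) 0 with h | h
      · exact Or.inr ⟨hx.1, fun h' => hx.2 (by rw [hl, h, h', add_zero])⟩
      · exact Or.inl ⟨hx.1, h⟩
    · rw [hsum (fun x hx => ⟨t1 x hx, t3 x hx⟩) f1 f3, hc, add_sub_add_comm]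
      exact (H n).add_mem p1 p3
  · rintro ⟨t2, f2, p2⟩ ⟨t3, f3, p3⟩
    have t1 : ∀ x ∈ D (X := X) n, len S.X₁ x ≠ ⊤ := fun x hx => by
      have := t2 x hx
      rw [hl] at this
      exact (WithTop.add_ne_top.1 this).1
    have f1 : {x | x ∈ D (X := X) n ∧ len S.X₁ x ≠ 0}.Finite :=
      f2.subset fun x hx => ⟨hx.1, fun h => hx.2 (by rw [hl] at h; exact (add_eq_zero.1 h).1)⟩
    refine ⟨t1, f1, ?_⟩
    have := (H n).sub_mem p2 p3
    rw [hsum (fun x hx => ⟨t1 x hx, t3 x hx⟩) f1 f3, hc, add_sub_add_comm, add_sub_cancel_right] at this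
    exact this

theorem clSub_push_structure {Z : Scheme.{u}} (i : Z ⟶ X) [IsClosedImmersion i] [IsIntegral Z] :
    KZero.clSub (fun M : X.Modules => Coh.IsCoh M) ((Coh.push i).obj (Coh.structureModule Z)) =
      KZero.clSub (fun M : X.Modules => Coh.IsCoh M) (Cyc.closureStructureSheaf (i (genericPoint Z))) := by
  haveI : IsIntegral (IntMult.ptIdeal (i (genericPoint Z))).subscheme :=
    QCoh.isIntegral_closure_point (i (genericPoint Z))
  obtain ⟨e⟩ := QCoh.push_structure_iso i (IntMult.ptIdeal (i (genericPoint Z))).subschemeι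
    ((H23.RedSub.range_vanishingIdeal _).trans (QCoh.range_eq_closure i).symm)
  exact (clSub_iso _ e (QCoh.isCoh_push_structure _) (QCoh.isCoh_push_structure _) (isZero_zero _)
    isCoh_zero).symm

theorem isCoh_closureStructureSheaf (x : X) : Coh.IsCoh (Cyc.closureStructureSheaf x) :=
  QCoh.isCoh_push_structure _

theorem support_closureStructureSheaf_subset (x : X) :
    CohB1.support (Cyc.closureStructureSheaf x) ⊆ closure {x} :=
  (QCoh.support_push_subset _ QCoh.isQCoh_structureModule).trans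
    (H23.RedSub.range_vanishingIdeal _).subset

theorem good_push_structure {Z : Scheme.{u}} (i : Z ⟶ X) [IsClosedImmersion i] [IsIntegral Z] {n : ℕ}
    (hn : topologicalKrullDim ↥(closure ({i (genericPoint Z)} : Set X)) ≤ n) :
    Good n ((Coh.push i).obj (Coh.structureModule Z)) := by
  set ξ := i (genericPoint Z) with hξ
  set M := (Coh.push i).obj (Coh.structureModule Z)
  have hM : Coh.IsCoh M := QCoh.isCoh_push_structure i
  have hs : CohB1.support M ⊆ closure {ξ} :=
    QCoh.range_eq_closure i ▸ QCoh.support_push_subset i QCoh.isQCoh_structureModule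
  rcases hn.lt_or_eq with hlt | heq
  · exact good_of_small hM ((H23.TopDim.dim_le_dim_of_subset hs).trans_lt hlt)
  have h0 : ∀ x ∈ D (X := X) n, x ≠ ξ → len M x = 0 := fun x hx hne =>
    len_eq_zero fun hm => hne (eq_of_dim hn hx (hs hm))
  refine ⟨fun x hx => ?_, (Set.finite_singleton ξ).subset fun x hx => ?_, ?_⟩
  · rcases eq_or_ne x ξ with rfl | hne
    · rw [len_push_structure i]; simp
    · rw [h0 x hx hne]; simp
  · by_contra hne
    exact hx.2 (h0 x hx.1 hne)
  · rw [finsum_eq_single _ ξ fun x hne => ?_]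
    · have e1 : term n M ξ = KZero.clSub (fun M : X.Modules => Coh.IsCoh M) M := by
        unfold term
        rw [if_pos heq, len_push_structure i, show ((1 : ℕ∞).toNat) = 1 from rfl, one_smul,
          clSub_push_structure i]
      rw [e1, sub_self]
      exact (H n).zero_mem
    · unfold term
      split_ifs with hx
      · rw [h0 x hx hne]; simp
      · rfl

theorem good (n : ℕ) {M : X.Modules} (hM : Coh.IsCoh M) (hdim : topologicalKrullDim ↥(CohB1.support M) ≤ n) :
    Good n M := by
  induction QCoh.filt_of_isCoh hM with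
  | @zero N h =>
    refine good_of_small hM ?_
    rw [QCoh.support_eq_empty_of_isZero h hM.1, topologicalKrullDim, Order.krullDim_eq_bot_iff.2]
    · exact WithBot.bot_lt_coe _
    · exact ⟨fun s => s.2.1.ne_empty (Set.eq_empty_of_isEmpty s.1)⟩
  | @step N M' φ _ _ hNc hMc hex ih =>
    obtain ⟨Z, i, hi, hZ, I, ι, hι, hI, hI0, ⟨e⟩⟩ := hex
    haveI := hi; haveI := hZ; haveI := hι
    have hc := QCoh.isCoh_cokernel hNc.1 hMc φ
    have hIc : Coh.IsCoh ((Coh.push i).obj I) :=
      QCoh.isCoh_of_mono (e.inv) hc (QCoh.isQCoh_pushforward i hI)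
    let S := ShortComplex.mk φ (cokernel.π φ ≫ e.hom) (by rw [cokernel.condition_assoc, zero_comp])
    let e' : ShortComplex.mk φ (cokernel.π φ) (cokernel.condition φ) ≅ S :=
      ShortComplex.isoMk (Iso.refl _) (Iso.refl _) e (by simp [S]) (by simp [S])
    have hS : S.ShortExact := ShortComplex.shortExact_of_iso e'
      (.mk' (ShortComplex.exact_of_g_is_cokernel _ (cokernelIsCokernel φ)) ‹_› inferInstance)
    haveI := hS.epi_g
    have hsN : CohB1.support N ⊆ CohB1.support M' := QCoh.mem_support_of_mono hNc.1 hMc.1 φ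
    have hsI : CohB1.support ((Coh.push i).obj I) ⊆ CohB1.support M' :=
      QCoh.support_of_epi hMc.1 hIc.1 S.g
    refine (good_ext hS hNc hMc hIc).1 (ih hNc ((H23.TopDim.dim_le_dim_of_subset hsN).trans hdim)) ?_
    have hξ : topologicalKrullDim ↥(closure ({i (genericPoint Z)} : Set X)) ≤ n := by
      rw [← QCoh.support_push_ideal i ι hI hI0]
      exact (H23.TopDim.dim_le_dim_of_subset hsI).trans hdim
    have hO : Coh.IsCoh ((Coh.push i).obj (Coh.structureModule Z)) := QCoh.isCoh_push_structure i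
    haveI : Mono ((Coh.push i).map ι) := Functor.map_mono _ ι
    have hS' : (ShortComplex.mk ((Coh.push i).map ι) (cokernel.π _) (cokernel.condition _)).ShortExact :=
      .mk' (ShortComplex.exact_of_g_is_cokernel _ (cokernelIsCokernel _)) ‹_› inferInstance
    have hK := QCoh.isCoh_cokernel hIc.1 hO ((Coh.push i).map ι)
    refine (good_ext hS' hIc hO hK).2 (good_push_structure i hξ) (good_of_small hK (dim_lt hξ
      (QCoh.isClosed_support_of_isFT hK.1 hK.2) ?_ (QCoh.mem_support_push_ideal i ι hI hI0).2))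
    exact (QCoh.support_of_epi hO.1 hK.1 (cokernel.π _)).trans
      (QCoh.range_eq_closure i ▸ QCoh.support_push_subset i QCoh.isQCoh_structureModule)

theorem mem_closure_of_dim_le (n : ℕ) :
    ∀ G : X.Modules, Coh.IsCoh G → topologicalKrullDim ↥(CohB1.support G) ≤ n →
      KZero.clSub (fun M : X.Modules => Coh.IsCoh M) G ∈
        AddSubgroup.closure {c : KZero.K0sub (fun M : X.Modules => Coh.IsCoh M) |
          ∃ x : ↥X, topologicalKrullDim ↥(closure ({x} : Set ↥X)) ≤ n ∧
            c = KZero.clSub (fun M : X.Modules => Coh.IsCoh M) (Cyc.closureStructureSheaf x)} := by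
  set T := AddSubgroup.closure {c : KZero.K0sub (fun M : X.Modules => Coh.IsCoh M) |
          ∃ x : ↥X, topologicalKrullDim ↥(closure ({x} : Set ↥X)) ≤ n ∧
            c = KZero.clSub (fun M : X.Modules => Coh.IsCoh M) (Cyc.closureStructureSheaf x)}
  suffices hQ : ∀ m : ℕ, m ≤ n + 1 → (H (X := X) m) ≤ T by
    intro G hG hd
    refine hQ (n + 1) le_rfl (AddSubgroup.subset_closure ⟨G, hG, hd.trans_lt ?_, rfl⟩)
    norm_cast
    omega
  intro m
  induction m with
  | zero =>
    refine fun _ => (AddSubgroup.closure_le _).2 ?_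
    rintro _ ⟨G, hG, hd, rfl⟩
    have hb : topologicalKrullDim ↥(CohB1.support G) = ⊥ := by
      rcases hh : topologicalKrullDim ↥(CohB1.support G) with _ | k
      · rfl
      · rw [hh] at hd
        exact absurd (WithBot.coe_lt_coe.1 hd) not_lt_zero
    have he : CohB1.support G = ∅ := by
      by_contra hne
      obtain ⟨x, hx⟩ := Set.nonempty_iff_ne_empty.2 hne
      haveI : Nonempty (IrreducibleCloseds ↥(CohB1.support G)) :=
        ⟨⟨closure {⟨x, hx⟩}, isIrreducible_singleton.closure, isClosed_closure⟩⟩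
      exact not_isEmpty_of_nonempty _ (Order.krullDim_eq_bot_iff.1 hb)
    rw [clSub_isZero]
    · exact T.zero_mem
    · refine QCoh.isZero_of_app_eq_zero hG.1 fun U t => TopCat.Presheaf.section_ext
        (show TopCat.Sheaf AddCommGrpCat.{u} X.toPresheafedSpace.carrier from ⟨G.presheaf, G.isSheaf⟩)
        U.1 t 0 fun x _ => ?_
      haveI : Subsingleton (G.presheaf.stalk x) := by
        by_contra hn
        exact (Set.eq_empty_iff_forall_notMem.1 he) x hn
      exact Subsingleton.elim (α := G.presheaf.stalk x) _ _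
  | succ m ih =>
    intro hm
    refine (AddSubgroup.closure_le _).2 ?_
    rintro _ ⟨G, hG, hd, rfl⟩
    obtain ⟨-, hfin, hmem⟩ := good m hG (lt_succ_cast hd)
    have hmem' := T.add_mem (ih (by omega) hmem) (?_ : (∑ᶠ x, term m G x) ∈ T)
    · rwa [sub_add_cancel] at hmem'
    refine finsum_induction (· ∈ T) T.zero_mem (fun _ _ => T.add_mem) fun x => ?_
    unfold term
    split_ifs with hx
    · refine T.nsmul_mem (AddSubgroup.subset_closure ⟨x, hx.le.trans ?_, rfl⟩) _
      norm_cast
      omega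
    · exact T.zero_mem

end

end Groth.Agent.KZ.CycleClass
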