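import Groth.Agent.KZ.OpenExt
import Groth.Agent.KZ.ClosedDev

/-! The localization sequence of `K₀` of coherent modules. -/

set_option autoImplicit false
set_option backward.isDefEq.respectTransparency false
set_option backward.isDefEq.respectTransparency.types false

universe u

open CategoryTheory CategoryTheory.Limits AlgebraicGeometry TopologicalSpace Opposite ZeroObject

namespace Groth.Agent.KZ.Localization

open Groth.Agent

variable {X : Scheme.{u}}

section Equiv

variable {U V : Scheme.{u}}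

/-- Restriction along an isomorphism. -/
noncomputable def restrictEquiv (a : U ≅ V) : V.Modules ≌ U.Modules :=
  CategoryTheory.Equivalence.mk (Scheme.Modules.restrictFunctor a.hom) (Scheme.Modules.restrictFunctor a.inv)
    ((Scheme.Modules.restrictFunctorId (X := V)).symm ≪≫
      Scheme.Modules.restrictFunctorCongr a.inv_hom_id.symm ≪≫ Scheme.Modules.restrictFunctorComp a.inv a.hom)
    ((Scheme.Modules.restrictFunctorComp a.hom a.inv).symm ≪≫
      Scheme.Modules.restrictFunctorCongr a.hom_inv_id ≪≫ Scheme.Modules.restrictFunctorId)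

end Equiv

theorem isCoh_restrict {U : Scheme.{u}} (j : U ⟶ X) [IsOpenImmersion j] {M : X.Modules} (h : Coh.IsCoh M) :
    Coh.IsCoh ((Scheme.Modules.restrictFunctor j).obj M) :=
  ⟨QCoh.isQCoh_restrict j h.1, Algz7.isFT_restrict j h.1 h.2⟩

theorem isZero_restrict_iff {U : X.Opens} {M : X.Modules} (hM : Coh.IsCoh M)
    (h : IsZero ((Scheme.Modules.restrictFunctor U.ι).obj M)) : CohB1.support M ⊆ ((U : Set X))ᶜ :=
  fun x hx hxU => hx <| subsingleton_of_forall_eq 0 fun t => by
    obtain ⟨W, hxW, m, rfl⟩ := M.presheaf.exists_germ_eq t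
    set R := (Scheme.Modules.restrictFunctor U.ι).obj M
    have h0 : ∀ (O : U.toScheme.Opens) (s : Γ(R, O)), s = 0 := fun O s => by
      have h1 : Scheme.Modules.Hom.app (𝟙 R) O s = Scheme.Modules.Hom.app (0 : R ⟶ R) O s := by
        rw [h.eq_of_src (𝟙 R) 0]
      exact h1
    have hle : U.ι ''ᵁ (U.ι ⁻¹ᵁ W) ≤ W := U.ι.image_preimage_le W
    have hx' : x ∈ U.ι ''ᵁ (U.ι ⁻¹ᵁ W) := ⟨⟨x, hxU⟩, hxW, rfl⟩
    rw [← TopCat.Presheaf.germ_res_apply (F := M.presheaf) (homOfLE hle) x hx' m,
      h0 (U.ι ⁻¹ᵁ W) (M.presheaf.map (homOfLE hle).op m)]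
    exact map_zero _

variable [IsNoetherian X] {X' : Scheme.{u}} (i : X' ⟶ X) [IsClosedImmersion i]

/-- Classes coming from the closed subscheme. -/
noncomputable def Im : AddSubgroup (KZero.K0sub fun M : X.Modules => Coh.IsCoh M) :=
  AddSubgroup.closure {c | ∃ M : X'.Modules, Coh.IsCoh M ∧
    c = KZero.clSub (fun M : X.Modules => Coh.IsCoh M) ((Scheme.Modules.pushforward i).obj M)}

theorem clSub_mem_Im {M : X.Modules} (hM : Coh.IsCoh M) (hs : CohB1.support M ⊆ Set.range i) :
    KZero.clSub (fun M : X.Modules => Coh.IsCoh M) M ∈ Im i := by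
  induction QCoh.filt_of_isCoh hM with
  | @zero N h => rw [clSub_isZero _ h]; exact (Im i).zero_mem
  | @step N M' f _ _ hNc hMc hex ih =>
    obtain ⟨Y, j, hj, hY, I, ι, hι, hI, hI0, ⟨e⟩⟩ := hex
    haveI := hj; haveI := hY; haveI := hι
    have hcok := QCoh.isCoh_cokernel hNc.1 hMc f
    have hsub : CohB1.support N ⊆ CohB1.support M' := QCoh.mem_support_of_mono hNc.1 hMc.1 f
    rw [clSub_ses (fun M : X.Modules => Coh.IsCoh M) (shortExact_of_mono f) hNc hMc hcok]
    refine (Im i).add_mem (ih hNc (hsub.trans hs)) ?_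
    have hp : CohB1.support ((Coh.push j).obj I) ⊆ CohB1.support M' := by
      rw [← QCoh.support_iso e hcok.1]
      exact QCoh.support_of_epi hMc.1 hcok.1 (cokernel.π f)
    have hj' : Set.range j ⊆ Set.range i := by
      rw [QCoh.range_eq_closure j, ← QCoh.support_push_ideal j ι hI hI0]
      exact hp.trans hs
    have hk : ClosedDev.Killed i (cokernel f) := (ClosedDev.killed_push_reduced i j hj' I).of_mono i e.hom
    haveI := (QCoh.isIso_unit_closed_iff i hcok.1).2 hk
    refine AddSubgroup.subset_closure ⟨_, ClosedDev.isCoh_pull i hcok, ?_⟩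
    exact clSub_iso (fun M : X.Modules => Coh.IsCoh M)
      (asIso ((Scheme.Modules.pullbackPushforwardAdjunction i).unit.app (cokernel f))) hcok
      (QCoh.isCoh_push i (ClosedDev.isCoh_pull i hcok)) (isZero_zero _) isCoh_zero

theorem isZero_restrict_push {U : Scheme.{u}} (j : U ⟶ X) [IsOpenImmersion j]
    (hU : Set.range j ⊆ (Set.range i)ᶜ) (M : X'.Modules) :
    IsZero ((Scheme.Modules.restrictFunctor j).obj ((Scheme.Modules.pushforward i).obj M)) := by
  set R := (Scheme.Modules.restrictFunctor j).obj ((Scheme.Modules.pushforward i).obj M)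
  have hs : ∀ (O : U.Opens), Subsingleton Γ(R, O) := fun O => by
    have hbot : i ⁻¹ᵁ (j ''ᵁ O) = ⊥ := bot_unique fun z hz => by
      obtain ⟨y, -, hy⟩ := hz
      exact hU ⟨y, hy⟩ ⟨z, rfl⟩
    show Subsingleton Γ(M, i ⁻¹ᵁ (j ''ᵁ O))
    rw [hbot]
    exact Module.subsingleton Γ(X', (⊥ : X'.Opens)) _
  refine (IsZero.iff_id_eq_zero _).2 ?_
  ext O s
  exact (hs O).elim _ _

variable (U : X.Opens) (hU : ((U : Set X))ᶜ ⊆ Set.range i)
  [PreservesFiniteLimits (Scheme.Modules.restrictFunctor U.ι)]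

include hU in
theorem mem_Im_of_isIso {G F : X.Modules} (hG : Coh.IsCoh G) (hF : Coh.IsCoh F) (p : G ⟶ F)
    [IsIso ((Scheme.Modules.restrictFunctor U.ι).map p)] :
    KZero.clSub (fun M : X.Modules => Coh.IsCoh M) G - KZero.clSub (fun M : X.Modules => Coh.IsCoh M) F ∈ Im i := by
  let R := Scheme.Modules.restrictFunctor U.ι
  have hk := QCoh.isCoh_kernel hG hF p
  have hc := QCoh.isCoh_cokernel hG.1 hF p
  have hI : Coh.IsCoh (cokernel (kernel.ι p)) := QCoh.isCoh_cokernel hk.1 hG _
  let m : cokernel (kernel.ι p) ⟶ F := cokernel.desc _ p (kernel.condition p)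
  haveI : Mono m := inferInstanceAs (Mono (Abelian.factorThruCoimage p))
  have h1 := clSub_ses (fun M : X.Modules => Coh.IsCoh M) (shortExact_of_mono (kernel.ι p)) hk hG hI
  have hS2 : (ShortComplex.mk m (cokernel.π p) (by
      rw [← cancel_epi (cokernel.π (kernel.ι p))]; simp [m])).ShortExact := by
    refine .mk' ?_ inferInstance inferInstance
    refine ShortComplex.exact_of_g_is_cokernel _ (CokernelCofork.IsColimit.ofπ _ _
      (fun g hg => cokernel.desc p g (by
        rw [show p = cokernel.π (kernel.ι p) ≫ m by simp [m], Category.assoc]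
        exact (congrArg _ hg).trans comp_zero))
      (fun g hg => cokernel.π_desc _ _ _) (fun g hg b hb => ?_))
    rw [← cancel_epi (cokernel.π p), cokernel.π_desc]
    exact hb
  have h2 := clSub_ses (fun M : X.Modules => Coh.IsCoh M) hS2 hI hF hc
  have hkz : IsZero (R.obj (kernel p)) :=
    (isZero_kernel_of_mono (R.map p)).of_iso (PreservesKernel.iso R p)
  have hcz : IsZero (R.obj (cokernel p)) :=
    (isZero_cokernel_of_epi (R.map p)).of_iso (PreservesCokernel.iso R p)
  have e : KZero.clSub (fun M : X.Modules => Coh.IsCoh M) G - KZero.clSub (fun M : X.Modules => Coh.IsCoh M) F =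
      KZero.clSub (fun M : X.Modules => Coh.IsCoh M) (kernel p) -
        KZero.clSub (fun M : X.Modules => Coh.IsCoh M) (cokernel p) := by
    rw [show KZero.clSub (fun M : X.Modules => Coh.IsCoh M) G = _ from h1,
      show KZero.clSub (fun M : X.Modules => Coh.IsCoh M) F = _ from h2]
    simp only [ShortComplex.mk]
    abel
  rw [e]
  exact (Im i).sub_mem (clSub_mem_Im i hk ((isZero_restrict_iff hk hkz).trans hU))
    (clSub_mem_Im i hc ((isZero_restrict_iff hc hcz).trans hU))

include hU in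
theorem mem_Im_of_restrict_iso {F₁ F₂ : X.Modules} (h₁ : Coh.IsCoh F₁) (h₂ : Coh.IsCoh F₂)
    (e : F₁.restrict U.ι ≅ F₂.restrict U.ι) :
    KZero.clSub (fun M : X.Modules => Coh.IsCoh M) F₁ - KZero.clSub (fun M : X.Modules => Coh.IsCoh M) F₂ ∈
      Im i := by
  obtain ⟨G, p₁, p₂, hG, i₁, i₂⟩ := exists_span U F₁ F₂ h₁ h₂ e
  have a := mem_Im_of_isIso i U hU hG h₁ p₁
  have b := mem_Im_of_isIso i U hU hG h₂ p₂
  have := (Im i).sub_mem b a
  rwa [sub_sub_sub_cancel_left] at this

include hU in
/-- Coherent modules on the open give classes modulo the closed part. -/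
theorem exists_extHom :
    ∃ g : KZero.K0sub (fun M : U.toScheme.Modules => Coh.IsCoh M) →+
        (KZero.K0sub (fun M : X.Modules => Coh.IsCoh M) ⧸ Im i),
      ∀ F : X.Modules, Coh.IsCoh F →
        g (KZero.clSub (fun M : U.toScheme.Modules => Coh.IsCoh M) ((Scheme.Modules.restrictFunctor U.ι).obj F)) =
          QuotientAddGroup.mk (KZero.clSub (fun M : X.Modules => Coh.IsCoh M) F) := by
  classical
  let R := Scheme.Modules.restrictFunctor U.ι
  have hex : ∀ N : U.toScheme.Modules, ∃ F : X.Modules, Coh.IsCoh N →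
      Coh.IsCoh F ∧ Nonempty (F.restrict U.ι ≅ N) := fun N =>
    if h : Coh.IsCoh N then
      let ⟨F, hq, hft, e⟩ := QCoh.exists_extension_abs (extStep U) N h.1 h.2
      ⟨F, fun _ => ⟨⟨hq, hft⟩, e⟩⟩
    else ⟨0, fun h' => absurd h' h⟩
  choose E hE using hex
  have mk_eq : ∀ {N : U.toScheme.Modules}, Coh.IsCoh N → ∀ {F : X.Modules}, Coh.IsCoh F → (R.obj F ≅ N) →
      (QuotientAddGroup.mk (KZero.clSub (fun M : X.Modules => Coh.IsCoh M) (E N)) :
        KZero.K0sub (fun M : X.Modules => Coh.IsCoh M) ⧸ Im i) =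
      QuotientAddGroup.mk (KZero.clSub (fun M : X.Modules => Coh.IsCoh M) F) := fun {N} hN {F} hF e =>
    QuotientAddGroup.eq_iff_sub_mem.2
      (mem_Im_of_restrict_iso i U hU (hE N hN).1 hF ((hE N hN).2.some ≪≫ e.symm))
  obtain ⟨g, hg⟩ := exists_liftSub (fun M : U.toScheme.Modules => Coh.IsCoh M)
    (fun N => (QuotientAddGroup.mk (KZero.clSub (fun M : X.Modules => Coh.IsCoh M) (E N)) :
      KZero.K0sub (fun M : X.Modules => Coh.IsCoh M) ⧸ Im i)) fun S hS a b c => by
    obtain ⟨hF2, ⟨e2⟩⟩ := hE _ b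
    haveI := hS.mono_f
    haveI := hS.epi_g
    obtain ⟨F1, i', e1, hi', hq, hft, he⟩ := QCoh.exists_extension' hF2.1 (extStep U) (S.f ≫ e2.inv) a.1 a.2
    have hF1 : Coh.IsCoh F1 := ⟨hq, hft⟩
    haveI := hi'
    have hF3 := QCoh.isCoh_cokernel hF1.1 hF2 i'
    let c0 : cokernel (R.map i') ≅ cokernel S.f :=
      cokernel.mapIso (R.map i') S.f e1 e2 (by
        rw [show R.map i' = e1.hom ≫ S.f ≫ e2.inv from he.symm]
        simp only [Category.assoc, Iso.inv_hom_id, Category.comp_id])
    let e3 : R.obj (cokernel i') ≅ S.X₃ := PreservesCokernel.iso R i' ≪≫ c0 ≪≫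
      IsColimit.coconePointUniqueUpToIso (cokernelIsCokernel S.f) hS.gIsCokernel
    rw [mk_eq a hF1 e1, mk_eq b hF2 e2, mk_eq c hF3 e3, ← QuotientAddGroup.mk_add,
      ← clSub_ses (fun M : X.Modules => Coh.IsCoh M) (shortExact_of_mono i') hF1 hF2 hF3]
  exact ⟨g, fun F hF => (hg _ (isCoh_restrict U.ι hF)).trans
    (mk_eq (isCoh_restrict U.ι hF) hF (Iso.refl _))⟩

/-- The localization sequence. -/
theorem sequence {X U X' : Scheme.{u}} [IsNoetherian X] (i : X' ⟶ X) [IsClosedImmersion i]
    (j : U ⟶ X) [IsOpenImmersion j] (hU : Set.range j = (Set.range i)ᶜ)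
    [(Scheme.Modules.pushforward i).Additive] [PreservesFiniteLimits (Scheme.Modules.pushforward i)]
    [PreservesFiniteColimits (Scheme.Modules.pushforward i)]
    [PreservesFiniteLimits (Scheme.Modules.restrictFunctor j)]
    (hi : ∀ M : X'.Modules, Coh.IsCoh M → Coh.IsCoh ((Scheme.Modules.pushforward i).obj M))
    (hj : ∀ M : X.Modules, Coh.IsCoh M → Coh.IsCoh ((Scheme.Modules.restrictFunctor j).obj M)) :
    Function.Surjective (SGA6.mapSub (Scheme.Modules.restrictFunctor j) (fun M : (X).Modules => Coh.IsCoh M)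
        (fun M : (U).Modules => Coh.IsCoh M) hj) ∧
      (SGA6.mapSub (Scheme.Modules.restrictFunctor j) (fun M : (X).Modules => Coh.IsCoh M)
          (fun M : (U).Modules => Coh.IsCoh M) hj).ker =
        (SGA6.mapSub (Scheme.Modules.pushforward i) (fun M : (X').Modules => Coh.IsCoh M)
          (fun M : (X).Modules => Coh.IsCoh M) hi).range := by
  classical
  set r := SGA6.mapSub (Scheme.Modules.restrictFunctor j) (fun M : (X).Modules => Coh.IsCoh M)
    (fun M : (U).Modules => Coh.IsCoh M) hj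
  set p := SGA6.mapSub (Scheme.Modules.pushforward i) (fun M : (X').Modules => Coh.IsCoh M)
    (fun M : (X).Modules => Coh.IsCoh M) hi
  have hr : ∀ F, Coh.IsCoh F → r (KZero.clSub (fun M : X.Modules => Coh.IsCoh M) F) =
      KZero.clSub (fun M : U.Modules => Coh.IsCoh M) ((Scheme.Modules.restrictFunctor j).obj F) := fun F hF => by
    rw [clSub_of_prop (fun M : X.Modules => Coh.IsCoh M) hF, clSub_of_prop (fun M : U.Modules => Coh.IsCoh M) (hj F hF)]
    rfl
  have hp : ∀ F, Coh.IsCoh F → p (KZero.clSub (fun M : X'.Modules => Coh.IsCoh M) F) =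
      KZero.clSub (fun M : X.Modules => Coh.IsCoh M) ((Scheme.Modules.pushforward i).obj F) := fun F hF => by
    rw [clSub_of_prop (fun M : X'.Modules => Coh.IsCoh M) hF, clSub_of_prop (fun M : X.Modules => Coh.IsCoh M) (hi F hF)]
    rfl
  let U₀ := j.opensRange
  let a : U ≅ U₀.toScheme := j.isoOpensRange
  have ha : a.inv ≫ j = U₀.ι := by
    rw [← cancel_epi a.hom, a.hom_inv_id_assoc]
    exact (Scheme.Hom.isoOpensRange_hom_ι j).symm
  let T := Scheme.Modules.restrictFunctor a.inv
  haveI : T.IsEquivalence := (restrictEquiv a).isEquivalence_inverse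
  let nat : Scheme.Modules.restrictFunctor U₀.ι ≅ Scheme.Modules.restrictFunctor j ⋙ T :=
    Scheme.Modules.restrictFunctorCongr ha.symm ≪≫ Scheme.Modules.restrictFunctorComp a.inv j
  haveI : PreservesFiniteLimits (Scheme.Modules.restrictFunctor j ⋙ T) := comp_preservesFiniteLimits _ _
  haveI : PreservesFiniteLimits (Scheme.Modules.restrictFunctor U₀.ι) :=
    preservesFiniteLimits_of_natIso nat.symm
  haveI : IsLocallyNoetherian U := isLocallyNoetherian_of_isOpenImmersion j
  haveI : IsLocallyNoetherian U₀.toScheme := isLocallyNoetherian_of_isOpenImmersion U₀.ι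
  haveI : T.Additive := inferInstance
  obtain ⟨t, ht⟩ := exists_liftSub (fun M : U.Modules => Coh.IsCoh M)
    (fun N => KZero.clSub (fun M : U₀.toScheme.Modules => Coh.IsCoh M) (T.obj N)) fun S hS h1 h2 h3 =>
      clSub_ses (fun M : U₀.toScheme.Modules => Coh.IsCoh M) (hS.map_of_exact T)
        (isCoh_restrict a.inv h1) (isCoh_restrict a.inv h2) (isCoh_restrict a.inv h3)
  constructor
  · intro z
    obtain ⟨w, rfl⟩ := QuotientAddGroup.mk_surjective z
    induction w using FreeAbelianGroup.induction_on with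
    | zero => exact ⟨0, map_zero r⟩
    | add a b ha hb =>
      obtain ⟨x, hx⟩ := ha
      obtain ⟨y, hy⟩ := hb
      exact ⟨x + y, by rw [map_add, hx, hy]; rfl⟩
    | neg a ha =>
      obtain ⟨x, hx⟩ := ha
      exact ⟨-x, by rw [map_neg, hx]; rfl⟩
    | of N =>
      obtain ⟨N, hN⟩ := N
      obtain ⟨F, hq, hft, ⟨e⟩⟩ := QCoh.exists_extension_abs (extStep U₀) (T.obj N)
        (isCoh_restrict a.inv hN).1 (isCoh_restrict a.inv hN).2
      refine ⟨KZero.clSub (fun M : X.Modules => Coh.IsCoh M) F, ?_⟩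
      rw [hr F ⟨hq, hft⟩, ← clSub_of_prop (fun M : U.Modules => Coh.IsCoh M) hN]
      exact clSub_iso (fun M : U.Modules => Coh.IsCoh M) (T.preimageIso ((nat.app F).symm ≪≫ e))
        (hj F ⟨hq, hft⟩) hN (isZero_zero _) isCoh_zero
  · have hIm : p.range = Im i := by
      refine le_antisymm ?_ ((AddSubgroup.closure_le _).2 ?_)
      · rintro _ ⟨z, rfl⟩
        obtain ⟨w, rfl⟩ := QuotientAddGroup.mk_surjective z
        induction w using FreeAbelianGroup.induction_on with
        | zero => rw [QuotientAddGroup.mk_zero, map_zero]; exact (Im i).zero_mem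
        | add a b ha hb => rw [QuotientAddGroup.mk_add, map_add]; exact (Im i).add_mem ha hb
        | neg a ha => rw [QuotientAddGroup.mk_neg, map_neg]; exact (Im i).neg_mem ha
        | of N =>
          obtain ⟨N, hN⟩ := N
          rw [← clSub_of_prop (fun M : X'.Modules => Coh.IsCoh M) hN, hp N hN]
          exact AddSubgroup.subset_closure ⟨N, hN, rfl⟩
      · rintro _ ⟨N, hN, rfl⟩
        exact ⟨_, hp N hN⟩
    have hc : ((U₀ : Set X))ᶜ ⊆ Set.range i := by
      rw [show (U₀ : Set X) = Set.range j from rfl, hU, compl_compl]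
    obtain ⟨g, hg⟩ := exists_extHom i U₀ hc
    have key : (g.comp t).comp r = QuotientAddGroup.mk' (Im i) := by
      refine K0sub_hom_ext _ fun F hF => ?_
      have e : KZero.clSub (fun M : U₀.toScheme.Modules => Coh.IsCoh M) ((Scheme.Modules.restrictFunctor U₀.ι).obj F) =
          KZero.clSub (fun M : U₀.toScheme.Modules => Coh.IsCoh M) (T.obj ((Scheme.Modules.restrictFunctor j).obj F)) :=
        clSub_iso (fun M : U₀.toScheme.Modules => Coh.IsCoh M) (nat.app F) (isCoh_restrict U₀.ι hF)
          (isCoh_restrict a.inv (hj F hF)) (isZero_zero _) isCoh_zero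
      rw [AddMonoidHom.comp_apply, AddMonoidHom.comp_apply, hr F hF, ht _ (hj F hF), ← e, hg F hF]
      rfl
    rw [hIm]
    refine le_antisymm (fun x hx => ?_) ((AddSubgroup.closure_le _).2 ?_)
    · rw [← QuotientAddGroup.eq_zero_iff]
      have := congrArg (fun f : _ →+ _ => f x) key
      simp only [AddMonoidHom.comp_apply, AddMonoidHom.mem_ker.1 hx, map_zero] at this
      exact this.symm
    · rintro _ ⟨N, hN, rfl⟩
      rw [SetLike.mem_coe, AddMonoidHom.mem_ker, hr _ (QCoh.isCoh_push i (I := N) hN)]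
      exact clSub_isZero _ (isZero_restrict_push i j hU.le N)

end Groth.Agent.KZ.Localization
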