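import Groth.Agent.KZ.CohClass
import Groth.Agent.QCoh.ExtendFT
import Groth.Agent.Algz7.Restrict

/-! Comparison of two coherent extensions from an open subset. -/

set_option autoImplicit false
set_option backward.isDefEq.respectTransparency false
set_option backward.isDefEq.respectTransparency.types false

universe u

open CategoryTheory CategoryTheory.Limits AlgebraicGeometry TopologicalSpace

namespace Groth.Agent.KZ

open Groth.Agent

variable {X : Scheme.{u}}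

theorem isCoh_biprod {A B : X.Modules} (hA : Coh.IsCoh A) (hB : Coh.IsCoh B) : Coh.IsCoh (A ⊞ B) :=
  isCoh_X₂ (S := ShortComplex.mk biprod.inl biprod.snd (biprod.inl_snd (X := A) (Y := B)))
    (ShortComplex.Splitting.ofHasBinaryBiproduct A B).shortExact hA hB

theorem extStep [IsNoetherian X] (U : X.Opens) : QCoh.ExtStep U :=
  QCoh.extStep_noetherian (fun _ => ⟨⊤, trivial, inferInstance⟩) U

theorem exists_span' [IsNoetherian X] (U : X.Opens) (F₁ F₂ : X.Modules) (h₁ : Coh.IsCoh F₁) (h₂ : Coh.IsCoh F₂)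
    (e : F₁.restrict U.ι ≅ F₂.restrict U.ι) :
    ∃ (G : X.Modules) (p₁ : G ⟶ F₁) (p₂ : G ⟶ F₂), Coh.IsCoh G ∧ Mono (biprod.lift p₁ p₂) ∧
      IsIso ((Scheme.Modules.restrictFunctor U.ι).map p₁) ∧
      IsIso ((Scheme.Modules.restrictFunctor U.ι).map p₂) := by
  let R := Scheme.Modules.restrictFunctor U.ι
  have hb := isCoh_biprod h₁ h₂
  let i : F₁.restrict U.ι ⟶ (F₁ ⊞ F₂).restrict U.ι :=
    R.map (biprod.inl : F₁ ⟶ F₁ ⊞ F₂) + e.hom ≫ R.map (biprod.inr : F₂ ⟶ F₁ ⊞ F₂)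
  have hf : i ≫ R.map (biprod.fst : F₁ ⊞ F₂ ⟶ F₁) = 𝟙 _ := by
    simp only [i, Preadditive.add_comp, Category.assoc, ← R.map_comp, biprod.inl_fst, biprod.inr_fst,
      R.map_id, R.map_zero, comp_zero, add_zero]
    rfl
  have hs : i ≫ R.map (biprod.snd : F₁ ⊞ F₂ ⟶ F₂) = e.hom := by
    simp only [i, Preadditive.add_comp, Category.assoc, ← R.map_comp, biprod.inl_snd, biprod.inr_snd,
      R.map_id, R.map_zero, zero_add]
    exact Category.comp_id _
  haveI : Mono i := SplitMono.mono ⟨_, hf⟩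
  have h₀ : Coh.IsCoh (F₁.restrict U.ι) := ⟨QCoh.isQCoh_restrict U.ι h₁.1, Algz7.isFT_restrict U.ι h₁.1 h₁.2⟩
  obtain ⟨G, i', e', hi', hq, hft, he⟩ := QCoh.exists_extension' hb.1 (extStep U) i h₀.1 h₀.2
  refine ⟨G, i' ≫ biprod.fst, i' ≫ biprod.snd, ⟨hq, hft⟩, ?_, ?_, ?_⟩
  · rw [show biprod.lift (i' ≫ biprod.fst) (i' ≫ biprod.snd) = i' from biprod.hom_ext _ _ (by simp) (by simp)]
    exact hi'
  · rw [Functor.map_comp, show (Scheme.Modules.restrictFunctor U.ι).map i' = e'.hom ≫ i from he.symm,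
      Category.assoc, hf]
    infer_instance
  · rw [Functor.map_comp, show (Scheme.Modules.restrictFunctor U.ι).map i' = e'.hom ≫ i from he.symm,
      Category.assoc, hs]
    infer_instance

theorem exists_span [IsNoetherian X] (U : X.Opens) (F₁ F₂ : X.Modules) (h₁ : Coh.IsCoh F₁) (h₂ : Coh.IsCoh F₂)
    (e : F₁.restrict U.ι ≅ F₂.restrict U.ι) :
    ∃ (G : X.Modules) (p₁ : G ⟶ F₁) (p₂ : G ⟶ F₂), Coh.IsCoh G ∧
      IsIso ((Scheme.Modules.restrictFunctor U.ι).map p₁) ∧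
      IsIso ((Scheme.Modules.restrictFunctor U.ι).map p₂) :=
  let ⟨G, p₁, p₂, h, _, a, b⟩ := exists_span' U F₁ F₂ h₁ h₂ e
  ⟨G, p₁, p₂, h, a, b⟩

end Groth.Agent.KZ
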