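import Groth.Agent.KZ.Basic
import Mathlib.Algebra.Homology.ShortComplex.HomologicalComplex
import Mathlib.Algebra.Homology.HomologicalComplexAbelian
import Mathlib.CategoryTheory.Limits.Shapes.Pullback.IsPullback.Kernels

/-!
# The resolution theorem for Grothendieck groups
-/

universe v u

open CategoryTheory CategoryTheory.Limits ZeroObject

namespace Groth.Agent.KZ

variable {C : Type u} [Category.{v} C] [Abelian C]

/-- The closure hypotheses of the resolution theorem. -/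
structure ResSetup (P₀ P₁ : ObjectProperty C) : Prop where
  iso₀ : P₀.IsClosedUnderIsomorphisms
  iso₁ : P₁.IsClosedUnderIsomorphisms
  le : ∀ X, P₀ X → P₁ X
  ext₀ : ∀ S : ShortComplex C, S.ShortExact → P₀ S.X₁ → P₀ S.X₃ → P₀ S.X₂
  ext₁ : ∀ S : ShortComplex C, S.ShortExact → P₁ S.X₁ → P₁ S.X₃ → P₁ S.X₂
  ker₀ : ∀ S : ShortComplex C, S.ShortExact → P₀ S.X₂ → P₀ S.X₃ → P₀ S.X₁
  ker₁ : ∀ S : ShortComplex C, S.ShortExact → P₁ S.X₂ → P₁ S.X₃ → P₁ S.X₁
  cover : ∀ (A B D : C) (u : A ⟶ B) (v : D ⟶ B), Epi u → P₁ A → P₁ B → P₁ D →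
      ∃ (L : C) (u' : L ⟶ D) (v' : L ⟶ A), P₀ L ∧ Epi u' ∧ u' ≫ v = v' ≫ u

variable {P₀ P₁ : ObjectProperty C}

namespace ResSetup

/-- `P₀`-dimension at most `n`. -/
def Dim (P₀ P₁ : ObjectProperty C) : ℕ → C → Prop
  | 0, A => P₀ A
  | n + 1, A => P₁ A ∧ ∀ (K L : C) (i : K ⟶ L) (p : L ⟶ A) (w : i ≫ p = 0),
      (ShortComplex.mk i p w).ShortExact → P₀ L → Dim P₀ P₁ n K

variable (h : ResSetup P₀ P₁)
include h

lemma iso0 {X Y : C} (e : X ≅ Y) (hX : P₀ X) : P₀ Y :=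
  have := h.iso₀
  P₀.prop_of_iso e hX

lemma exists_cover {A : C} (hA : P₁ A) : ∃ (L : C) (p : L ⟶ A), P₀ L ∧ Epi p := by
  obtain ⟨L, u', -, hL, hu, -⟩ := h.cover A A A (𝟙 A) (𝟙 A) inferInstance hA hA hA
  exact ⟨L, u', hL, hu⟩

lemma zero₀ {A : C} (hA : P₁ A) : P₀ (0 : C) := by
  obtain ⟨L, -, hL, -⟩ := h.exists_cover hA
  exact h.ker₀ _ (shortExact_iso_zero (Iso.refl L) (isZero_zero C)) hL hL

lemma biprod₀ {X Y : C} (hX : P₀ X) (hY : P₀ Y) : P₀ (X ⊞ Y) :=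
  h.ext₀ _ (ShortComplex.Splitting.ofHasBinaryBiproduct X Y).shortExact hX hY

lemma clSub_iso₀ {X Y : C} (e : X ≅ Y) (hX : P₀ X) :
    KZero.clSub P₀ X = KZero.clSub P₀ Y :=
  clSub_iso P₀ e hX (h.iso0 e hX) (isZero_zero C) (h.zero₀ (h.le _ hX))

lemma dim_mem₁ : ∀ {n : ℕ} {A : C}, Dim P₀ P₁ n A → P₁ A
  | 0, A, hA => h.le A hA
  | _ + 1, _, hA => hA.1

lemma dim_of_P₀ : ∀ (n : ℕ) {A : C}, P₀ A → Dim P₀ P₁ n A
  | 0, _, hA => hA
  | n + 1, A, hA => ⟨h.le A hA, fun _ _ _ _ _ hS hL => dim_of_P₀ n (h.ker₀ _ hS hL hA)⟩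

lemma dim_succ : ∀ {n : ℕ} {A : C}, Dim P₀ P₁ n A → Dim P₀ P₁ (n + 1) A
  | 0, _, hA => h.dim_of_P₀ 1 hA
  | n + 1, _, hA => ⟨hA.1, fun K L i p w hS hL => dim_succ (hA.2 K L i p w hS hL)⟩

lemma dim_le {n m : ℕ} (hnm : n ≤ m) {A : C} (hA : Dim P₀ P₁ n A) : Dim P₀ P₁ m A := by
  induction hnm with
  | refl => exact hA
  | step _ ih => exact h.dim_succ ih

lemma dim_kernel {n : ℕ} {A L : C} (hA : Dim P₀ P₁ (n + 1) A) (hL : P₀ L) (p : L ⟶ A) [Epi p] :
    Dim P₀ P₁ n (kernel p) :=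
  hA.2 _ _ _ _ _ (kerSeq_shortExact p) hL

/-- An Euler characteristic on the objects of dimension at most `n`. -/
structure IsEuler (n : ℕ) (χ : C → KZero.K0sub P₀) : Prop where
  base : ∀ A, P₀ A → χ A = KZero.clSub P₀ A
  add : ∀ S : ShortComplex C, S.ShortExact → Dim P₀ P₁ n S.X₁ → Dim P₀ P₁ n S.X₂ →
    Dim P₀ P₁ n S.X₃ → χ S.X₂ = χ S.X₁ + χ S.X₃

omit h in
lemma IsEuler.iso {n : ℕ} {χ : C → KZero.K0sub P₀} (hχ : IsEuler (P₁ := P₁) n χ)
    (h : ResSetup P₀ P₁) {X Y : C} (e : X ≅ Y) (hX : Dim P₀ P₁ n X) (hY : Dim P₀ P₁ n Y) :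
    χ X = χ Y := by
  have h0 : P₀ (0 : C) := h.zero₀ (h.dim_mem₁ hX)
  have := hχ.add _ (shortExact_iso_zero e (isZero_zero C)) (h.dim_of_P₀ n h0) hX hY
  simpa [hχ.base _ h0, clSub_isZero P₀ (isZero_zero C)] using this

lemma euler_unique : ∀ {n : ℕ} {χ χ' : C → KZero.K0sub P₀}, IsEuler (P₁ := P₁) n χ →
    IsEuler (P₁ := P₁) n χ' → ∀ {A : C}, Dim P₀ P₁ n A → χ A = χ' A
  | 0, χ, χ', hχ, hχ', A, hA => by rw [hχ.base A hA, hχ'.base A hA]
  | n + 1, χ, χ', hχ, hχ', A, hA => by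
    obtain ⟨L, p, hL, hp⟩ := h.exists_cover hA.1
    have hK := h.dim_kernel hA hL p
    have r : ∀ {ψ : C → KZero.K0sub P₀}, IsEuler (P₁ := P₁) (n + 1) ψ → IsEuler (P₁ := P₁) n ψ :=
      fun hψ => ⟨hψ.base, fun S hS a b c =>
        hψ.add S hS (h.dim_succ a) (h.dim_succ b) (h.dim_succ c)⟩
    have e1 := hχ.add _ (kerSeq_shortExact p) (h.dim_succ hK) (h.dim_of_P₀ _ hL) hA
    have e2 := hχ'.add _ (kerSeq_shortExact p) (h.dim_succ hK) (h.dim_of_P₀ _ hL) hA
    simp only [] at e1 e2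
    rw [hχ.base L hL, euler_unique (r hχ) (r hχ') hK] at e1
    rw [hχ'.base L hL] at e2
    exact add_left_cancel (e1.symm.trans e2)

section Step

variable {n : ℕ} {χ : C → KZero.K0sub P₀} (hχ : IsEuler (P₁ := P₁) n χ)
include hχ

/-- Refining a cover by a composable epimorphism does not change the value. -/
lemma value_refine {A L L' : C} (hA : Dim P₀ P₁ (n + 1) A) (hL : P₀ L) (hL' : P₀ L')
    (p : L ⟶ A) [Epi p] (q : L' ⟶ L) [Epi q] :
    KZero.clSub P₀ L' - χ (kernel (q ≫ p)) = KZero.clSub P₀ L - χ (kernel p) := by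
  let S : ShortComplex C := ShortComplex.mk (0 : (0 : C) ⟶ A) (𝟙 A) zero_comp
  have hS : S.ShortExact := shortExact_iso_zero (Iso.refl A) (isZero_zero C)
  let φ : kerSeq q ⟶ S := ShortComplex.homMk 0 (q ≫ p) p (by simp [S]) (by simp [S])
  have : Epi φ.τ₁ := ⟨fun _ _ _ => (isZero_zero C).eq_of_src _ _⟩
  have hK := kernelsSeq_shortExact φ (kerSeq_shortExact q) hS
  have e : kernel φ.τ₁ ≅ kernel q := kernelZeroIsoSource
  have hM : P₀ (kernel φ.τ₁) := h.iso0 e.symm (h.ker₀ _ (kerSeq_shortExact q) hL' hL)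
  have hLL := clSub_ses P₀ (kerSeq_shortExact q) (h.ker₀ _ (kerSeq_shortExact q) hL' hL) hL' hL
  have := hχ.add _ hK (h.dim_of_P₀ n hM) (h.dim_kernel hA hL' (q ≫ p)) (h.dim_kernel hA hL p)
  simp only [kernelsSeq] at this hLL
  change χ (kernel (q ≫ p)) = χ (kernel φ.τ₁) + χ (kernel p) at this
  rw [this, hχ.base _ hM, h.clSub_iso₀ e hM, hLL]
  abel

/-- Two covers give the same value. -/
lemma value_indep {A L L' : C} (hA : Dim P₀ P₁ (n + 1) A) (hL : P₀ L) (hL' : P₀ L')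
    (p : L ⟶ A) [Epi p] (p' : L' ⟶ A) [Epi p'] :
    KZero.clSub P₀ L - χ (kernel p) = KZero.clSub P₀ L' - χ (kernel p') := by
  have := h.iso₁
  have hQ : P₁ (pullback p p') := by
    have hS := (IsPullback.of_hasPullback p p')
    let T : ShortComplex C := kerSeq (pullback.fst p p')
    have hT : T.ShortExact := kerSeq_shortExact _
    refine h.ext₁ T hT ?_ (h.le _ hL)
    have : P₁ (kernel p') :=
      h.ker₁ _ (kerSeq_shortExact p') (h.le _ hL') hA.1
    have hiso := isIso_kernel_map_of_isPullback hS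
    exact P₁.prop_of_iso (asIso (kernel.map (pullback.fst p p') p' _ _ hS.w)).symm this
  obtain ⟨M, r, hM, hr⟩ := h.exists_cover hQ
  have e1 := value_refine h hχ hA hL hM p (r ≫ pullback.fst p p')
  have e2 := value_refine h hχ hA hL' hM p' (r ≫ pullback.snd p p')
  rw [← e1, ← e2]
  have hw : (r ≫ pullback.fst p p') ≫ p = (r ≫ pullback.snd p p') ≫ p' := by
    rw [Category.assoc, pullback.condition, Category.assoc]
  congr 1
  exact hχ.iso h (kernelIsoOfEq hw) (h.dim_kernel hA hM _) (h.dim_kernel hA hM _)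

open Classical in
lemma exists_euler_succ : ∃ χ' : C → KZero.K0sub P₀, IsEuler (P₁ := P₁) (n + 1) χ' := by
  let χ' : C → KZero.K0sub P₀ := fun A =>
    if hA : ∃ (L : C) (p : L ⟶ A), P₀ L ∧ Epi p then
      KZero.clSub P₀ hA.choose - χ (kernel hA.choose_spec.choose) else 0
  have hval : ∀ {A L : C}, Dim P₀ P₁ (n + 1) A → P₀ L → ∀ (p : L ⟶ A) [Epi p],
      χ' A = KZero.clSub P₀ L - χ (kernel p) := by
    intro A L hA hL p hp
    have hex : ∃ (L : C) (p : L ⟶ A), P₀ L ∧ Epi p := ⟨L, p, hL, hp⟩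
    simp only [χ', dif_pos hex]
    have := hex.choose_spec.choose_spec.2
    exact value_indep h hχ hA hex.choose_spec.choose_spec.1 hL _ p
  refine ⟨χ', ⟨fun A hA => ?_, fun S hS ha hb hc => ?_⟩⟩
  · have h0 : P₀ (kernel (𝟙 A)) := h.ker₀ _ (kerSeq_shortExact (𝟙 A)) hA hA
    rw [hval (h.dim_of_P₀ _ hA) hA (𝟙 A), hχ.base _ h0,
      clSub_isZero P₀ (IsZero.of_iso (isZero_zero C) (kernel.ofMono (𝟙 A))), sub_zero]
  · obtain ⟨La, pa, hLa, hpa⟩ := h.exists_cover ha.1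
    obtain ⟨Lc, pc, hLc, hpc⟩ := h.exists_cover hc.1
    obtain ⟨L', u', v', hL', hu', huv⟩ :=
      h.cover S.X₂ S.X₃ Lc S.g pc hS.epi_g hb.1 hc.1 (h.le _ hLc)
    let T : ShortComplex C := ShortComplex.mk (biprod.inl : La ⟶ La ⊞ L') biprod.snd biprod.inl_snd
    have hT : T.ShortExact := (ShortComplex.Splitting.ofHasBinaryBiproduct La L').shortExact
    let φ : T ⟶ S := ShortComplex.homMk pa (biprod.desc (pa ≫ S.f) v') (u' ≫ pc)
      (by simp [T]) (by ext <;> simp [T, huv])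
    have : Epi φ.τ₁ := hpa
    have : Epi φ.τ₃ := epi_comp u' pc
    have : Epi T.g := hT.epi_g
    have : Epi S.g := hS.epi_g
    have : Epi φ.τ₂ := ShortComplex.epi_τ₂_of_exact_of_epi φ hS.exact
    have hK := kernelsSeq_shortExact φ hT hS
    have hLL : P₀ (La ⊞ L') := h.biprod₀ hLa hL'
    have hadd := hχ.add _ hK (h.dim_kernel ha hLa φ.τ₁) (h.dim_kernel hb hLL φ.τ₂)
      (h.dim_kernel hc hL' φ.τ₃)
    have hcl := clSub_ses P₀ hT hLa hLL hL'
    simp only [kernelsSeq] at hadd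
    rw [hval ha hLa φ.τ₁, hval hb hLL φ.τ₂, hval hc hL' φ.τ₃, hadd]
    change KZero.clSub P₀ (La ⊞ L') - _ = _
    change KZero.clSub P₀ (La ⊞ L') = _ at hcl
    rw [hcl]
    simp only [T]
    abel

end Step

lemma exists_euler : ∀ n : ℕ, ∃ χ : C → KZero.K0sub P₀, IsEuler (P₁ := P₁) n χ
  | 0 => ⟨KZero.clSub P₀, fun _ _ => rfl, fun _ hS a b c => clSub_ses P₀ hS a b c⟩
  | n + 1 => by
    obtain ⟨χ, hχ⟩ := exists_euler n
    exact exists_euler_succ h hχ

open Classical in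
theorem bijective_of_dim (hdim : ∀ A, P₁ A → ∃ n, Dim P₀ P₁ n A)
    (ι : KZero.K0sub P₀ →+ KZero.K0sub P₁)
    (hι : ∀ X, P₀ X → ι (KZero.clSub P₀ X) = KZero.clSub P₁ X) :
    Function.Bijective ι := by
  choose χ hχ using h.exists_euler
  let ξ : C → KZero.K0sub P₀ := fun A => if hA : P₁ A then χ (Nat.find (hdim A hA)) A else 0
  have hξ : ∀ {n A}, Dim P₀ P₁ n A → ξ A = χ n A := by
    intro n A hA
    simp only [ξ, dif_pos (h.dim_mem₁ hA)]
    refine h.euler_unique (n := Nat.find (hdim A (h.dim_mem₁ hA))) (hχ _) ?_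
      (Nat.find_spec (hdim A (h.dim_mem₁ hA)))
    have hle := Nat.find_min' (hdim A (h.dim_mem₁ hA)) hA
    exact ⟨(hχ n).base, fun S hS a b c => (hχ n).add S hS (h.dim_le hle a) (h.dim_le hle b)
      (h.dim_le hle c)⟩
  obtain ⟨ψ, hψ⟩ := exists_liftSub P₁ ξ (fun S hS a b c => by
    obtain ⟨na, ha⟩ := hdim _ a
    obtain ⟨nb, hb⟩ := hdim _ b
    obtain ⟨nc, hc⟩ := hdim _ c
    have ha' := h.dim_le (le_add_right (le_add_right le_rfl) : na ≤ na + nb + nc) ha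
    have hb' := h.dim_le (le_add_right (le_add_left le_rfl) : nb ≤ na + nb + nc) hb
    have hc' := h.dim_le (le_add_left le_rfl : nc ≤ na + nb + nc) hc
    rw [hξ ha', hξ hb', hξ hc']
    exact (hχ _).add S hS ha' hb' hc')
  have h1 : ψ.comp ι = AddMonoidHom.id _ := by
    refine K0sub_hom_ext P₀ fun X hX => ?_
    rw [AddMonoidHom.comp_apply, hι X hX, hψ X (h.le X hX), hξ (h.dim_of_P₀ 0 hX)]
    exact (hχ 0).base X hX
  refine ⟨fun x y hxy => ?_, fun y => ?_⟩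
  · have := congrArg ψ hxy
    rwa [← AddMonoidHom.comp_apply, ← AddMonoidHom.comp_apply, h1] at this
  · have hr : ∀ n A, Dim P₀ P₁ n A → KZero.clSub P₁ A ∈ ι.range := by
      intro n
      induction n with
      | zero => exact fun A hA => ⟨_, hι A hA⟩
      | succ n ih =>
        intro A hA
        obtain ⟨L, p, hL, hp⟩ := h.exists_cover hA.1
        have hK := h.dim_kernel hA hL p
        have := clSub_ses P₁ (kerSeq_shortExact p) (h.dim_mem₁ hK) (h.le _ hL) hA.1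
        simp only [] at this
        rw [show KZero.clSub P₁ A = KZero.clSub P₁ L - KZero.clSub P₁ (kernel p) by rw [this]; abel]
        exact sub_mem ⟨_, hι L hL⟩ (ih _ hK)
    refine QuotientAddGroup.induction_on y fun z => ?_
    induction z using FreeAbelianGroup.induction_on with
    | zero => exact ⟨0, map_zero ι⟩
    | of X =>
      obtain ⟨n, hn⟩ := hdim X.1 X.2
      obtain ⟨x, hx⟩ := hr n X.1 hn
      exact ⟨x, hx.trans (clSub_of_prop P₁ X.2)⟩
    | neg X hX =>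
      obtain ⟨x, hx⟩ := hX
      exact ⟨-x, by rw [map_neg, hx]; rfl⟩
    | add a b ha hb =>
      obtain ⟨x, hx⟩ := ha
      obtain ⟨y, hy⟩ := hb
      exact ⟨x + y, by rw [map_add, hx, hy]; rfl⟩

/-- The dimension is bounded if all resolutions stabilise at a fixed step. -/
theorem exists_dim_of_complexes {A : C} (hA : P₁ A) (d : ℕ)
    (hd : ∀ L : ChainComplex C ℕ, (∀ i, P₀ (L.X i)) → (∀ i, 1 ≤ i → L.ExactAt i) →
      Nonempty (L.homology 0 ≅ A) → P₀ (L.cycles (d + 1))) :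
    Dim P₀ P₁ (d + 2) A := by
  classical
  have := h.iso₀
  by_contra hne
  -- choose the steps
  have hstep : ∀ (s : {X : C // P₁ X} × ℕ), ∃ (t : {X : C // P₁ X} × ℕ) (L : C) (i : t.1.1 ⟶ L)
      (p : L ⟶ s.1.1) (w : i ≫ p = 0), (ShortComplex.mk i p w).ShortExact ∧ P₀ L ∧
        t.2 = s.2 - 1 ∧ (∀ m, s.2 = m + 1 → ¬ Dim P₀ P₁ (m + 1) s.1.1 → ¬ Dim P₀ P₁ m t.1.1) := by
    rintro ⟨⟨X, hX⟩, m⟩
    by_cases hbad : ∃ k, m = k + 1 ∧ ¬ Dim P₀ P₁ (k + 1) X
    · obtain ⟨k, rfl, hk⟩ := hbad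
      simp only [Dim, not_and, not_forall] at hk
      obtain ⟨K, L, i, p, w, hS, hL, hK⟩ := hk hX
      exact ⟨(⟨K, h.ker₁ _ hS (h.le _ hL) hX⟩, k), L, i, p, w, hS, hL, by simp,
        fun m hm _ => by obtain rfl : m = k := by simp_all
                         exact hK⟩
    · obtain ⟨L, p, hL, hp⟩ := h.exists_cover hX
      exact ⟨(⟨kernel p, h.ker₁ _ (kerSeq_shortExact p) (h.le _ hL) hX⟩, m - 1), L, kernel.ι p, p,
        kernel.condition p, kerSeq_shortExact p, hL, rfl,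
        fun k hk hk' => absurd ⟨k, hk, hk'⟩ hbad⟩
  choose next L i p w hS hL hcount hbad using hstep
  let s : ℕ → {X : C // P₁ X} × ℕ := fun k => next^[k] (⟨A, hA⟩, d + 2)
  have hs : ∀ k, s (k + 1) = next (s k) := fun k => Function.iterate_succ_apply' next k _
  let X : ℕ → C := fun k => (s k).1.1
  let Lc : ℕ → C := fun k => L (s k)
  let ii : ∀ k, X (k + 1) ⟶ Lc k := fun k =>
    eqToHom (by simp only [X, hs]) ≫ i (s k)
  let pp : ∀ k, Lc k ⟶ X k := fun k => p (s k)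
  have hSS : ∀ k, ∃ w', (ShortComplex.mk (ii k) (pp k) w').ShortExact := by
    intro k
    refine ⟨by simp [ii, pp, w], ?_⟩
    refine ShortComplex.shortExact_of_iso ?_ (hS (s k))
    exact ShortComplex.isoMk (eqToIso (by simp only [X, hs])) (Iso.refl _) (Iso.refl _)
      (by simp [ii]) (by simp [pp])
  choose hw hSE using hSS
  have hmono : ∀ k, Mono (ii k) := fun k => (hSE k).mono_f
  have hepi : ∀ k, Epi (pp k) := fun k => (hSE k).epi_g
  have hc : ∀ k, (s k).2 = d + 2 - k := by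
    intro k
    induction k with
    | zero => rfl
    | succ k ih => rw [hs, hcount, ih]; omega
  have hb : ∀ k, k ≤ d + 2 → ¬ Dim P₀ P₁ (d + 2 - k) (X k) := by
    intro k
    induction k with
    | zero => exact fun _ => hne
    | succ k ih =>
      intro hk
      have := hbad (s k) (d + 1 - k) (by rw [hc]; omega)
        (by rw [show d + 1 - k + 1 = d + 2 - k by omega]; exact ih (by omega))
      rw [← hs] at this
      rwa [show d + 2 - (k + 1) = d + 1 - k by omega]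
  let D : ChainComplex C ℕ := ChainComplex.of Lc (fun k => pp (k + 1) ≫ ii k)
    (fun k => by simp [reassoc_of% (hw (k + 1))])
  have hD : ∀ k, D.d (k + 1) k = pp (k + 1) ≫ ii k := fun k => ChainComplex.of_d Lc (fun k => pp (k + 1) ≫ ii k) k
  have hex : ∀ k, 1 ≤ k → D.ExactAt k := by
    intro k hk
    obtain ⟨k, rfl⟩ : ∃ j, k = j + 1 := ⟨k - 1, by omega⟩
    rw [D.exactAt_iff' (k + 2) (k + 1) k (by simp) (by simp)]
    let S3 : ShortComplex C := ShortComplex.mk (ii (k + 1)) (pp (k + 1) ≫ ii k)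
      (by simp [reassoc_of% (hw (k + 1))])
    have h3 : S3.Exact := by
      let S2 : ShortComplex C := ShortComplex.mk (ii (k + 1)) (pp (k + 1)) (hw (k + 1))
      let ψ : S2 ⟶ S3 := ShortComplex.homMk (𝟙 _) (𝟙 _) (ii k) (by simp [S2, S3])
        (by simp [S2, S3])
      have : Mono ψ.τ₃ := hmono k
      have : Epi ψ.τ₁ := inferInstanceAs (Epi (𝟙 _))
      have : IsIso ψ.τ₂ := inferInstanceAs (IsIso (𝟙 _))
      exact (ShortComplex.exact_iff_of_epi_of_isIso_of_mono ψ).1 (hSE (k + 1)).exact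
    let ψ : D.sc' (k + 2) (k + 1) k ⟶ S3 :=
      ShortComplex.homMk (pp (k + 2)) (𝟙 _) (𝟙 _)
        (((Category.comp_id (D.d (k + 1 + 1) (k + 1))).trans (hD (k + 1))).symm)
        ((Category.id_comp _).trans ((hD k).symm.trans (Category.comp_id (D.d (k + 1) k)).symm))
    have : Epi ψ.τ₁ := hepi (k + 2)
    have : Mono ψ.τ₃ := inferInstanceAs (Mono (𝟙 _))
    have : IsIso ψ.τ₂ := inferInstanceAs (IsIso (𝟙 _))
    exact (ShortComplex.exact_iff_of_epi_of_isIso_of_mono ψ).2 h3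
  have hH : Nonempty (D.homology 0 ≅ A) := by
    let T : ShortComplex C := ShortComplex.mk (D.d 1 0) (pp 0)
      (by rw [hD]; simp [hw])
    have hT : T.Exact := by
      let S0 : ShortComplex C := ShortComplex.mk (ii 0) (pp 0) (hw 0)
      let ψ : T ⟶ S0 := ShortComplex.homMk (pp 1) (𝟙 _) (𝟙 _) (by simp [T, S0, hD])
        (by simp [T, S0])
      have : Epi ψ.τ₁ := hepi 1
      have : Mono ψ.τ₃ := inferInstanceAs (Mono (𝟙 _))
      have : IsIso ψ.τ₂ := inferInstanceAs (IsIso (𝟙 _))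
      exact (ShortComplex.exact_iff_of_epi_of_isIso_of_mono ψ).2 (hSE 0).exact
    have : Epi T.g := hepi 0
    exact ⟨D.isoHomologyι₀ ≪≫
      IsColimit.coconePointUniqueUpToIso (D.opcyclesIsCokernel 1 0 (by simp)) hT.gIsCokernel⟩
  have hcyc : P₀ (D.cycles (d + 1)) := hd D (fun k => hL _) hex hH
  have : P₀ (X (d + 2)) := by
    have := hmono d
    have := hmono (d + 1)
    have hzero : ii (d + 1) ≫ D.d (d + 1) d = 0 := by
      rw [hD, reassoc_of% (hw (d + 1)), zero_comp]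
    have hk' : IsLimit (KernelFork.ofι (ii (d + 1)) hzero) :=
      KernelFork.IsLimit.ofι' (ii (d + 1)) hzero (fun {Z} g hg => by
        have hg' : g ≫ pp (d + 1) = 0 := by
          rw [← cancel_mono (ii d), Category.assoc, ← hD, zero_comp]; exact hg
        exact ⟨(hSE (d + 1)).exact.lift g hg', (hSE (d + 1)).exact.lift_f _ _⟩)
    exact P₀.prop_of_iso
      (IsLimit.conePointUniqueUpToIso (D.cyclesIsKernel (d + 1) d (by simp)) hk') hcyc
  exact hb (d + 2) le_rfl (by rw [Nat.sub_self]; exact this)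

end ResSetup

end Groth.Agent.KZ
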