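import Groth.Prelude.Def_KRR
import Groth.Agent.KZ.CohClass
import Groth.Agent.KZ.Resolution
import Groth.Agent.KFlatLib.Scheme.Exact
import Groth.Agent.QCoh.LocFree
import Groth.Agent.KZ.OpenExt
import Groth.Agent.RegLoc6.Serre
import Mathlib.Algebra.Homology.Augment

/-! Coherent modules with finite locally free resolutions, through projective dimensions of stalks. -/

set_option autoImplicit false
set_option backward.isDefEq.respectTransparency false
set_option backward.isDefEq.respectTransparency.types false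

universe u

open CategoryTheory CategoryTheory.Limits AlgebraicGeometry TopologicalSpace Opposite ZeroObject

namespace Groth.Agent.KZ.LFRes

open Groth.Agent

variable {X : Scheme.{u}}

/-- The stalk as a module over the local ring. -/
noncomputable abbrev stk (M : X.Modules) (x : X) : ModuleCat.{u} (X.presheaf.stalk x) :=
  (DerSch.stalkFunctor X x).obj M

/-- Coherent, with all stalks of projective dimension `< n`. -/
def PDLT (n : ℕ) (M : X.Modules) : Prop :=
  Coh.IsCoh M ∧ ∀ x : X, HasProjectiveDimensionLT (stk M x) n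

theorem stk_shortExact {S : ShortComplex X.Modules} (hS : S.ShortExact) (x : X) :
    (S.map (DerSch.stalkFunctor X x)).ShortExact :=
  hS.map_of_exact (DerSch.stalkFunctor X x)

theorem PDLT.mono {n m : ℕ} {M : X.Modules} (h : PDLT n M) (hnm : n ≤ m) : PDLT m M :=
  ⟨h.1, fun x => have := h.2 x; hasProjectiveDimensionLT_of_ge _ n m hnm⟩

theorem isFP_of_isCoh [IsLocallyNoetherian X] {M : X.Modules} (hM : Coh.IsCoh M) : CohB1.IsFP M :=
  QCoh.isFP_of_finitePresentation hM.1 (fun U : X.affineOpens => U.1)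
    (top_unique fun x _ => by
      obtain ⟨_, ⟨U, hU, rfl⟩, hxU, -⟩ := X.isBasis_affineOpens.exists_subset_of_mem_open (Set.mem_univ x) isOpen_univ
      exact Opens.mem_iSup.2 ⟨⟨U, hU⟩, hxU⟩)
    (fun U => U.2) fun U => by
      haveI : IsNoetherianRing Γ(X, U.1) := IsLocallyNoetherian.component_noetherian U
      haveI := QCoh.finite_sections hM U.2
      exact Module.finitePresentation_of_finite _ _

theorem free_iff_pd [IsLocallyNoetherian X] {M : X.Modules} (hM : Coh.IsCoh M) (x : X) :
    Module.Free (X.presheaf.stalk x) (M.presheaf.stalk x) ↔ HasProjectiveDimensionLT (stk M x) 1 := by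
  constructor
  · intro h
    haveI : Module.Free (X.presheaf.stalk x) (stk M x) := h
    haveI : Projective (stk M x) := (IsProjective.iff_projective (R := X.presheaf.stalk x) _).1 inferInstance
    infer_instance
  · intro h
    haveI : Projective (stk M x) := projective_iff_hasProjectiveDimensionLT_one.2 h
    haveI : Module.Projective (X.presheaf.stalk x) (stk M x) :=
      (IsProjective.iff_projective (R := X.presheaf.stalk x) _).2 inferInstance
    haveI : Module.Projective (X.presheaf.stalk x) (M.presheaf.stalk x) := this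
    haveI := QCoh.finite_stalk_of_isFT hM.1 hM.2 x
    exact Module.free_of_flat_of_isLocalRing

theorem pdlt_one_iff [IsLocallyNoetherian X] {M : X.Modules} :
    PDLT 1 M ↔ FlatMod.IsFinLocFree M := by
  constructor
  · rintro ⟨hM, h⟩
    exact QCoh.isFinLocFree_iff.2 ⟨isFP_of_isCoh hM, fun x => (free_iff_pd hM x).2 (h x)⟩
  · intro h
    have hM : Coh.IsCoh M := ⟨QCoh.isQCoh_of_isFinLocFree h, QCoh.isFT_of_isFP (QCoh.isFP_of_isFinLocFree h)⟩
    exact ⟨hM, fun x => (free_iff_pd hM x).1 (QCoh.free_stalk_of_isFinLocFree h x)⟩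

theorem PDLT.ext {n : ℕ} {S : ShortComplex X.Modules} (hS : S.ShortExact) (h₁ : PDLT n S.X₁)
    (h₃ : PDLT n S.X₃) : PDLT n S.X₂ :=
  ⟨isCoh_X₂ hS h₁.1 h₃.1, fun x => (stk_shortExact hS x).hasProjectiveDimensionLT_X₂ n (h₁.2 x) (h₃.2 x)⟩

theorem PDLT.kernel_of [IsLocallyNoetherian X] {n : ℕ} {S : ShortComplex X.Modules} (hS : S.ShortExact)
    (h₂ : PDLT n S.X₂) (h₃ : PDLT (n + 1) S.X₃) : PDLT n S.X₁ := by
  refine ⟨?_, fun x => (stk_shortExact hS x).hasProjectiveDimensionLT_X₁ n (h₂.2 x) (h₃.2 x)⟩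
  exact isClosedUnderIsomorphisms_isCoh.of_iso
    ((kernelIsKernel S.g).conePointUniqueUpToIso hS.fIsKernel) (QCoh.isCoh_kernel h₂.1 h₃.1 S.g)

theorem PDLT.cokernel_of {n : ℕ} {S : ShortComplex X.Modules} (hS : S.ShortExact) (h : Coh.IsCoh S.X₃)
    (h₁ : PDLT n S.X₁) (h₂ : PDLT (n + 1) S.X₂) : PDLT (n + 1) S.X₃ :=
  ⟨h, fun x => (stk_shortExact hS x).hasProjectiveDimensionLT_X₃ n (h₁.2 x) (h₂.2 x)⟩

theorem pdlt_of_isZero [IsLocallyNoetherian X] {M : X.Modules} (h : IsZero M) : PDLT 0 M :=
  ⟨isClosedUnderIsomorphisms_isCoh.of_iso (IsZero.iso (isZero_zero _) h) isCoh_zero,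
    fun x => (hasProjectiveDimensionLT_zero_iff_isZero _).2 ((DerSch.stalkFunctor X x).map_isZero h)⟩

theorem PDLT.iso {n : ℕ} {M N : X.Modules} (e : M ≅ N) (h : PDLT n M) : PDLT n N :=
  ⟨isClosedUnderIsomorphisms_isCoh.of_iso e h.1,
    fun x => have := h.2 x; hasProjectiveDimensionLT_of_iso ((DerSch.stalkFunctor X x).mapIso e) n⟩

/-- A finite resolution makes the module of finite projective dimension. -/
theorem exists_pdlt [IsNoetherian X] {F : X.Modules} (hF : KRR.HasLFRes F) : ∃ n, PDLT (n + 1) F := by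
  obtain ⟨n, L, π, hfl, hz, hq⟩ := hF
  haveI := hq
  have hex : ∀ k, L.ExactAt (k + 1) := fun k => by
    rw [← quasiIsoAt_iff_exactAt' π (k + 1) (HomologicalComplex.exactAt_single_obj _ _ _ _ (by simp))]
    infer_instance
  refine ⟨n + 1, PDLT.iso ((L.isoHomologyι₀).symm ≪≫ asIso (HomologicalComplex.homologyMap π 0) ≪≫
    HomologicalComplex.singleObjHomologySelfIso (ComplexShape.down ℕ) 0 F) ?_⟩
  have key : ∀ j k, k + j = n + 1 → PDLT (j + 1) (L.opcycles k) := by
    intro j
    induction j with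
    | zero =>
      intro k hk
      have hzk : IsZero (L.X k) := hz k (by omega)
      exact (pdlt_of_isZero (IsZero.of_epi (L.pOpcycles k) hzk)).mono (Nat.zero_le _)
    | succ j ih =>
      intro k hk
      have hk1 := ih (k + 1) (by omega)
      haveI : Mono (L.fromOpcycles (k + 1) k) := by
        have h := (L.exactAt_iff' (k + 2) (k + 1) k (by simp) (by simp)).1 (hex k)
        have := h.mono_fromOpcycles
        have e : L.fromOpcycles (k + 1) k = (L.opcyclesIsoSc' (k + 2) (k + 1) k (by simp) (by simp)).hom ≫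
            (L.sc' (k + 2) (k + 1) k).fromOpcycles := by
          rw [← cancel_epi (L.pOpcycles (k + 1))]
          rw [L.p_fromOpcycles, HomologicalComplex.pOpcycles_opcyclesIsoSc'_hom_assoc, ShortComplex.p_fromOpcycles]
          rfl
        rw [e]
        infer_instance
      let S := ShortComplex.mk (L.fromOpcycles (k + 1) k) (L.pOpcycles k)
        (by rw [← cancel_epi (L.pOpcycles (k + 1))]; simp)
      have hS : S.ShortExact := by
        refine .mk' ?_ inferInstance inferInstance
        refine ShortComplex.exact_of_g_is_cokernel _ (CokernelCofork.IsColimit.ofπ _ _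
          (fun g hg => L.descOpcycles g (k + 1) (by simp) (by
            rw [← L.p_fromOpcycles, Category.assoc]
            exact (congrArg _ hg).trans comp_zero))
          (fun g hg => L.p_descOpcycles _ _ _ _) (fun g hg b hb => ?_))
        rw [← cancel_epi (L.pOpcycles k), L.p_descOpcycles]
        exact hb
      have hX : PDLT (j + 1) (L.X k) := ((pdlt_one_iff).2 (hfl k)).mono (by omega)
      have hc : Coh.IsCoh (L.opcycles k) :=
        isClosedUnderIsomorphisms_isCoh.of_iso
          ((cokernelIsCokernel S.f).coconePointUniqueUpToIso hS.gIsCokernel)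
          (QCoh.isCoh_cokernel hk1.1.1 hX.1 S.f)
      exact PDLT.cokernel_of hS hc hk1 (hX.mono (Nat.le_succ _))
  exact key (n + 1) 0 (by simp)

/-- Building a resolution from projective dimension. -/
theorem hasLFRes [IsNoetherian X] (hX : KRR.HasEnoughLocFree X) :
    ∀ (n : ℕ) (F : X.Modules), PDLT (n + 1) F → KRR.HasLFRes F := by
  intro n
  induction n with
  | zero =>
    intro F hF
    have hfl := pdlt_one_iff.1 hF
    refine ⟨0, (ChainComplex.single₀ X.Modules).obj F, 𝟙 _, fun i => ?_, fun i hi => ?_, inferInstance⟩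
    · rcases i with _ | i
      · exact hfl
      · exact pdlt_one_iff.1 ((pdlt_of_isZero (HomologicalComplex.isZero_single_obj_X _ _ _ _ (by simp))).mono
          (Nat.zero_le _))
    · exact HomologicalComplex.isZero_single_obj_X _ _ _ _ (by omega)
  | succ n ih =>
    intro F hF
    obtain ⟨E, p, hE, hp⟩ := hX F hF.1
    have hK : PDLT (n + 1) (kernel p) :=
      PDLT.kernel_of (kerSeq_shortExact p) ((pdlt_one_iff.2 hE).mono (by omega)) hF
    obtain ⟨m, M, π, hfl, hz, hq⟩ := ih _ hK
    haveI := hq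
    let f : M.X 0 ⟶ E := π.f 0 ≫ kernel.ι p
    have hw : M.d 1 0 ≫ π.f 0 = 0 := by rw [← π.comm 1 0]; simp
    have w : M.d 1 0 ≫ f = 0 := by
      show M.d 1 0 ≫ π.f 0 ≫ kernel.ι p = 0
      rw [← Category.assoc, hw, zero_comp]
    let L := M.augment f w
    let ρ : L ⟶ (ChainComplex.single₀ X.Modules).obj F :=
      (ChainComplex.toSingle₀Equiv L F).symm ⟨p, by
        show f ≫ p = 0
        simp [f]⟩
    have hexM : ∀ k, M.ExactAt (k + 1) := fun k => by
      rw [← quasiIsoAt_iff_exactAt' π (k + 1) (HomologicalComplex.exactAt_single_obj _ _ _ _ (by simp))]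
      infer_instance
    have h0 : (ShortComplex.mk (M.d 1 0) (π.f 0) hw).Exact ∧ Epi (π.f 0) := by
      have : QuasiIsoAt π 0 := inferInstance
      rw [ChainComplex.quasiIsoAt₀_iff, ShortComplex.quasiIso_iff_of_zeros'] at this
      · exact this
      · simp [HomologicalComplex.shortComplexFunctor']
      · simp [HomologicalComplex.shortComplexFunctor']
      · simp [HomologicalComplex.shortComplexFunctor']
    haveI := h0.2
    refine ⟨m + 1, L, ρ, fun i => ?_, fun i hi => ?_, ⟨fun i => ?_⟩⟩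
    · rcases i with _ | i
      · exact hE
      · exact hfl i
    · obtain ⟨i, rfl⟩ : ∃ j, i = j + 1 := ⟨i - 1, by omega⟩
      exact hz i (by omega)
    · rcases i with _ | i
      · rw [ChainComplex.quasiIsoAt₀_iff, ShortComplex.quasiIso_iff_of_zeros']
        · have hρ : ρ.f 0 = p := ChainComplex.toSingle₀Equiv_symm_apply_f_zero _ _
          refine ⟨?_, ?_⟩
          · let T₁ := ShortComplex.mk f p (show f ≫ p = 0 by simp [f])
            have hT : T₁.Exact := by
              let S0 := kerSeq p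
              let ψ : T₁ ⟶ S0 := ShortComplex.homMk (π.f 0) (𝟙 _) (𝟙 _) (by simp [T₁, S0, f]) (by simp [T₁, S0])
              haveI : Epi ψ.τ₁ := h0.2
              haveI : Mono ψ.τ₃ := inferInstanceAs (Mono (𝟙 _))
              haveI : IsIso ψ.τ₂ := inferInstanceAs (IsIso (𝟙 _))
              exact (ShortComplex.exact_iff_of_epi_of_isIso_of_mono ψ).2 (kerSeq_shortExact p).exact
            refine ShortComplex.exact_of_iso (ShortComplex.isoMk (Iso.refl _) (Iso.refl _) (Iso.refl _) ?_ ?_) hT
            · simp [T₁, L]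
            · simp [T₁, HomologicalComplex.shortComplexFunctor', hρ]
          · show Epi (ρ.f 0)
            rw [hρ]; exact hp
        · simp [HomologicalComplex.shortComplexFunctor']
        · simp [HomologicalComplex.shortComplexFunctor']
        · simp [HomologicalComplex.shortComplexFunctor']
      · rw [quasiIsoAt_iff_exactAt' ρ (i + 1) (HomologicalComplex.exactAt_single_obj _ _ _ _ (by simp)),
          L.exactAt_iff' (i + 2) (i + 1) i (by simp) (by simp)]
        rcases i with _ | i
        · let T₂ := ShortComplex.mk (M.d 1 0) f w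
          let T₀ := ShortComplex.mk (M.d 1 0) (π.f 0) hw
          let ψ : T₀ ⟶ T₂ := ShortComplex.homMk (𝟙 _) (𝟙 _) (kernel.ι p) (by simp [T₀, T₂]) (by simp [T₀, T₂, f])
          haveI : Mono ψ.τ₃ := inferInstanceAs (Mono (kernel.ι p))
          haveI : Epi ψ.τ₁ := inferInstanceAs (Epi (𝟙 _))
          haveI : IsIso ψ.τ₂ := inferInstanceAs (IsIso (𝟙 _))
          exact (ShortComplex.exact_iff_of_epi_of_isIso_of_mono ψ).1 h0.1
        · have := hexM i
          rw [M.exactAt_iff' (i + 2) (i + 1) i (by simp) (by simp)] at this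
          exact this

theorem flf_isCoh [IsLocallyNoetherian X] {M : X.Modules} (h : FlatMod.IsFinLocFree M) : Coh.IsCoh M :=
  (pdlt_one_iff.2 h).1

/-- Coherent modules with a finite locally free resolution. -/
def P₁ (X : Scheme.{u}) : ObjectProperty X.Modules := fun M => Coh.IsCoh M ∧ KRR.HasLFRes M

theorem resSetup [IsNoetherian X] (hX : KRR.HasEnoughLocFree X) :
    ResSetup (C := X.Modules) (fun M : X.Modules => FlatMod.IsFinLocFree M) (P₁ X) where
  iso₀ := ⟨fun {M N} e h => pdlt_one_iff.1 ((pdlt_one_iff.2 h).iso e)⟩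
  iso₁ := ⟨fun {M N} e h => by
    obtain ⟨n, hn⟩ := exists_pdlt h.2
    exact ⟨(hn.iso e).1, hasLFRes hX n _ (hn.iso e)⟩⟩
  le M h := ⟨flf_isCoh h, hasLFRes hX 0 M (pdlt_one_iff.2 h)⟩
  ext₀ S hS a b := pdlt_one_iff.1 (PDLT.ext hS (pdlt_one_iff.2 a) (pdlt_one_iff.2 b))
  ext₁ S hS a b := by
    obtain ⟨n, hn⟩ := exists_pdlt a.2
    obtain ⟨m, hm⟩ := exists_pdlt b.2
    have := PDLT.ext hS (hn.mono (show n + 1 ≤ n + m + 1 by omega)) (hm.mono (show m + 1 ≤ n + m + 1 by omega))
    exact ⟨this.1, hasLFRes hX _ _ this⟩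
  ker₀ S hS a b := pdlt_one_iff.1 (PDLT.kernel_of hS (pdlt_one_iff.2 a) ((pdlt_one_iff.2 b).mono (Nat.le_succ _)))
  ker₁ S hS a b := by
    obtain ⟨n, hn⟩ := exists_pdlt a.2
    obtain ⟨m, hm⟩ := exists_pdlt b.2
    have := PDLT.kernel_of hS (hn.mono (show n + 1 ≤ n + m + 1 by omega)) (hm.mono (show m + 1 ≤ n + m + 1 + 1 by omega))
    exact ⟨this.1, hasLFRes hX _ _ this⟩
  cover A B D u v hu hA hB hD := by
    haveI := hu
    let d : A ⊞ D ⟶ B := biprod.desc u (-v)
    have hb := isCoh_biprod hA.1 hD.1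
    have hk := QCoh.isCoh_kernel hb hB.1 d
    obtain ⟨E, p, hE, hp⟩ := hX _ hk
    have hsd : Epi (kernel.ι d ≫ (biprod.snd : A ⊞ D ⟶ D)) := by
      rw [epi_iff_surjective_up_to_refinements]
      intro W y
      obtain ⟨W', π, hπ, a, ha⟩ := surjective_up_to_refinements_of_epi u (y ≫ v)
      exact ⟨W', π, hπ, kernel.lift d (biprod.lift a (π ≫ y)) (by simp [d, ← ha, Category.assoc]), by simp⟩
    refine ⟨E, p ≫ kernel.ι d ≫ biprod.snd, p ≫ kernel.ι d ≫ biprod.fst, hE, epi_comp _ _, ?_⟩
    have h0 : kernel.ι d ≫ biprod.fst ≫ u = kernel.ι d ≫ biprod.snd ≫ v := by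
      rw [← sub_eq_zero, ← Preadditive.comp_sub,
        show biprod.fst ≫ u - biprod.snd ≫ v = d from biprod.hom_ext' _ _ (by simp [d]) (by simp [d]), kernel.condition]
    simp only [Category.assoc, h0]

theorem dim_of_pdlt [IsNoetherian X] (hX : KRR.HasEnoughLocFree X) :
    ∀ (n : ℕ) (A : X.Modules), PDLT (n + 1) A →
      ResSetup.Dim (fun M : X.Modules => FlatMod.IsFinLocFree M) (P₁ X) n A := by
  intro n
  induction n with
  | zero => exact fun A hA => pdlt_one_iff.1 hA
  | succ n ih =>
    intro A hA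
    refine ⟨⟨hA.1, hasLFRes hX _ A hA⟩, fun K L i p w hS hL => ih K ?_⟩
    exact PDLT.kernel_of hS ((pdlt_one_iff.2 hL).mono (by omega)) hA

theorem bijective_resolvable [IsNoetherian X] (hX : KRR.HasEnoughLocFree X)
    (ι : KZero.K0sub (fun M : X.Modules => FlatMod.IsFinLocFree M) →+ KZero.K0sub (P₁ X))
    (hι : ∀ M, FlatMod.IsFinLocFree M → ι (KZero.clSub (fun M : X.Modules => FlatMod.IsFinLocFree M) M) = KZero.clSub (P₁ X) M) :
    Function.Bijective ι :=
  (resSetup hX).bijective_of_dim (fun A hA => by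
    obtain ⟨n, hn⟩ := exists_pdlt hA.2
    exact ⟨n, dim_of_pdlt hX n A hn⟩) ι hι

theorem hasLFRes_of_regular [IsNoetherian X] (hX : KRR.HasEnoughLocFree X)
    (hreg : ∀ x : X, IsRegularLocalRing (X.presheaf.stalk x)) {A : X.Modules} (hA : Coh.IsCoh A) :
    KRR.HasLFRes A := by
  classical
  have hcov : ∀ N : {N : X.Modules // Coh.IsCoh N}, ∃ (E : X.Modules) (p : E ⟶ N.1), FlatMod.IsFinLocFree E ∧ Epi p :=
    fun N => hX N.1 N.2
  choose E p hE hp using hcov
  let next : {N : X.Modules // Coh.IsCoh N} → {N : X.Modules // Coh.IsCoh N} := fun N =>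
    ⟨kernel (p N), QCoh.isCoh_kernel (flf_isCoh (hE N)) N.2 (p N)⟩
  let K : ℕ → {N : X.Modules // Coh.IsCoh N} := fun k => next^[k] ⟨A, hA⟩
  have step : ∀ (k m : ℕ) (x : X), HasProjectiveDimensionLT (stk (K k).1 x) (m + 2) ↔
      HasProjectiveDimensionLT (stk (K (k + 1)).1 x) (m + 1) := fun k m x => by
    have hK : (K (k + 1)).1 = kernel (p (K k)) := by
      show (next^[k + 1] _).1 = _
      rw [Function.iterate_succ_apply']
    rw [hK]
    haveI := hp (K k)
    have hproj : Projective (stk (E (K k)) x) :=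
      projective_iff_hasProjectiveDimensionLT_one.2 ((pdlt_one_iff.2 (hE (K k))).2 x)
    exact (stk_shortExact (kerSeq_shortExact (p (K k))) x).hasProjectiveDimensionLT_X₃_iff m hproj
  have key : ∀ (n k : ℕ) (x : X), HasProjectiveDimensionLT (stk (K k).1 x) (n + 1) ↔
      HasProjectiveDimensionLT (stk (K (k + n)).1 x) 1 := by
    intro n
    induction n with
    | zero => exact fun k x => Iff.rfl
    | succ n ih => intro k x; rw [step k n x, ih (k + 1) x, show k + 1 + n = k + (n + 1) by omega]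
  let O : ℕ → Set X := fun n => {x | HasProjectiveDimensionLT (stk A x) (n + 1)}
  have hO : ∀ n, IsOpen (O n) := fun n => isOpen_iff_forall_mem_open.2 fun x hx => by
    have hx' : HasProjectiveDimensionLT (stk (K (0 + n)).1 x) 1 := (key n 0 x).1 hx
    haveI := (free_iff_pd (K (0 + n)).2 x).2 hx'
    obtain ⟨U, r, hxU, ⟨e⟩⟩ := QCoh.exists_free_nhd_of_free_stalk (isFP_of_isCoh (K (0 + n)).2) x
    refine ⟨U, fun y hy => (key n 0 y).2 ((free_iff_pd (K (0 + n)).2 y).1 ?_), U.2, hxU⟩
    obtain ⟨_, ⟨V, hV, rfl⟩, hyV, hle⟩ := X.isBasis_affineOpens.exists_subset_of_mem_open hy U.2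
    obtain ⟨l⟩ := QCoh.free_sections hV hle e
    letI := QCoh.stalkAlg (X := X) hyV
    letI := QCoh.stalkModule (K (0 + n)).1 hyV
    haveI := QCoh.isScalarTower_stalk (K (0 + n)).1 hyV
    haveI := QCoh.isLocalization_stalk' hV hyV
    haveI := QCoh.isLocalizedModule_germLin (K (0 + n)).2.1 hV hyV
    haveI : Module.Free Γ(X, V) Γ((K (0 + n)).1, V) := Module.Free.of_equiv l.symm
    exact Module.free_of_isLocalizedModule (hV.primeIdealOf ⟨y, hyV⟩).asIdeal.primeCompl
      (QCoh.germLin (K (0 + n)).1 hyV)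
  have hmono : Monotone O := fun a b hab x hx =>
    have : HasProjectiveDimensionLT (stk A x) (a + 1) := hx
    hasProjectiveDimensionLT_of_ge _ (a + 1) (b + 1) (by omega)
  obtain ⟨s, hs⟩ := isCompact_univ.elim_finite_subcover O hO fun x _ => by
    haveI := hreg x
    haveI : Module.Finite (X.presheaf.stalk x) (stk A x) := QCoh.finite_stalk_of_isFT hA.1 hA.2 x
    exact Set.mem_iUnion.2 ⟨_, RegLoc6.pdLE_of_isRegularLocalRing (X.presheaf.stalk x) (stk A x)⟩
  refine hasLFRes hX (s.sup id) A ⟨hA, fun x => ?_⟩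
  obtain ⟨i, hi, hxi⟩ := Set.mem_iUnion₂.1 (hs (Set.mem_univ x))
  exact hmono (Finset.le_sup (f := id) hi) hxi

theorem bijective_regular [IsNoetherian X] (hX : KRR.HasEnoughLocFree X)
    (hreg : ∀ x : X, IsRegularLocalRing (X.presheaf.stalk x))
    (ι : KZero.K0sub (fun M : X.Modules => FlatMod.IsFinLocFree M) →+ KZero.K0sub (fun M : X.Modules => Coh.IsCoh M))
    (hι : ∀ M, FlatMod.IsFinLocFree M → ι (KZero.clSub (fun M : X.Modules => FlatMod.IsFinLocFree M) M) =
      KZero.clSub (fun M : X.Modules => Coh.IsCoh M) M) : Function.Bijective ι := by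
  have e : (P₁ X : ObjectProperty X.Modules) = fun M : X.Modules => Coh.IsCoh M :=
    funext fun M => propext ⟨fun h => h.1, fun h => ⟨h, hasLFRes_of_regular hX hreg h⟩⟩
  have h := bijective_resolvable hX
  rw [e] at h
  exact h ι hι

end Groth.Agent.KZ.LFRes
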