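import Groth.Agent.KZ.Derived

/-!
# Dévissage of bounded objects with homology in a subcategory
-/

universe w v u

open CategoryTheory CategoryTheory.Limits CategoryTheory.Pretriangulated ZeroObject

namespace Groth.Agent.KZ

variable {C : Type u} [Category.{v} C] [Abelian C] [HasDerivedCategory.{w} C]

open DerivedCategory

theorem HBdd.induction {P : ObjectProperty C} [P.IsClosedUnderIsomorphisms] [P.ContainsZero]
    {motive : DerivedCategory C → Prop}
    (hiso : ∀ {K L : DerivedCategory C}, (K ≅ L) → motive K → motive L)
    (hzero : ∀ K : DerivedCategory C, IsZero K → motive K)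
    (hsingle : ∀ (X : C), P X → ∀ n : ℤ, motive ((singleFunctor C n).obj X))
    (htri : ∀ T : Triangle (DerivedCategory C), T ∈ distTriang _ → HBdd P T.obj₁ → HBdd P T.obj₂ →
      HBdd P T.obj₃ → motive T.obj₁ → motive T.obj₃ → motive T.obj₂)
    {K : DerivedCategory C} (hK : HBdd P K) : motive K := by
  have key : ∀ (n : ℕ) (a : ℤ) (K : DerivedCategory C), HBdd P K → K.IsGE a →
      K.IsLE (a + (n : ℤ) - 1) → motive K := by
    intro n
    induction n with
    | zero =>
      intro a K hK ha hb
      exact hzero K (TStructure.t.isZero K (a + ((0 : ℕ) : ℤ) - 1) a (by simp))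
    | succ n ih =>
      intro a K hK ha hb
      let b : ℤ := a + (n : ℤ)
      have hb : K.IsLE b := by
        have : a + ((n + 1 : ℕ) : ℤ) - 1 = b := by simp [b]; ring
        rwa [this] at hb
      obtain ⟨L, M, hL, hM, f, g, h, hT⟩ := TStructure.t.exists_triangle K (b - 1) b (by ring)
      have hL' : L.IsLE (b - 1) := ⟨hL⟩
      have hM' : M.IsGE b := ⟨hM⟩
      have hfi : ∀ i, i ≤ b - 1 → IsIso ((homologyFunctor C i).map f) := by
        intro i hi
        have e2 := (HomologySequence.exact₂ (Triangle.mk f g h) hT i).epi_f
          ((M.isZero_of_isGE b i (by omega)).eq_of_tgt _ _)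
        have e1 := (HomologySequence.exact₁ (Triangle.mk f g h) hT (i - 1) i (by ring)).mono_g
          ((M.isZero_of_isGE b (i - 1) (by omega)).eq_of_src _ _)
        have : Mono ((homologyFunctor C i).map f) := e1
        have : Epi ((homologyFunctor C i).map f) := e2
        exact isIso_of_mono_of_epi _
      have hgi : ∀ i, b ≤ i → IsIso ((homologyFunctor C i).map g) := by
        intro i hi
        have e1 := (HomologySequence.exact₂ (Triangle.mk f g h) hT i).mono_g
          ((L.isZero_of_isLE (b - 1) i (by omega)).eq_of_src _ _)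
        have e2 := (HomologySequence.exact₃ (Triangle.mk f g h) hT i (i + 1) rfl).epi_f
          ((L.isZero_of_isLE (b - 1) (i + 1) (by omega)).eq_of_tgt _ _)
        have : Mono ((homologyFunctor C i).map g) := e1
        have : Epi ((homologyFunctor C i).map g) := e2
        exact isIso_of_mono_of_epi _
      have hLa : L.IsGE a := by
        rw [DerivedCategory.isGE_iff]
        intro i hi
        by_cases hi' : i ≤ b - 1
        · have := hfi i hi'
          exact (K.isZero_of_isGE a i hi).of_iso (asIso ((homologyFunctor C i).map f))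
        · exact L.isZero_of_isLE (b - 1) i (by omega)
      have hLP : HBdd P L := by
        refine ⟨fun i => ?_, a, b - 1, hLa, hL'⟩
        by_cases hi : i ≤ b - 1
        · have := hfi i hi
          exact P.prop_of_iso (asIso ((homologyFunctor C i).map f)).symm (hK.1 i)
        · exact P.prop_of_isZero (L.isZero_of_isLE (b - 1) i (by omega))
      have hMb : M.IsLE b := by
        rw [DerivedCategory.isLE_iff]
        intro i hi
        have := hgi i (le_of_lt hi)
        exact (K.isZero_of_isLE b i hi).of_iso (asIso ((homologyFunctor C i).map g)).symm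
      have hMP : HBdd P M := by
        refine ⟨fun i => ?_, b, b, hM', hMb⟩
        by_cases hi : b ≤ i
        · have := hgi i hi
          exact P.prop_of_iso (asIso ((homologyFunctor C i).map g)) (hK.1 i)
        · exact P.prop_of_isZero (M.isZero_of_isGE b i (by omega))
      obtain ⟨Y, ⟨e⟩⟩ := M.exists_iso_singleFunctor_obj_of_isGE_of_isLE b
      have hY : P Y := P.prop_of_iso ((homologyFunctor C b).mapIso e ≪≫
        (singleFunctorCompHomologyFunctorIso C b).app Y) (hMP.1 b)
      exact htri _ hT hLP hK hMP (ih a L hLP hLa hL') (hiso e.symm (hsingle Y hY b))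
  obtain ⟨hP, a, b, ha, hb⟩ := hK
  have hb' : K.IsLE (a + ((b - a + 1).toNat : ℤ) - 1) := TStructure.t.isLE_of_le K b _ (by omega)
  exact key _ a K ⟨hP, a, b, ha, hb⟩ ha hb'

end Groth.Agent.KZ
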