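import Groth.Agent.KZ.CohClass
import Groth.Agent.KZ.Dev
import Groth.Agent.KFlatLib.Perfect.Top
import Groth.Agent.KFlatLib.Perfect.FiniteType
import Groth.Agent.KFlatLib.Scheme.PCQCoh
import Groth.Agent.Lib.CurveDeg
import Groth.Agent.S0887

/-! Perfect objects on Noetherian schemes: cohomology is coherent and bounded. -/

universe u

set_option backward.isDefEq.respectTransparency false
set_option backward.isDefEq.respectTransparency.types false

open CategoryTheory CategoryTheory.Limits AlgebraicGeometry CategoryTheory.Pretriangulated ZeroObject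

attribute [local instance] HasDerivedCategory.standard

namespace Groth.Agent.KZ

variable {X : Scheme.{u}}

theorem isQCoh_of_local {M : X.Modules}
    (h : ∀ x : X, ∃ (U : Scheme.{u}) (j : U ⟶ X) (_ : IsOpenImmersion j),
      x ∈ Set.range j.base ∧ Coh.IsQCoh (M.restrict j)) : Coh.IsQCoh M := by
  choose U j hj hx hq using h
  refine QCoh.isQCoh_of_isOpenCover (fun x => @Scheme.Hom.opensRange _ _ (j x) (hj x))
    (TopologicalSpace.IsOpenCover.mk (top_le_iff.1 fun x _ => TopologicalSpace.Opens.mem_iSup.2 ⟨x, hx x⟩)) fun x => ?_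
  haveI := hj x
  exact (QCoh.isQCoh_iff_iso (QCoh.restrictRestrict M (KFlatLib.rangeHom (j x)) (j x) ≪≫
    (Scheme.Modules.restrictFunctorCongr (KFlatLib.rangeHom_fac (j x))).app M)).1
      (QCoh.isQCoh_restrict (KFlatLib.rangeHom (j x)) (hq x))

/-- Coherence is local. -/
theorem isCoh_of_local {M : X.Modules}
    (h : ∀ x : X, ∃ (U : Scheme.{u}) (j : U ⟶ X) (_ : IsOpenImmersion j),
      x ∈ Set.range j.base ∧ Coh.IsCoh (M.restrict j)) : Coh.IsCoh M := by
  refine ⟨isQCoh_of_local fun x => ?_, KFlatLib.isFT_of_epi_free fun x => ?_⟩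
  · obtain ⟨U, j, hj, hx, hM⟩ := h x
    exact ⟨U, j, hj, hx, hM.1⟩
  · obtain ⟨U, j, _, ⟨u', rfl⟩, hM⟩ := h x
    obtain ⟨W, n, p, hu, hp⟩ := KFlatLib.exists_epi_free_of_isFT hM.2 u'
    let k := W.ι ≫ j
    let i := KFlatLib.rangeHom k ≫ W.ι
    have hi : i ≫ j = k.opensRange.ι := (Category.assoc _ _ _).trans (KFlatLib.rangeHom_fac k)
    let R := Scheme.Modules.restrictFunctor (KFlatLib.rangeHom k)
    haveI : Epi (R.map p) := inferInstance
    exact ⟨k.opensRange, n, (QCoh.freeModRestrict (KFlatLib.rangeHom k) n).inv ≫ R.map p ≫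
      ((Scheme.Modules.restrictFunctorComp (KFlatLib.rangeHom k) W.ι).symm.app (M.restrict j)).hom ≫
        (KFlatLib.restrict₂Iso i j k.opensRange.ι hi M).hom, ⟨⟨u', hu⟩, rfl⟩, inferInstance⟩

/-- Cohomology of a strictly perfect complex is coherent. -/
theorem isCoh_HD_strictlyPerfect [IsLocallyNoetherian X] {P : CochainComplex X.Modules ℤ}
    (hP : DCoh.IsStrictlyPerfect P) (i : ℤ) : Coh.IsCoh (DCoh.HD (DerivedCategory.Q.obj P) i) := by
  have hX : ∀ n, (cohProp X) (P.X n) := fun n => CurveDeg.isCoh_of_isFinLocFree (hP.2 n)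
  refine (cohProp X).prop_of_iso (((DerivedCategory.homologyFunctorFactors _ i).app P) ≪≫
    P.homologyIsoSc' (i - 1) i (i + 1) (by simp) (by simp)).symm ?_
  let S := P.sc' (i - 1) i (i + 1)
  refine (cohProp X).prop_of_iso S.leftHomologyIso ?_
  have hK : (cohProp X) S.cycles := (cohProp X).prop_of_isLimit_kernelFork S.cyclesIsKernel (hX _) (hX _)
  exact (cohProp X).prop_of_isColimit_cokernelCofork S.leftHomologyIsCokernel (hX _) hK

/-- The class of coherent modules supported in a set. -/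
def cohSupp (Y' : Set X) : ObjectProperty X.Modules :=
  fun G => Coh.IsCoh G ∧ CohB1.support G ⊆ Y'

instance (Y' : Set X) : (cohSupp Y').IsClosedUnderIsomorphisms :=
  ⟨fun {M N} e h => ⟨isClosedUnderIsomorphisms_isCoh.of_iso e h.1, (QCoh.support_iso e h.1.1).symm ▸ h.2⟩⟩

instance [IsLocallyNoetherian X] (Y' : Set X) : (cohSupp Y').ContainsZero :=
  ⟨⟨0, isZero_zero _, isCoh_zero, by
    rw [QCoh.support_eq_empty_of_isZero (isZero_zero _) isCoh_zero.1]; exact Set.empty_subset _⟩⟩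

instance [IsLocallyNoetherian X] (Y' : Set X) : (cohSupp Y').IsClosedUnderKernels := ⟨fun K hK => by
  obtain ⟨f, k, hk, hM, hN⟩ := hK
  have hc := QCoh.isCoh_kernel hM.1 hN.1 f
  exact ObjectProperty.prop_of_iso (cohSupp Y') ((kernelIsKernel f).conePointUniqueUpToIso hk)
    ⟨hc, (QCoh.mem_support_of_mono hc.1 hM.1.1 (kernel.ι f)).trans hM.2⟩⟩

instance [IsLocallyNoetherian X] (Y' : Set X) : (cohSupp Y').IsClosedUnderCokernels := ⟨fun K hK => by
  obtain ⟨f, k, hk, hM, hN⟩ := hK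
  have hc := QCoh.isCoh_cokernel hM.1.1 hN.1 f
  exact ObjectProperty.prop_of_iso (cohSupp Y') ((cokernelIsCokernel f).coconePointUniqueUpToIso hk)
    ⟨hc, (QCoh.support_of_epi hN.1.1 hc.1 (cokernel.π f)).trans hN.2⟩⟩

instance (Y' : Set X) : (cohSupp Y').IsClosedUnderExtensions :=
  ⟨fun hS h₁ h₃ => ⟨isCoh_X₂ hS h₁.1 h₃.1, (QCoh.support_subset_union hS h₁.1.1 (isCoh_X₂ hS h₁.1 h₃.1).1 h₃.1.1).trans
    (Set.union_subset h₁.2 h₃.2)⟩⟩

theorem isPerfect_shift {K : DCoh.D X} (h0 : DCoh.IsPerfect (0 : DCoh.D X)) (hK : DCoh.IsPerfect K) (n : ℤ) :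
    DCoh.IsPerfect (K⟦n⟧) := by
  have hiso : ∀ {K L : DCoh.D X}, (K ≅ L) → DCoh.IsPerfect K → DCoh.IsPerfect L := fun {K L} e h x => by
    obtain ⟨V, hx, hV⟩ := h x
    exact ⟨V, hx, fun F ⟨eF⟩ => hV F ⟨eF ≪≫ e.symm⟩⟩
  induction n using Int.induction_on with
  | zero => exact hiso ((shiftFunctorZero (DCoh.D X) ℤ).app K).symm hK
  | succ n ih =>
    refine hiso (((shiftFunctorAdd' (DCoh.D X) (n : ℤ) 1 (n + 1) rfl).app K).symm) ?_
    exact (S0887.result _ (rot_of_distTriang _ (contractible_distinguished (K⟦(n : ℤ)⟧)))).1 ih h0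
  | pred n ih =>
    let L := K⟦(-(n : ℤ) - 1)⟧
    have e : L⟦(1 : ℤ)⟧ ≅ K⟦(-(n : ℤ))⟧ :=
      ((shiftFunctorAdd' (DCoh.D X) (-(n : ℤ) - 1) 1 (-(n : ℤ)) (by ring)).app K).symm
    exact (S0887.result _ (rot_of_distTriang _ (contractible_distinguished L))).2.2 h0 (hiso e.symm ih)

/-- On a Noetherian scheme, if coherent modules supported in `Y'` are perfect then perfect objects supported in `Y'`
are the bounded objects with coherent cohomology supported in `Y'`. -/
theorem isPerfect_supp_iff [IsNoetherian X] (Y' : Set X)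
    (hperf : ∀ G : X.Modules, Coh.IsCoh G → CohB1.support G ⊆ Y' → DCoh.IsPerfect (DCoh.inD X G))
    (K : DCoh.D X) :
    (DCoh.IsPerfect K ∧ ∀ i : ℤ, CohB1.support (DCoh.HD K i) ⊆ Y') ↔ HBdd (cohSupp Y') K := by
  have hiso : ∀ {K L : DCoh.D X}, (K ≅ L) → DCoh.IsPerfect K → DCoh.IsPerfect L := fun {K L} e h x => by
    obtain ⟨V, hx, hV⟩ := h x
    exact ⟨V, hx, fun F ⟨eF⟩ => hV F ⟨eF ≪≫ e.symm⟩⟩
  constructor
  · rintro ⟨hK, hs⟩
    have hloc := (KFlatLib.isPerfect_iff K).1 hK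
    choose U j hj hx P hP eP using hloc
    have e : ∀ (x : X) (i : ℤ), (DCoh.HD K i).restrict (j x) ≅ DCoh.HD (DerivedCategory.Q.obj (P x)) i :=
      fun x i => (KFlatLib.restrictHDIso (j x) K i).symm ≪≫
        (DerivedCategory.homologyFunctor _ i).mapIso (eP x).some.symm
    haveI : ∀ x, IsLocallyNoetherian (U x) := fun x => isLocallyNoetherian_of_isOpenImmersion (j x)
    choose a b hab using fun x => (hP x).1
    obtain ⟨t, ht⟩ := CompactSpace.elim_nhds_subcover (fun x => Set.range (j x).base)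
      fun x => (j x).isOpenEmbedding.isOpen_range.mem_nhds (hx x)
    have hzero : ∀ i, (∀ x ∈ t, i < a x ∨ b x < i) → IsZero (DCoh.HD K i) := fun i hi => by
      refine KFlatLib.isZero_of_stalk _ fun z => ?_
      have hz : z ∈ ⋃ x ∈ t, Set.range (j x).base := by rw [ht]; trivial
      obtain ⟨x, hxt, u', rfl⟩ := Set.mem_iUnion₂.1 hz
      have h0 : IsZero ((DCoh.HD K i).restrict (j x)) := by
        refine IsZero.of_iso ?_ (e x i ≪≫ (DerivedCategory.homologyFunctorFactors _ i).app (P x))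
        exact (HomologicalComplex.exactAt_iff_isZero_homology _ _).1
          (ShortComplex.exact_of_isZero_X₂ _ (hab x i (hi x hxt)))
      haveI := ModuleCat.subsingleton_of_isZero ((DerSch.stalkFunctor (U x) u').map_isZero h0)
      refine ModuleCat.isZero_of_iff_subsingleton.2 ?_
      let eAb := (Scheme.Modules.restrictStalkNatIso (j x) u').app (DCoh.HD K i)
      exact @Equiv.subsingleton _ _ eAb.addCommGroupIsoToAddEquiv.symm.toEquiv ‹_›
    refine ⟨fun i => ⟨isCoh_of_local fun x => ⟨U x, j x, hj x, hx x,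
      isClosedUnderIsomorphisms_isCoh.of_iso (e x i).symm (isCoh_HD_strictlyPerfect (hP x) i)⟩, hs i⟩, ?_⟩
    obtain ⟨A, hA⟩ := (t.finite_toSet.image a).bddBelow
    obtain ⟨B, hB⟩ := (t.finite_toSet.image b).bddAbove
    exact ⟨A, B, (DerivedCategory.isGE_iff _ _).2 fun i hi => hzero i fun x hx =>
        Or.inl (hi.trans_le (hA ⟨x, hx, rfl⟩)),
      (DerivedCategory.isLE_iff _ _).2 fun i hi => hzero i fun x hx =>
        Or.inr ((hB ⟨x, hx, rfl⟩).trans_lt hi)⟩
  · intro h
    refine ⟨?_, fun i => (h.1 i).2⟩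
    have hz0 : ∀ K : DCoh.D X, IsZero K → DCoh.IsPerfect K := fun K hK => by
      have h0 : (cohSupp Y') (0 : X.Modules) := (cohSupp Y').prop_of_isZero (isZero_zero _)
      exact hiso (IsZero.iso (Functor.map_isZero _ (isZero_zero _)) hK) (hperf 0 h0.1 h0.2)
    refine HBdd.induction (motive := DCoh.IsPerfect) hiso hz0 (fun G hG n => ?_)
      (fun T hT _ _ _ h1 h3 => (S0887.result T hT).2.1 h1 h3) h
    exact hiso (((DerivedCategory.singleFunctors X.Modules).shiftIso (-n) n 0 (by omega)).app G)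
      (isPerfect_shift (hz0 0 (isZero_zero _)) (hperf G hG.1 hG.2) (-n))

end Groth.Agent.KZ
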