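import Groth.Agent.KZ.PerfOps
import Groth.Agent.KZ.Dev
import Groth.Prelude.Def_Koszul
import Mathlib

/-!
# Koszul resolutions and finite length modules over a local ring
-/

universe w u

open CategoryTheory CategoryTheory.Limits CategoryTheory.Pretriangulated ZeroObject

namespace Groth.Agent.KZ

variable (R : Type u) [CommRing R]

/-- Finite projective modules. -/
abbrev FP : ObjectProperty (ModuleCat.{u} R) :=
  fun M => Module.Finite R M ∧ Module.Projective R M

lemma projClass_FP : ProjClass (FP R) where
  proj X h := (IsProjective.iff_projective (R := R) X).1 h.2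
  iso {X Y} e h := by
    have := h.1; have := h.2
    exact ⟨Module.Finite.equiv e.toLinearEquiv, Module.Projective.of_equiv e.toLinearEquiv⟩
  zero X hX := by
    have : Subsingleton X := ModuleCat.isZero_iff_subsingleton.1 hX
    exact ⟨inferInstance, Module.Projective.of_free⟩
  biprod X Y hX hY := by
    have := hX.1; have := hX.2; have := hY.1; have := hY.2
    exact ⟨Module.Finite.equiv (ModuleCat.biprodIsoProd X Y).symm.toLinearEquiv,
      Module.Projective.of_equiv (ModuleCat.biprodIsoProd X Y).symm.toLinearEquiv⟩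
  ker S hS h2 h3 := by
    have := h2.1; have := h2.2; have := h3.2
    have hinj : Function.Injective S.f.hom := (ModuleCat.mono_iff_injective _).1 hS.mono_f
    have hsur : Function.Surjective S.g.hom := (ModuleCat.epi_iff_surjective _).1 hS.epi_g
    obtain ⟨s, hs⟩ := Module.projective_lifting_property S.g.hom LinearMap.id hsur
    have hex : Function.Exact S.f.hom S.g.hom :=
      (ShortComplex.ShortExact.moduleCat_exact_iff_function_exact S).1 hS.exact
    obtain ⟨-, r, hr⟩ := (hex.split_tfae'.out 0 1).1 (⟨hinj, s, hs⟩ :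
      Function.Injective S.f.hom ∧ ∃ l, S.g.hom ∘ₗ l = LinearMap.id)
    exact ⟨Module.Finite.of_surjective r (fun x => ⟨S.f.hom x, LinearMap.congr_fun hr x⟩),
      Module.Projective.of_split S.f.hom _ hr⟩

/-- `R/(l)` as an object. -/
noncomputable abbrev quotObj (l : List R) : ModuleCat.{u} R := ModuleCat.of R (R ⧸ Ideal.ofList l)

/-- The successive regularity condition adapted to `Koszul.koszul`. -/
def KRegular : List R → Prop
  | [] => True
  | f :: l => KRegular l ∧ IsSMulRegular (R ⧸ Ideal.ofList l) f

variable [HasDerivedCategory.{w} (ModuleCat.{u} R)]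

open DerivedCategory

lemma bdP_koszul : ∀ l : List R, BdP (FP R) (_root_.Koszul.koszul R l)
  | [] => BdP.single (projClass_FP R) ⟨inferInstanceAs (Module.Finite R R),
      inferInstanceAs (Module.Projective R R)⟩ 0
  | _ :: l => BdP.cone (projClass_FP R) (bdP_koszul l) (bdP_koszul l) _

variable {R}

theorem koszul_iso : ∀ l : List R, KRegular R l →
    Nonempty (Q.obj (_root_.Koszul.koszul R l) ≅
      (singleFunctor (ModuleCat.{u} R) 0).obj (quotObj R l))
  | [], _ => by
    let e : ModuleCat.of R R ≅ quotObj R [] :=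
      (Submodule.quotEquivOfEqBot _ Ideal.ofList_nil).symm.toModuleIso
    exact ⟨(singleFunctor (ModuleCat.{u} R) 0).mapIso e⟩
  | f :: l, ⟨hl, hf⟩ => by
    obtain ⟨e⟩ := koszul_iso l hl
    let I := Ideal.ofList l
    have hle : I ≤ Ideal.ofList (f :: l) := by rw [Ideal.ofList_cons]; exact le_sup_right
    let g : (R ⧸ I) →ₗ[R] (R ⧸ Ideal.ofList (f :: l)) := Submodule.factor hle
    let a : (R ⧸ I) →ₗ[R] (R ⧸ I) := f • LinearMap.id
    have hga : ∀ x, g (a x) = 0 := by
      intro x
      obtain ⟨x, rfl⟩ := Submodule.mkQ_surjective _ x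
      show Submodule.Quotient.mk (f • x) = 0
      rw [Submodule.Quotient.mk_eq_zero, Ideal.ofList_cons, smul_eq_mul]
      exact Submodule.mem_sup_left (Ideal.mul_mem_right _ _ (Ideal.mem_span_singleton_self f))
    let S : ShortComplex (ModuleCat.{u} R) :=
      ShortComplex.mk (X₁ := quotObj R l) (X₂ := quotObj R l) (X₃ := quotObj R (f :: l))
        (f • 𝟙 _) (ModuleCat.ofHom g) (ModuleCat.hom_ext (LinearMap.ext hga))
    have hS : S.ShortExact :=
      { exact := by
          rw [ShortComplex.moduleCat_exact_iff]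
          intro x hx
          obtain ⟨x, rfl⟩ := Submodule.mkQ_surjective _ x
          change Submodule.Quotient.mk x = (0 : R ⧸ Ideal.ofList (f :: l)) at hx
          rw [Submodule.Quotient.mk_eq_zero, Ideal.ofList_cons] at hx
          obtain ⟨y, hy, z, hz, rfl⟩ := Submodule.mem_sup.1 hx
          obtain ⟨c, rfl⟩ := Ideal.mem_span_singleton'.1 hy
          refine ⟨Submodule.Quotient.mk c, ?_⟩
          show (Submodule.Quotient.mk (f • c) : R ⧸ I) = Submodule.Quotient.mk (c * f + z)
          rw [Submodule.Quotient.eq, smul_eq_mul]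
          simpa [mul_comm c f] using I.neg_mem hz
        mono_f := (ModuleCat.mono_iff_injective _).2 hf
        epi_g := (ModuleCat.epi_iff_surjective _).2 (Submodule.factor_surjective hle) }
    let φ : _root_.Koszul.koszul R l ⟶ _root_.Koszul.koszul R l := f • 𝟙 _
    let i := isoTriangleOfIso₁₂ (Q.mapTriangle.obj (CochainComplex.mappingCone.triangle φ))
      hS.singleTriangle ((mem_distTriang_iff _).2 ⟨_, _, φ, ⟨Iso.refl _⟩⟩)
      hS.singleTriangle_distinguished e e (by
        show Q.map φ ≫ e.hom = e.hom ≫ (singleFunctor (ModuleCat.{u} R) 0).map (f • 𝟙 (quotObj R l))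
        simp [φ])
    exact ⟨Triangle.π₃.mapIso i⟩

lemma kRegular_of_isWeaklyRegular : ∀ l : List R,
    RingTheory.Sequence.IsWeaklyRegular R l.reverse → KRegular R l
  | [], _ => trivial
  | f :: l, h => by
    rw [List.reverse_cons, RingTheory.Sequence.isWeaklyRegular_append_iff,
      RingTheory.Sequence.isWeaklyRegular_singleton_iff] at h
    refine ⟨kRegular_of_isWeaklyRegular l h.1, ?_⟩
    have e : (Ideal.ofList l.reverse • ⊤ : Submodule R R) = Ideal.ofList l := by
      rw [smul_eq_mul, Ideal.mul_top]
      simp [Ideal.ofList]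
    exact ((Submodule.quotEquivOfEq _ _ e).isSMulRegular_congr f).1 h.2

section FiniteLength

omit [HasDerivedCategory.{w} (ModuleCat.{u} R)]

variable (R) in
/-- Finite length modules. -/
abbrev FL : ObjectProperty (ModuleCat.{u} R) := fun M => IsFiniteLength R M

instance : (FL R).IsClosedUnderIsomorphisms := ⟨fun e h => e.toLinearEquiv.isFiniteLength h⟩

instance : (FL R).ContainsZero :=
  ⟨⟨ModuleCat.of R PUnit, ModuleCat.isZero_of_subsingleton _, .of_subsingleton⟩⟩

instance : (FL R).IsClosedUnderKernels where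
  kernels_le := by
    rintro _ ⟨f, k, hk, hf⟩
    obtain ⟨_, _⟩ := isFiniteLength_iff_isNoetherian_isArtinian.1 hf.1
    have : Mono k.ι := ⟨fun _ _ h => Fork.IsLimit.hom_ext hk h⟩
    have hi := (ModuleCat.mono_iff_injective k.ι).1 this
    exact isFiniteLength_iff_isNoetherian_isArtinian.2
      ⟨isNoetherian_of_injective k.ι.hom hi, isArtinian_of_injective k.ι.hom hi⟩

variable [IsLocalRing R]

lemma support_subset_of_isFiniteLength {M : Type u} [AddCommGroup M] [Module R M]
    (h : IsFiniteLength R M) : Module.support R M ⊆ {IsLocalRing.closedPoint R} := by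
  induction h with
  | of_subsingleton => simp [Module.support_eq_empty]
  | @of_simple_quotient M _ _ N hs _ ih =>
    rw [Module.support_of_exact (LinearMap.exact_subtype_mkQ N) Subtype.val_injective
      (Submodule.mkQ_surjective N)]
    refine Set.union_subset ih ?_
    obtain ⟨m, hm, ⟨e⟩⟩ := isSimpleModule_iff_quot_maximal.1 hs
    have := hm
    rw [e.support_eq, Module.support_eq_zeroLocus, Ideal.annihilator_quotient]
    intro p hp
    rw [PrimeSpectrum.mem_zeroLocus, SetLike.coe_subset_coe,
      IsLocalRing.eq_maximalIdeal hm] at hp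
    exact PrimeSpectrum.ext (IsLocalRing.maximalIdeal.isMaximal R |>.eq_of_le p.2.ne_top hp).symm

lemma isFiniteLength_of_support_subset [IsNoetherianRing R] (M : Type u) [AddCommGroup M]
    [Module R M] [Module.Finite R M] (h : Module.support R M ⊆ {IsLocalRing.closedPoint R}) :
    IsFiniteLength R M := by
  revert h
  refine IsNoetherianRing.induction_on_isQuotientEquivQuotientPrime (A := R) (M := M) ‹_›
    (motive := fun N _ _ _ => Module.support R N ⊆ {IsLocalRing.closedPoint R} → IsFiniteLength R N)
    ?_ ?_ ?_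
  · intro N _ _ _ _ _; exact .of_subsingleton
  · intro N _ _ _ q e hN
    have hq : q ∈ Module.support R N := by
      rw [e.support_eq, Module.support_eq_zeroLocus, Ideal.annihilator_quotient]
      exact fun _ hx => hx
    have hq' : q.asIdeal = IsLocalRing.maximalIdeal R := congrArg PrimeSpectrum.asIdeal (hN hq)
    have hs : IsSimpleModule R (R ⧸ q.asIdeal) := by
      rw [hq']; exact isSimpleModule_iff_isCoatom.2 (IsLocalRing.maximalIdeal.isMaximal R).out
    have : IsSimpleModule R ((R ⧸ q.asIdeal) ⧸ (⊥ : Submodule R (R ⧸ q.asIdeal))) :=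
      IsSimpleModule.congr (Submodule.quotEquivOfEqBot _ rfl)
    exact e.symm.isFiniteLength (.of_simple_quotient (N := (⊥ : Submodule R (R ⧸ q.asIdeal)))
      .of_subsingleton)
  · intro N₁ _ _ _ N₂ _ _ _ N₃ _ _ _ f g hf hg hfg h1 h3 hN
    obtain ⟨_, _⟩ := isFiniteLength_iff_isNoetherian_isArtinian.1
      (h1 fun q hq => hN (Module.support_subset_of_injective f hf hq))
    obtain ⟨_, _⟩ := isFiniteLength_iff_isNoetherian_isArtinian.1
      (h3 fun q hq => hN (Module.support_subset_of_surjective g hg hq))
    refine isFiniteLength_iff_isNoetherian_isArtinian.2 ⟨isNoetherian_of_range_eq_ker f g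
      (LinearMap.exact_iff.1 hfg).symm, isArtinian_of_range_eq_ker f g (LinearMap.exact_iff.1 hfg).symm⟩

end FiniteLength

lemma finite_homology_of_isPerf [IsNoetherianRing R] {K : DerivedCategory (ModuleCat.{u} R)}
    (hK : IsPerf (FP R) K) (i : ℤ) : Module.Finite R ((homologyFunctor (ModuleCat.{u} R) i).obj K) := by
  obtain ⟨E, ⟨hE, -⟩, ⟨e⟩⟩ := hK
  have : Module.Finite R (E.X i) := (hE i).1
  have hc : Module.Finite R (E.cycles i) :=
    Module.Finite.of_injective (E.iCycles i).hom ((ModuleCat.mono_iff_injective _).1 inferInstance)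
  have hh : Module.Finite R (E.homology i) :=
    Module.Finite.of_surjective (E.homologyπ i).hom ((ModuleCat.epi_iff_surjective _).1 inferInstance)
  have : Module.Finite R ((HomologicalComplex.homologyFunctor (ModuleCat.{u} R) (ComplexShape.up ℤ) i).obj E) := hh
  exact Module.Finite.equiv ((homologyFunctorFactors _ i).symm.app E ≪≫
    (homologyFunctor _ i).mapIso e).toLinearEquiv

lemma bounded_of_isPerf {K : DerivedCategory (ModuleCat.{u} R)} (hK : IsPerf (FP R) K) :
    ∃ a b : ℤ, K.IsGE a ∧ K.IsLE b := by
  obtain ⟨E, ⟨-, a, b, hE⟩, ⟨e⟩⟩ := hK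
  have : E.IsStrictlyGE a := (CochainComplex.isStrictlyGE_iff _ _).2 fun i hi => hE i (Or.inl hi)
  have : E.IsStrictlyLE b := (CochainComplex.isStrictlyLE_iff _ _).2 fun i hi => hE i (Or.inr hi)
  exact ⟨a, b, TStructure.t.isGE_of_iso e a, TStructure.t.isLE_of_iso e b⟩

end Groth.Agent.KZ
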