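import Groth.Agent.KZ.SpecPerf
import Groth.Agent.KZ.PerfCoh
import Groth.Agent.QCoh.SpecFT
import Groth.Agent.Algz7.Restrict
import Groth.Agent.KFlatLib.Perfect.Corollaries
import Groth.Agent.S5165
import Mathlib.RingTheory.RegularLocalRing.Defs

/-! Coherent modules on regular Noetherian schemes are perfect. -/

universe u

set_option backward.isDefEq.respectTransparency false
set_option backward.isDefEq.respectTransparency.types false

open CategoryTheory CategoryTheory.Limits AlgebraicGeometry CategoryTheory.Pretriangulated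

attribute [local instance] HasDerivedCategory.standard

namespace Groth.Agent.KZ

theorem isPerfect_single_of_projective {A : Type u} [CommRing A] (M : ModuleCat.{u} A) [Module.Finite A M]
    [Module.Projective A M] : DRing.IsPerfect A ((DerivedCategory.singleFunctor (ModuleCat.{u} A) 0).obj M) := by
  refine ⟨(HomologicalComplex.single _ (ComplexShape.up ℤ) 0).obj M, 0, 0,
    fun i hi => HomologicalComplex.isZero_single_obj_X _ _ _ _ (by omega), fun i => ?_,
    ⟨(DerivedCategory.singleFunctorIsoCompQ _ 0).symm.app _⟩⟩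
  by_cases hi : i = 0
  · subst hi
    let e := (HomologicalComplex.singleObjXSelf (ComplexShape.up ℤ) 0 M).symm.toLinearEquiv
    exact ⟨Module.Finite.equiv e, Module.Projective.of_equiv e⟩
  · haveI := ModuleCat.subsingleton_of_isZero (HomologicalComplex.isZero_single_obj_X (ComplexShape.up ℤ) 0 M i hi)
    exact ⟨inferInstance, Module.Projective.of_free⟩

/-- Finite modules of finite projective dimension over a Noetherian ring give perfect objects on the spectrum. -/
theorem isPerfect_tilde_of_projDim {R : CommRingCat.{u}} [IsNoetherianRing R] :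
    ∀ (d : ℕ) (M : ModuleCat.{u} R), Module.Finite R M → HasProjectiveDimensionLT M (d + 1) →
      DCoh.IsPerfect (DCoh.inD (Spec R) (tilde M)) := by
  haveI : PreservesFiniteLimits (tilde.functor R) := QCoh.tilde_preservesFiniteLimits (R := R)
  haveI : PreservesFiniteColimits (tilde.functor R) := QCoh.tilde_preservesFiniteColimits (R := R)
  haveI : PreservesBinaryBiproducts (tilde.functor R) := preservesBinaryBiproducts_of_preservesBinaryCoproducts _
  haveI : (tilde.functor R).Additive := Functor.additive_of_preservesBinaryBiproducts _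
  have hproj : ∀ (M : ModuleCat.{u} R) [Module.Finite R M] [Module.Projective R M],
      DCoh.IsPerfect (DCoh.inD (Spec R) (tilde M)) := fun M _ _ =>
    (KFlatLib.isPerfect_iff _).2 (KFlatLib.LocSP.of_iso (((tilde.functor R).mapDerivedCategorySingleFunctor 0).app M)
      ((KFlatLib.isPerfect_iff _).1 ((S1105.result R _).2 (isPerfect_single_of_projective (A := R) M))))
  intro d
  induction d with
  | zero =>
    intro M hM h
    haveI : Projective M := projective_iff_hasProjectiveDimensionLT_one.2 h
    haveI : Module.Projective R M := (IsProjective.iff_projective _).2 inferInstance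
    exact hproj M
  | succ d ih =>
    intro M hM h
    obtain ⟨n, f, hf⟩ := Module.Finite.exists_fin' R M
    let F : ModuleCat.{u} R := ModuleCat.of R (Fin n → R)
    let p : F ⟶ M := ModuleCat.ofHom f
    haveI : Epi p := (ModuleCat.epi_iff_surjective _).2 hf
    let S := kerSeq p
    have hS : S.ShortExact := kerSeq_shortExact p
    haveI : Projective S.X₂ := (IsProjective.iff_projective (R := R) (Fin n → R)).1 inferInstance
    have h₁ := hS.hasProjectiveDimensionLT_X₁ (d + 1) inferInstance h
    have hinj : Function.Injective S.f.hom := (ModuleCat.mono_iff_injective _).1 hS.mono_f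
    haveI : Module.Finite R S.X₁ := Module.Finite.of_injective S.f.hom hinj
    have hT := (hS.map_of_exact (tilde.functor R))
    exact (S0887.result hT.singleTriangle hT.singleTriangle_distinguished).1 (ih S.X₁ ‹_› h₁) (hproj S.X₂)

variable {X : Scheme.{u}}

theorem isRegularRing_sections [IsLocallyNoetherian X] (hreg : ∀ x : X, IsRegularLocalRing (X.presheaf.stalk x))
    {U : X.Opens} (hU : IsAffineOpen U) : IsRegularRing Γ(X, U) := by
  haveI : IsNoetherianRing Γ(X, U) := IsLocallyNoetherian.component_noetherian ⟨U, hU⟩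
  refine isRegularRing_iff.2 fun p hp => ?_
  let q : PrimeSpectrum Γ(X, U) := ⟨p, hp⟩
  have hx : hU.fromSpec q ∈ U := by
    have : hU.fromSpec q ∈ Set.range hU.fromSpec := ⟨q, rfl⟩
    rwa [hU.range_fromSpec] at this
  letI : Algebra Γ(X, U) (X.presheaf.stalk (hU.fromSpec q)) := (X.presheaf.germ U _ hx).hom.toAlgebra
  haveI : IsLocalization.AtPrime (X.presheaf.stalk (hU.fromSpec q)) p := hU.isLocalization_stalk' q hx
  haveI := hreg (hU.fromSpec q)
  exact IsRegularLocalRing.of_ringEquiv
    (IsLocalization.algEquiv p.primeCompl (X.presheaf.stalk (hU.fromSpec q)) (Localization.AtPrime p)).toRingEquiv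

theorem isPerfect_of_isCoh [IsLocallyNoetherian X] (hreg : ∀ x : X, IsRegularLocalRing (X.presheaf.stalk x))
    (G : X.Modules) (hG : Coh.IsCoh G) : DCoh.IsPerfect (DCoh.inD X G) := by
  refine (KFlatLib.isPerfect_iff _).2 (KFlatLib.LocSP.of_local fun x => ?_)
  obtain ⟨U, hU, hxU⟩ := QCoh.exists_affine_mem x
  haveI := isRegularRing_sections hreg hU
  let R := Γ(X, U)
  let j : Spec R ⟶ X := hU.fromSpec
  refine ⟨Spec R, j, inferInstance, by rw [hU.range_fromSpec]; exact hxU, ?_⟩
  haveI : PreservesFiniteLimits (tilde.functor R) := QCoh.tilde_preservesFiniteLimits (R := R)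
  haveI : PreservesFiniteColimits (tilde.functor R) := QCoh.tilde_preservesFiniteColimits (R := R)
  haveI : PreservesBinaryBiproducts (tilde.functor R) := preservesBinaryBiproducts_of_preservesBinaryCoproducts _
  haveI : (tilde.functor R).Additive := Functor.additive_of_preservesBinaryBiproducts _
  obtain ⟨M, ⟨e⟩⟩ := QCoh.isQCoh_spec_iff.1 (QCoh.isQCoh_restrict j hG.1)
  haveI : Module.Finite R M :=
    (QCoh.isFT_tilde_iff M).1 (KFlatLib.isFT_of_iso' e.symm (Algz7.isFT_restrict j hG.1 hG.2))
  obtain ⟨d, hd⟩ := S5165.result R M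
  have hp := isPerfect_tilde_of_projDim (R := R) d M ‹_› hd
  refine KFlatLib.LocSP.of_iso ?_ ((KFlatLib.isPerfect_iff _).1 hp)
  exact (DerivedCategory.singleFunctor _ 0).mapIso e ≪≫
    (((Scheme.Modules.restrictFunctor j).mapDerivedCategorySingleFunctor 0).app G).symm

/-- On a regular Noetherian scheme perfect objects are the bounded objects with coherent cohomology. -/
theorem isPerfect_iff_of_regular [IsNoetherian X] (hreg : ∀ x : X, IsRegularLocalRing (X.presheaf.stalk x))
    (K : DCoh.D X) : DCoh.IsPerfect K ↔ DCoh.IsCohD K ∧ ∃ a b : ℤ, K.IsGE a ∧ K.IsLE b := by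
  have h := isPerfect_supp_iff (Set.univ : Set X) (fun G hG _ => isPerfect_of_isCoh hreg G hG) K
  refine ⟨fun hK => ?_, fun hK => (h.2 ⟨fun i => ⟨hK.1 i, Set.subset_univ _⟩, hK.2⟩).1⟩
  obtain ⟨h1, h2⟩ := h.1 ⟨hK, fun _ => Set.subset_univ _⟩
  exact ⟨fun i => (h1 i).1, h2⟩

theorem exists_K0_equiv_of_iff {D : Type*} [Category D] [Preadditive D] [HasZeroObject D] [HasShift D ℤ]
    [∀ n : ℤ, (shiftFunctor D n).Additive] [Pretriangulated D] (P Q : ObjectProperty D) (h : ∀ K, P K ↔ Q K) :
    ∃ φ : KZero.K0tr P ≃+ KZero.K0tr Q, ∀ K, P K → φ (KZero.clTr P K) = KZero.clTr Q K := by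
  obtain rfl : P = Q := funext fun K => propext (h K)
  exact ⟨AddEquiv.refl _, fun _ _ => rfl⟩

end Groth.Agent.KZ
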