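import Groth.Agent.KZ.Basic
import Mathlib.Algebra.Homology.DerivedCategory.TStructure
import Mathlib.Algebra.Homology.DerivedCategory.SingleTriangle
import Mathlib.Algebra.Homology.DerivedCategory.FullyFaithful
import Mathlib.CategoryTheory.ObjectProperty.Kernels
import Mathlib.CategoryTheory.ObjectProperty.Extensions
import Mathlib.Algebra.Ring.NegOnePow
import Mathlib.Algebra.BigOperators.Finprod
import Mathlib.Tactic.Ring
import Mathlib.Tactic.Abel
import Mathlib.Data.Int.Interval

/-!
# K₀ of bounded objects of the derived category with homology in a subcategory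
-/

universe w v u

open CategoryTheory CategoryTheory.Limits CategoryTheory.Pretriangulated ZeroObject

namespace Groth.Agent.KZ

variable {C : Type u} [Category.{v} C] [Abelian C]

lemma clSub_kernel_exact (P : ObjectProperty C) {X Y Z : C} (f : X ⟶ Y) (g : Y ⟶ Z)
    (w : f ≫ g = 0) (hS : (ShortComplex.mk f g w).Exact) (h₁ : P (kernel f)) (h₂ : P X)
    (h₃ : P (kernel g)) :
    KZero.clSub P X = KZero.clSub P (kernel f) + KZero.clSub P (kernel g) := by
  have he : Epi (kernel.lift g f w) := hS.epi_kernelLift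
  have w' : kernel.ι f ≫ kernel.lift g f w = 0 := by ext; simp
  have hk : IsLimit (KernelFork.ofι (kernel.ι f) w') :=
    KernelFork.IsLimit.ofι' (kernel.ι f) w' (fun {T} k hk => by
      have hk' : k ≫ f = 0 := by
        have := hk =≫ kernel.ι g
        simpa using this
      exact ⟨kernel.lift f k hk', kernel.lift_ι ..⟩)
  have hSS : (ShortComplex.mk _ _ w').ShortExact :=
    { exact := (ShortComplex.mk _ _ w').exact_of_f_is_kernel hk
      mono_f := inferInstanceAs (Mono (kernel.ι f))
      epi_g := he }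
  exact clSub_ses P hSS h₁ h₂ h₃

variable [HasDerivedCategory.{w} C] (P : ObjectProperty C)

open DerivedCategory

/-- Bounded, with all homology objects in `P`. -/
def HBdd (K : DerivedCategory C) : Prop :=
  (∀ i : ℤ, P ((homologyFunctor C i).obj K)) ∧ ∃ a b : ℤ, K.IsGE a ∧ K.IsLE b

/-- The Euler characteristic. -/
noncomputable def euler (K : DerivedCategory C) : KZero.K0sub P :=
  ∑ᶠ i : ℤ, ((i.negOnePow : ℤˣ) : ℤ) • KZero.clSub P ((homologyFunctor C i).obj K)

lemma euler_support {K : DerivedCategory C} {a b : ℤ} (ha : K.IsGE a) (hb : K.IsLE b) :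
    (Function.support fun i : ℤ =>
      KZero.clSub P ((homologyFunctor C i).obj K)) ⊆ Set.Icc a b := by
  intro i hi
  by_contra h
  apply hi
  rw [Set.mem_Icc, not_and_or, not_le, not_le] at h
  rcases h with h | h
  · exact clSub_isZero P (K.isZero_of_isGE a i h)
  · exact clSub_isZero P (K.isZero_of_isLE b i h)

lemma finite_support_of {K : DerivedCategory C} (hK : HBdd P K) :
    (Function.support fun i : ℤ =>
      KZero.clSub P ((homologyFunctor C i).obj K)).Finite := by
  obtain ⟨-, a, b, ha, hb⟩ := hK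
  exact (Set.finite_Icc a b).subset (euler_support P ha hb)

lemma finsum_negOnePow_telescope {G : Type*} [AddCommGroup G] (z : ℤ → G)
    (hz : (Function.support z).Finite) :
    ∑ᶠ i : ℤ, ((i.negOnePow : ℤˣ) : ℤ) • (z i + z (i + 1)) = 0 := by
  let F : ℤ → G := fun i => ((i.negOnePow : ℤˣ) : ℤ) • z i
  have hF : (Function.support F).Finite :=
    hz.subset (fun i hi h => hi (by simp [F, h]))
  have hF' : (Function.support fun i => -F (i + 1)).Finite :=
    (hF.image (fun j => j - 1)).subset (fun i hi => ⟨i + 1, by simpa using hi, by simp⟩)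
  have h : ∀ i : ℤ, ((i.negOnePow : ℤˣ) : ℤ) • (z i + z (i + 1)) = F i + -F (i + 1) := by
    intro i
    simp [F, Int.negOnePow_succ, smul_add]
  simp only [h]
  rw [finsum_add_distrib hF hF', finsum_neg_distrib, ← sub_eq_add_neg, sub_eq_zero]
  exact (finsum_comp_equiv (Equiv.addRight (1 : ℤ)) (f := F)).symm

variable [P.IsClosedUnderKernels]

theorem euler_triangle {T : Triangle (DerivedCategory C)} (hT : T ∈ distTriang _)
    (h₁ : HBdd P T.obj₁) (h₂ : HBdd P T.obj₂) (h₃ : HBdd P T.obj₃) :
    euler P T.obj₂ = euler P T.obj₁ + euler P T.obj₃ := by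
  let f := fun i : ℤ => (homologyFunctor C i).map T.mor₁
  let g := fun i : ℤ => (homologyFunctor C i).map T.mor₂
  let d := fun i : ℤ => HomologySequence.δ T i (i + 1) rfl
  let z₁ := fun i => KZero.clSub P (kernel (f i))
  let z₂ := fun i => KZero.clSub P (kernel (g i))
  let z₃ := fun i => KZero.clSub P (kernel (d i))
  have p₁ : ∀ i, P (kernel (f i)) := fun i => P.prop_kernel _ (h₁.1 i) (h₂.1 i)
  have p₂ : ∀ i, P (kernel (g i)) := fun i => P.prop_kernel _ (h₂.1 i) (h₃.1 i)
  have p₃ : ∀ i, P (kernel (d i)) := fun i => P.prop_kernel _ (h₃.1 i) (h₁.1 (i + 1))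
  have e₁ : ∀ i, KZero.clSub P ((homologyFunctor C i).obj T.obj₁) = z₁ i + z₂ i := fun i =>
    clSub_kernel_exact P _ _ _ (HomologySequence.exact₂ T hT i) (p₁ i) (h₁.1 i) (p₂ i)
  have e₂ : ∀ i, KZero.clSub P ((homologyFunctor C i).obj T.obj₂) = z₂ i + z₃ i := fun i =>
    clSub_kernel_exact P _ _ _ (HomologySequence.exact₃ T hT i (i + 1) rfl) (p₂ i) (h₂.1 i) (p₃ i)
  have e₃ : ∀ i, KZero.clSub P ((homologyFunctor C i).obj T.obj₃) = z₃ i + z₁ (i + 1) := fun i =>
    clSub_kernel_exact P _ _ _ (HomologySequence.exact₁ T hT i (i + 1) rfl) (p₃ i) (h₃.1 i)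
      (p₁ (i + 1))
  have hz : (Function.support z₁).Finite := by
    obtain ⟨a, b, ha, hb⟩ := h₁.2
    refine (Set.finite_Icc a b).subset fun i hi => ?_
    by_contra hc
    apply hi
    rw [Set.mem_Icc, not_and_or, not_le, not_le] at hc
    refine clSub_isZero P (IsZero.of_mono (kernel.ι (f i)) ?_)
    rcases hc with hc | hc
    · exact T.obj₁.isZero_of_isGE a i hc
    · exact T.obj₁.isZero_of_isLE b i hc
  have hs : ∀ {K : DerivedCategory C}, HBdd P K → (Function.support fun i : ℤ =>
      ((i.negOnePow : ℤˣ) : ℤ) • KZero.clSub P ((homologyFunctor C i).obj K)).Finite :=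
    fun hK => (finite_support_of P hK).subset (fun i hi h => hi (by simp [h]))
  rw [euler, euler, euler, ← finsum_add_distrib (hs h₁) (hs h₃), ← sub_eq_zero,
    ← finsum_sub_distrib (hs h₂) (((hs h₁).union (hs h₃)).subset (Function.support_add _ _)),
    ← neg_eq_zero, ← finsum_neg_distrib, ← finsum_negOnePow_telescope z₁ hz]
  refine finsum_congr fun i => ?_
  rw [e₁, e₂, e₃, smul_add, smul_add, smul_add, smul_add]
  abel

variable [P.IsClosedUnderIsomorphisms] [P.ContainsZero]

lemma HBdd.single {X : C} (hX : P X) (n : ℤ) : HBdd P ((singleFunctor C n).obj X) := by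
  refine ⟨fun i => ?_, n, n, inferInstance, inferInstance⟩
  rcases lt_trichotomy i n with h | rfl | h
  · exact P.prop_of_isZero (((singleFunctor C n).obj X).isZero_of_isGE n i h)
  · exact P.prop_of_iso ((singleFunctorCompHomologyFunctorIso C i).app X).symm hX
  · exact P.prop_of_isZero (((singleFunctor C n).obj X).isZero_of_isLE n i h)

lemma HBdd.of_isZero {K : DerivedCategory C} (hK : IsZero K) : HBdd P K := by
  refine ⟨fun i => P.prop_of_isZero ((homologyFunctor C i).map_isZero hK), 0, 0, ?_, ?_⟩
  · rw [DerivedCategory.isGE_iff]; exact fun i _ => (homologyFunctor C i).map_isZero hK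
  · rw [DerivedCategory.isLE_iff]; exact fun i _ => (homologyFunctor C i).map_isZero hK

lemma euler_single {X : C} (hX : P X) :
    euler P ((singleFunctor C 0).obj X) = KZero.clSub P X := by
  rw [euler, finsum_eq_single _ (0 : ℤ)]
  · simp only [Int.negOnePow_zero, Units.val_one, one_smul]
    exact clSub_iso P ((singleFunctorCompHomologyFunctorIso C 0).app X)
      ((HBdd.single P hX 0).1 0) hX (isZero_zero C) (P.prop_of_isZero (isZero_zero C))
  · intro i hi
    rcases lt_or_gt_of_ne hi with h | h
    · rw [clSub_isZero P (((singleFunctor C 0).obj X).isZero_of_isGE 0 i h), smul_zero]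
    · rw [clSub_isZero P (((singleFunctor C 0).obj X).isZero_of_isLE 0 i h), smul_zero]

variable (Q : ObjectProperty (DerivedCategory C)) (hQ : ∀ K, Q K ↔ HBdd P K)
include hQ

lemma clTr_shift_of {X : DerivedCategory C} (h : Q X) (h' : Q (X⟦(1 : ℤ)⟧)) :
    KZero.clTr Q (X⟦(1 : ℤ)⟧) = -KZero.clTr Q X := by
  have hz : Q (0 : DerivedCategory C) := (hQ _).2 (HBdd.of_isZero P (isZero_zero _))
  have h1 := clTr_triangle Q (rot_of_distTriang _ (contractible_distinguished X)) h hz h'
  change KZero.clTr Q (0 : DerivedCategory C) = KZero.clTr Q X + KZero.clTr Q (X⟦(1 : ℤ)⟧) at h1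
  rw [clTr_isZero Q (isZero_zero _)] at h1
  exact eq_neg_of_add_eq_zero_right h1.symm

lemma clTr_single {X : C} (hX : P X) (n : ℤ) :
    KZero.clTr Q ((singleFunctor C n).obj X) =
      ((n.negOnePow : ℤˣ) : ℤ) • KZero.clTr Q ((singleFunctor C 0).obj X) := by
  have hq : ∀ m, Q ((singleFunctor C m).obj X) := fun m => (hQ _).2 (HBdd.single P hX m)
  have hz : Q (0 : DerivedCategory C) := (hQ _).2 (HBdd.of_isZero P (isZero_zero _))
  have step : ∀ m : ℤ, KZero.clTr Q ((singleFunctor C m).obj X) =
      -KZero.clTr Q ((singleFunctor C (m + 1)).obj X) := by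
    intro m
    have e : ((singleFunctor C (m + 1)).obj X)⟦(1 : ℤ)⟧ ≅ (singleFunctor C m).obj X :=
      ((singleFunctors C).shiftIso 1 m (m + 1) (add_comm 1 m)).app X
    have hs : Q (((singleFunctor C (m + 1)).obj X)⟦(1 : ℤ)⟧) := by
      rw [hQ]
      obtain ⟨hP, a, b, ha, hb⟩ := HBdd.single P hX m
      exact ⟨fun i => P.prop_of_iso ((homologyFunctor C i).mapIso e).symm (hP i), a, b,
        TStructure.t.isGE_of_iso e.symm a, TStructure.t.isLE_of_iso e.symm b⟩
    rw [← clTr_iso Q e hs (hq m) (isZero_zero _) hz, clTr_shift_of P Q hQ (hq _) hs]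
  induction n using Int.induction_on with
  | zero => simp
  | succ i ih =>
    rw [step (i : ℤ), neg_eq_iff_eq_neg] at ih
    rw [ih, Int.negOnePow_succ]
    simp
  | pred i ih =>
    have h : -(i : ℤ) - 1 + 1 = -(i : ℤ) := by ring
    rw [step (-(i : ℤ) - 1), h, ih]
    conv_lhs => rw [← h, Int.negOnePow_succ]
    simp

theorem bijective_of_single (φ : KZero.K0sub P →+ KZero.K0tr Q)
    (hφ : ∀ X, P X → φ (KZero.clSub P X) = KZero.clTr Q ((singleFunctor C 0).obj X)) :
    Function.Bijective φ := by
  obtain ⟨ψ, hψ⟩ := exists_liftTr Q (euler P)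
    (fun T hT a b c => euler_triangle P hT ((hQ _).1 a) ((hQ _).1 b) ((hQ _).1 c))
  have h1 : ψ.comp φ = AddMonoidHom.id _ := by
    refine K0sub_hom_ext P fun X hX => ?_
    rw [AddMonoidHom.comp_apply, hφ X hX, hψ _ ((hQ _).2 (HBdd.single P hX 0)),
      euler_single P hX]
    rfl
  have key : ∀ (n : ℕ) (a : ℤ) (K : DerivedCategory C), HBdd P K → K.IsGE a →
      K.IsLE (a + (n : ℤ) - 1) → KZero.clTr Q K ∈ φ.range := by
    intro n
    induction n with
    | zero =>
      intro a K hK ha hb
      have : IsZero K := TStructure.t.isZero K (a + ((0 : ℕ) : ℤ) - 1) a (by simp)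
      rw [clTr_isZero Q this]
      exact zero_mem _
    | succ n ih =>
      intro a K hK ha hb
      let b : ℤ := a + (n : ℤ)
      have hb : K.IsLE b := by
        have : a + ((n + 1 : ℕ) : ℤ) - 1 = b := by simp [b]; ring
        rwa [this] at hb
      obtain ⟨L, M, hL, hM, f, g, h, hT⟩ := TStructure.t.exists_triangle K (b - 1) b (by ring)
      have hL' : L.IsLE (b - 1) := ⟨hL⟩
      have hM' : M.IsGE b := ⟨hM⟩
      have hfi : ∀ i, i ≤ b - 1 → IsIso ((homologyFunctor C i).map f) := by
        intro i hi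
        have e2 := (HomologySequence.exact₂ (Triangle.mk f g h) hT i).epi_f
          ((M.isZero_of_isGE b i (by omega)).eq_of_tgt _ _)
        have e1 := (HomologySequence.exact₁ (Triangle.mk f g h) hT (i - 1) i (by ring)).mono_g
          ((M.isZero_of_isGE b (i - 1) (by omega)).eq_of_src _ _)
        have : Mono ((homologyFunctor C i).map f) := e1
        have : Epi ((homologyFunctor C i).map f) := e2
        exact isIso_of_mono_of_epi _
      have hgi : ∀ i, b ≤ i → IsIso ((homologyFunctor C i).map g) := by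
        intro i hi
        have e1 := (HomologySequence.exact₂ (Triangle.mk f g h) hT i).mono_g
          ((L.isZero_of_isLE (b - 1) i (by omega)).eq_of_src _ _)
        have e2 := (HomologySequence.exact₃ (Triangle.mk f g h) hT i (i + 1) rfl).epi_f
          ((L.isZero_of_isLE (b - 1) (i + 1) (by omega)).eq_of_tgt _ _)
        have : Mono ((homologyFunctor C i).map g) := e1
        have : Epi ((homologyFunctor C i).map g) := e2
        exact isIso_of_mono_of_epi _
      have hLP : HBdd P L := by
        refine ⟨fun i => ?_, a, b - 1, ?_, hL'⟩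
        · by_cases hi : i ≤ b - 1
          · have := hfi i hi
            exact P.prop_of_iso (asIso ((homologyFunctor C i).map f)).symm (hK.1 i)
          · exact P.prop_of_isZero (L.isZero_of_isLE (b - 1) i (by omega))
        · rw [DerivedCategory.isGE_iff]
          intro i hi
          by_cases hi' : i ≤ b - 1
          · have := hfi i hi'
            exact (K.isZero_of_isGE a i hi).of_iso (asIso ((homologyFunctor C i).map f))
          · exact L.isZero_of_isLE (b - 1) i (by omega)
      have hMb : M.IsLE b := by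
        rw [DerivedCategory.isLE_iff]
        intro i hi
        have := hgi i (le_of_lt hi)
        exact (K.isZero_of_isLE b i hi).of_iso (asIso ((homologyFunctor C i).map g)).symm
      have hMP : HBdd P M := by
        refine ⟨fun i => ?_, b, b, hM', hMb⟩
        by_cases hi : b ≤ i
        · have := hgi i hi
          exact P.prop_of_iso (asIso ((homologyFunctor C i).map g)) (hK.1 i)
        · exact P.prop_of_isZero (M.isZero_of_isGE b i (by omega))
      obtain ⟨Y, ⟨e⟩⟩ := M.exists_iso_singleFunctor_obj_of_isGE_of_isLE b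
      have hY : P Y := P.prop_of_iso ((homologyFunctor C b).mapIso e ≪≫
        (singleFunctorCompHomologyFunctorIso C b).app Y) (hMP.1 b)
      have hM0 : KZero.clTr Q M ∈ φ.range := by
        rw [clTr_iso Q e ((hQ _).2 hMP) ((hQ _).2 (HBdd.single P hY b)) (isZero_zero _)
          ((hQ _).2 (HBdd.of_isZero P (isZero_zero _))), clTr_single P Q hQ hY b, ← hφ Y hY]
        exact zsmul_mem (show φ (KZero.clSub P Y) ∈ φ.range from ⟨_, rfl⟩) _
      have := clTr_triangle Q hT ((hQ _).2 hLP) ((hQ _).2 hK) ((hQ _).2 hMP)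
      change KZero.clTr Q K = KZero.clTr Q L + KZero.clTr Q M at this
      rw [this]
      refine add_mem (ih a L hLP ?_ hL') hM0
      rw [DerivedCategory.isGE_iff]
      intro i hi
      by_cases hi' : i ≤ b - 1
      · have := hfi i hi'
        exact (K.isZero_of_isGE a i hi).of_iso (asIso ((homologyFunctor C i).map f))
      · exact L.isZero_of_isLE (b - 1) i (by omega)
  refine ⟨fun x y hxy => ?_, fun y => ?_⟩
  · have := congrArg ψ hxy
    rwa [← AddMonoidHom.comp_apply, ← AddMonoidHom.comp_apply, h1] at this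
  · refine QuotientAddGroup.induction_on y fun z => ?_
    change _ ∈ φ.range
    induction z using FreeAbelianGroup.induction_on with
    | zero => exact zero_mem _
    | of X =>
      rw [← clTr_of_prop Q X.2]
      obtain ⟨hP, a, b, ha, hb⟩ := (hQ _).1 X.2
      have hb' : X.1.IsLE (a + ((b - a + 1).toNat : ℤ) - 1) :=
        TStructure.t.isLE_of_le X.1 b _ (by omega)
      exact key _ a X.1 ⟨hP, a, b, ha, hb⟩ ha hb'
    | neg X hX => exact neg_mem hX
    | add a b ha hb => exact add_mem ha hb

theorem exists_equiv : ∃ φ : KZero.K0sub P ≃+ KZero.K0tr Q,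
    ∀ X, P X → φ (KZero.clSub P X) = KZero.clTr Q ((singleFunctor C 0).obj X) := by
  obtain ⟨φ, hφ⟩ := exists_liftSub P (fun X => KZero.clTr Q ((singleFunctor C 0).obj X))
    (fun S hS a b c => by
      refine clTr_triangle Q hS.singleTriangle_distinguished ?_ ?_ ?_
      · exact (hQ _).2 (HBdd.single P a 0)
      · exact (hQ _).2 (HBdd.single P b 0)
      · exact (hQ _).2 (HBdd.single P c 0))
  exact ⟨AddEquiv.ofBijective φ (bijective_of_single P Q hQ φ hφ), hφ⟩

end Groth.Agent.KZ
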