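import Groth.Agent.KZ.Basic
import Groth.Agent.S3194
import Mathlib

/-!
# K₀ of finite modules over a ring with two axes
-/

universe u

open CategoryTheory CategoryTheory.Limits

namespace Groth.Agent.KZ

variable (A : Type u) [CommRing A]

/-- Finite modules. -/
abbrev FinP : ObjectProperty (ModuleCat.{u} A) := fun M => Module.Finite A M

variable {A}

lemma shortExact_of {X Y Z : ModuleCat.{u} A} (f : X →ₗ[A] Y) (g : Y →ₗ[A] Z)
    (hf : Function.Injective f) (hg : Function.Surjective g) (hfg : Function.Exact f g) :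
    (ShortComplex.mk (ModuleCat.ofHom f) (ModuleCat.ofHom g)
      (ModuleCat.hom_ext (LinearMap.ext hfg.apply_apply_eq_zero))).ShortExact where
  exact := (ShortComplex.ShortExact.moduleCat_exact_iff_function_exact _).2 hfg
  mono_f := (ModuleCat.mono_iff_injective _).2 hf
  epi_g := (ModuleCat.epi_iff_surjective _).2 hg

variable (x : A)

/-- A module killed by `x` has class a multiple of that of `A/(x)`. -/
lemma cl_of_smul_eq_zero [IsDomain (A ⧸ Ideal.span {x})]
    [IsPrincipalIdealRing (A ⧸ Ideal.span {x})] (M : Type u) [AddCommGroup M] [Module A M]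
    [Module.Finite A M] (h : ∀ m : M, x • m = 0) :
    ∃ n : ℤ, KZero.clSub (FinP A) (ModuleCat.of A M) =
      n • KZero.clSub (FinP A) (ModuleCat.of A (A ⧸ Ideal.span {x})) := by
  let I := Ideal.span {x}
  let F := ModuleCat.restrictScalars.{u} (Ideal.Quotient.mk I)
  have hfin : ∀ N : ModuleCat.{u} (A ⧸ I), Module.Finite (A ⧸ I) N → Module.Finite A (F.obj N) := by
    intro N hN
    obtain ⟨s, hs⟩ := hN.fg_top
    let T : Submodule A (F.obj N) := Submodule.span A (s : Set N)
    have key : ∀ m : N, (show F.obj N from m) ∈ T := by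
      intro m
      have hm : m ∈ Submodule.span (A ⧸ I) (s : Set N) := by rw [hs]; trivial
      induction hm using Submodule.span_induction with
      | mem y hy => exact Submodule.subset_span hy
      | zero => exact zero_mem T
      | add _ _ _ _ ha hb => exact add_mem ha hb
      | smul r y _ hy =>
        obtain ⟨r, rfl⟩ := Ideal.Quotient.mk_surjective r
        exact T.smul_mem r hy
    exact ⟨⟨s, Submodule.eq_top_iff'.2 key⟩⟩
  obtain ⟨ρ, hρ⟩ := exists_liftSub (FinP (A ⧸ I)) (fun N => KZero.clSub (FinP A) (F.obj N))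
    (fun S hS a b c => clSub_ses (FinP A) (hS.map_of_exact F) (hfin _ a) (hfin _ b) (hfin _ c))
  have htor : Module.IsTorsionBySet A M (I : Set A) := by
    intro m ⟨a, ha⟩
    obtain ⟨c, rfl⟩ := Ideal.mem_span_singleton'.1 ha
    show (c * x) • m = 0
    rw [mul_smul, h, smul_zero]
  letI := htor.module
  have hst : IsScalarTower A (A ⧸ I) M := Module.IsTorsionBySet.isScalarTower htor
  have hMB : Module.Finite (A ⧸ I) M := Module.Finite.of_restrictScalars_finite A _ _
  obtain ⟨n, hn⟩ := (Groth.Agent.S3194.result (A ⧸ I)).2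
    (KZero.clSub (FinP (A ⧸ I)) (ModuleCat.of (A ⧸ I) M))
  refine ⟨n, ?_⟩
  have hh := congrArg ρ hn
  simp only [map_zsmul] at hh
  rw [hρ (ModuleCat.of (A ⧸ I) M) hMB] at hh
  have hz : Module.Finite A (ModuleCat.of A PUnit.{u + 1}) := inferInstanceAs (Module.Finite A PUnit.{u + 1})
  let l1 : (F.obj (ModuleCat.of (A ⧸ I) M) : ModuleCat.{u} A) ≃ₗ[A] M :=
      { toFun := fun m => m
        invFun := fun m => m
        map_add' := fun _ _ => rfl
        map_smul' := fun _ _ => rfl
        left_inv := fun _ => rfl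
        right_inv := fun _ => rfl }
  let l2 : (F.obj (ModuleCat.of (A ⧸ I) (A ⧸ I)) : ModuleCat.{u} A) ≃ₗ[A] (A ⧸ I) :=
      { toFun := fun m => m
        invFun := fun m => m
        map_add' := fun _ _ => rfl
        map_smul' := fun _ _ => rfl
        left_inv := fun _ => rfl
        right_inv := fun _ => rfl }
  let e1 : F.obj (ModuleCat.of (A ⧸ I) M) ≅ ModuleCat.of A M := l1.toModuleIso
  let e2 : F.obj (ModuleCat.of (A ⧸ I) (A ⧸ I)) ≅ ModuleCat.of A (A ⧸ I) := l2.toModuleIso
  rw [clSub_iso (FinP A) e1.symm ‹_› (hfin _ hMB) (ModuleCat.isZero_of_subsingleton _) hz, ← hh]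
  change n • ρ (KZero.clSub (FinP (A ⧸ I)) (ModuleCat.of (A ⧸ I) (A ⧸ I))) = _
  rw [hρ (ModuleCat.of (A ⧸ I) (A ⧸ I)) (inferInstanceAs (Module.Finite (A ⧸ I) (A ⧸ I))),
    clSub_iso (FinP A) e2 (hfin _ (inferInstanceAs (Module.Finite (A ⧸ I) (A ⧸ I))))
      (inferInstanceAs (Module.Finite A (A ⧸ I))) (ModuleCat.isZero_of_subsingleton _) hz]

/-- The rank at the generic point of `V(x)`. -/
lemma exists_rank (y : A) (hxy : x * y = 0) [IsDomain (A ⧸ Ideal.span {x})]
    (hy : y ∉ Ideal.span {x}) :
    ∃ r : KZero.K0sub (FinP A) →+ ℤ,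
      r (KZero.clSub (FinP A) (ModuleCat.of A (A ⧸ Ideal.span {x}))) = 1 ∧
      r (KZero.clSub (FinP A) (ModuleCat.of A (A ⧸ Ideal.span {y}))) = 0 := by
  let p := Ideal.span {x}
  have hp : p.IsPrime := (Ideal.Quotient.isDomain_iff_prime p).1 ‹_›
  let K := Localization.AtPrime p
  have hfield : IsField K := by
    rw [IsLocalRing.isField_iff_maximalIdeal_eq, ← Localization.AtPrime.map_eq_maximalIdeal,
      Ideal.map_span, Set.image_singleton, Ideal.span_singleton_eq_bot]
    exact (IsLocalization.map_eq_zero_iff p.primeCompl K x).2 ⟨⟨y, hy⟩, by rw [mul_comm]; exact hxy⟩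
  letI : Field K := hfield.toField
  obtain ⟨r, hr⟩ := exists_liftSub (FinP A)
    (fun M => ((Module.length K (LocalizedModule p.primeCompl M)).toNat : ℤ))
    (fun S hS a b c => by
      have : Module.Finite A S.X₁ := a
      have : Module.Finite A S.X₂ := b
      have : Module.Finite A S.X₃ := c
      have hex : Function.Exact S.f.hom S.g.hom :=
        (ShortComplex.ShortExact.moduleCat_exact_iff_function_exact S).1 hS.exact
      have h1 := LocalizedModule.map_exact p.primeCompl S.f.hom S.g.hom hex
      have h2 := LocalizedModule.map_injective p.primeCompl S.f.hom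
        ((ModuleCat.mono_iff_injective _).1 hS.mono_f)
      have h3 := LocalizedModule.map_surjective p.primeCompl S.g.hom
        ((ModuleCat.epi_iff_surjective _).1 hS.epi_g)
      have he := Module.length_eq_add_of_exact _ _ h2 h3 h1
      rw [he, ENat.toNat_add Module.length_ne_top Module.length_ne_top]
      push_cast
      rfl)
  refine ⟨r, ?_, ?_⟩
  · rw [hr _ (inferInstanceAs (Module.Finite A (A ⧸ Ideal.span {x})))]
    have hnt : Nontrivial (LocalizedModule p.primeCompl (A ⧸ p)) := by
      refine ⟨LocalizedModule.mk (1 : A ⧸ p) 1, 0, fun h => ?_⟩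
      rw [← LocalizedModule.zero_mk (1 : p.primeCompl), LocalizedModule.mk_eq] at h
      obtain ⟨⟨u, hu⟩, hu'⟩ := h
      simp only [one_smul, smul_zero] at hu'
      exact hu (Ideal.Quotient.eq_zero_iff_mem.1 (by simpa [Submonoid.smul_def, Algebra.smul_def] using hu'))
    have hle : Module.length K (LocalizedModule p.primeCompl (A ⧸ p)) ≤ 1 := by
      let g := LocalizedModule.map p.primeCompl (Submodule.mkQ p)
      have hg := LocalizedModule.map_surjective p.primeCompl _ (Submodule.mkQ_surjective p)
      refine le_trans (Module.length_le_of_surjective g hg) (le_of_eq ?_)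
      have e : LocalizedModule p.primeCompl A ≃ₗ[K] K :=
        (IsLocalizedModule.iso p.primeCompl (Algebra.linearMap A K)).extendScalarsOfIsLocalization
          p.primeCompl K
      rw [e.length_eq, Module.length_eq_one_iff]
      infer_instance
    have : Module.length K (LocalizedModule p.primeCompl (A ⧸ p)) = 1 :=
      le_antisymm hle (Order.one_le_iff_pos.2 Module.length_pos)
    show ((Module.length K (LocalizedModule p.primeCompl (A ⧸ p))).toNat : ℤ) = 1
    rw [this]
    rfl
  · rw [hr _ (inferInstanceAs (Module.Finite A (A ⧸ Ideal.span {y})))]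
    have : Subsingleton (LocalizedModule p.primeCompl (A ⧸ Ideal.span {y})) := by
      rw [LocalizedModule.subsingleton_iff]
      intro m
      obtain ⟨m, rfl⟩ := Submodule.mkQ_surjective _ m
      refine ⟨y, hy, ?_⟩
      show Submodule.Quotient.mk (y • m) = 0
      rw [Submodule.Quotient.mk_eq_zero, smul_eq_mul]
      exact Ideal.mul_mem_right _ _ (Ideal.mem_span_singleton_self y)
    show ((Module.length K (LocalizedModule p.primeCompl (A ⧸ Ideal.span {y}))).toNat : ℤ) = 0
    rw [Module.length_eq_zero]
    rfl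

theorem bijective_two_axes [IsNoetherianRing A] (y : A) (hxy : x * y = 0)
    [IsDomain (A ⧸ Ideal.span {x})] [IsPrincipalIdealRing (A ⧸ Ideal.span {x})]
    [IsDomain (A ⧸ Ideal.span {y})] [IsPrincipalIdealRing (A ⧸ Ideal.span {y})]
    (hy : y ∉ Ideal.span {x}) (hx : x ∉ Ideal.span {y}) :
    Function.Bijective (fun q : ℤ × ℤ =>
      q.1 • KZero.clSub (FinP A) (ModuleCat.of A (A ⧸ Ideal.span {x})) +
        q.2 • KZero.clSub (FinP A) (ModuleCat.of A (A ⧸ Ideal.span {y}))) := by
  set ex := KZero.clSub (FinP A) (ModuleCat.of A (A ⧸ Ideal.span {x}))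
  set ey := KZero.clSub (FinP A) (ModuleCat.of A (A ⧸ Ideal.span {y}))
  obtain ⟨r, r1, r2⟩ := exists_rank x y hxy hy
  obtain ⟨s, s1, s2⟩ := exists_rank y x (by rw [mul_comm]; exact hxy) hx
  let Φ : ℤ × ℤ →+ KZero.K0sub (FinP A) :=
    (zmultiplesHom _ ex).coprod (zmultiplesHom _ ey)
  have hΦ : ∀ q, Φ q = q.1 • ex + q.2 • ey := fun q => rfl
  refine ⟨fun a b hab => ?_, fun z => ?_⟩
  · have h1 := congrArg r hab
    have h2 := congrArg s hab
    simp only [map_add, map_zsmul] at h1 h2
    rw [r1, r2] at h1
    rw [s1, s2] at h2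
    exact Prod.ext (by simpa using h1) (by simpa using h2)
  · suffices z ∈ Φ.range by
      obtain ⟨q, hq⟩ := this
      exact ⟨q, (hΦ q).symm.trans hq⟩
    refine QuotientAddGroup.induction_on z fun w => ?_
    induction w using FreeAbelianGroup.induction_on with
    | zero => exact zero_mem _
    | neg X hX => exact neg_mem hX
    | add a b ha hb => exact add_mem ha hb
    | of X =>
      rw [← clSub_of_prop (FinP A) X.2]
      obtain ⟨M, hM⟩ := X
      have : Module.Finite A M := hM
      let N : Submodule A M := LinearMap.range (LinearMap.lsmul A M x)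
      have : Module.Finite A N := Module.IsNoetherian.finite A N
      obtain ⟨n, hn⟩ := cl_of_smul_eq_zero y N (fun m => by
        obtain ⟨m, m', rfl⟩ := m
        refine Subtype.ext ?_
        show y • x • m' = 0
        rw [smul_smul, mul_comm, hxy, zero_smul])
      obtain ⟨m, hm⟩ := cl_of_smul_eq_zero x (M ⧸ N) (fun v => by
        obtain ⟨v, rfl⟩ := Submodule.mkQ_surjective _ v
        show Submodule.Quotient.mk (x • v) = 0
        exact (Submodule.Quotient.mk_eq_zero N).2 ⟨v, rfl⟩)
      have h := clSub_ses (FinP A) (shortExact_of (X := ModuleCat.of A N) (Y := M)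
        (Z := ModuleCat.of A (M ⧸ N)) N.subtype N.mkQ Subtype.val_injective
        (Submodule.mkQ_surjective N) (LinearMap.exact_subtype_mkQ N))
        (inferInstanceAs (Module.Finite A N)) hM (inferInstanceAs (Module.Finite A (M ⧸ N)))
      change KZero.clSub (FinP A) M = _ at h
      rw [h, hn, hm]
      exact ⟨(m, n), by rw [hΦ]; abel⟩

end Groth.Agent.KZ
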