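import Groth.Agent.KZ.Perfect

/-!
# Perfect objects: stability under isomorphisms, shifts and triangles
-/

universe w v u

open CategoryTheory CategoryTheory.Limits CategoryTheory.Pretriangulated ZeroObject

namespace Groth.Agent.KZ

variable {C : Type u} [Category.{v} C] [Abelian C] {P : ObjectProperty C}
  [HasDerivedCategory.{w} C]

open DerivedCategory

lemma IsPerf.of_iso {K L : DerivedCategory C} (e : K ≅ L) (h : IsPerf P K) : IsPerf P L := by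
  obtain ⟨E, hE, ⟨i⟩⟩ := h
  exact ⟨E, hE, ⟨i ≪≫ e⟩⟩

lemma IsPerf.of_isZero (hP : ProjClass P) {K : DerivedCategory C} (h : IsZero K) : IsPerf P K :=
  ⟨_, BdP.single hP (hP.zero _ (isZero_zero C)) 0,
    ⟨((singleFunctor C 0).map_isZero (isZero_zero C)).iso h⟩⟩

lemma IsPerf.shift {K : DerivedCategory C} (h : IsPerf P K) (k : ℤ) : IsPerf P (K⟦k⟧) := by
  obtain ⟨E, ⟨hE1, a, b, hE2⟩, ⟨i⟩⟩ := h
  refine ⟨E⟦k⟧, ⟨fun n => hE1 (n + k), a - k, b - k, fun n hn => hE2 (n + k) (by omega)⟩,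
    ⟨(Q.commShiftIso k).app E ≪≫ (shiftFunctor (DerivedCategory C) k).mapIso i⟩⟩

lemma IsPerf.third (hP : ProjClass P) {T : Triangle (DerivedCategory C)} (hT : T ∈ distTriang _)
    (h₁ : IsPerf P T.obj₁) (h₂ : IsPerf P T.obj₂) : IsPerf P T.obj₃ := by
  obtain ⟨E, hE, ⟨e⟩⟩ := h₁
  obtain ⟨F, hF, ⟨e'⟩⟩ := h₂
  have := hE.isKProjective hP
  obtain ⟨f, hf⟩ := exists_lift_hom (e.hom ≫ T.mor₁ ≫ e'.inv)
  let i := isoTriangleOfIso₁₂ (Q.mapTriangle.obj (CochainComplex.mappingCone.triangle f)) T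
    ((mem_distTriang_iff _).2 ⟨_, _, f, ⟨Iso.refl _⟩⟩) hT e e'
    (by
      show Q.map f ≫ e'.hom = e.hom ≫ T.mor₁
      rw [hf]; simp)
  exact ⟨_, hE.cone hP hF f, ⟨Triangle.π₃.mapIso i⟩⟩

lemma IsPerf.middle (hP : ProjClass P) {T : Triangle (DerivedCategory C)} (hT : T ∈ distTriang _)
    (h₁ : IsPerf P T.obj₁) (h₃ : IsPerf P T.obj₃) : IsPerf P T.obj₂ :=
  IsPerf.third hP (inv_rot_of_distTriang _ hT) (h₃.shift (-1)) h₁

lemma IsPerf.single {X : C} (h : IsPerf P ((singleFunctor C 0).obj X)) (n : ℤ) :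
    IsPerf P ((singleFunctor C n).obj X) :=
  (h.shift (-n)).of_iso (((singleFunctors C).shiftIso (-n) n 0 (neg_add_cancel n)).app X)

end Groth.Agent.KZ
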