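import Groth.Agent.KZ.Basic
import Mathlib.CategoryTheory.Abelian.SerreClass.Localization
import Mathlib.CategoryTheory.IsomorphismClasses
import Mathlib.GroupTheory.MonoidLocalization.GrothendieckGroup
import Mathlib.CategoryTheory.Limits.Shapes.BinaryBiproducts
import Mathlib.CategoryTheory.Limits.Preserves.Shapes.BinaryProducts
import Mathlib.Algebra.Homology.ShortComplex.Exact
import Mathlib.Tactic.Abel

/-!
# Heller's criterion and the localization sequence for a Serre class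
-/

universe v' u' v u

open CategoryTheory CategoryTheory.Limits ZeroObject

namespace Groth.Agent.KZ

variable {A : Type u} [Category.{v} A] [Abelian A]

/-- Isomorphism classes of objects. -/
def IsoCls (A : Type u) [Category.{v} A] : Type u := Quotient (isIsomorphicSetoid A)

namespace IsoCls

/-- The class of an object. -/
def mk (X : A) : IsoCls A := Quotient.mk _ X

lemma mk_eq_iff {X Y : A} : mk X = mk Y ↔ Nonempty (X ≅ Y) := Quotient.eq

noncomputable instance : Add (IsoCls A) :=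
  ⟨Quotient.map₂ (fun X Y => X ⊞ Y) fun _ _ ⟨e⟩ _ _ ⟨e'⟩ => ⟨biprod.mapIso e e'⟩⟩

noncomputable instance : Zero (IsoCls A) := ⟨mk 0⟩

lemma mk_add (X Y : A) : mk X + mk Y = mk (X ⊞ Y) := rfl

lemma ind {motive : IsoCls A → Prop} (h : ∀ X, motive (mk X)) (x : IsoCls A) : motive x :=
  Quotient.ind h x

noncomputable instance : AddCommMonoid (IsoCls A) where
  add_assoc := by
    intro x y z
    induction x using ind with | _ X => ?_
    induction y using ind with | _ Y => ?_
    induction z using ind with | _ Z => ?_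
    simp only [mk_add, mk_eq_iff]
    exact ⟨biprod.associator X Y Z⟩
  zero_add := by
    intro x
    induction x using ind with | _ X => ?_
    change mk (0 : A) + mk X = _
    simp only [mk_add, mk_eq_iff]
    exact ⟨(isoZeroBiprod (isZero_zero A)).symm⟩
  add_zero := by
    intro x
    induction x using ind with | _ X => ?_
    change mk X + mk (0 : A) = _
    simp only [mk_add, mk_eq_iff]
    exact ⟨(isoBiprodZero (isZero_zero A)).symm⟩
  add_comm := by
    intro x y
    induction x using ind with | _ X => ?_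
    induction y using ind with | _ Y => ?_
    simp only [mk_add, mk_eq_iff]
    exact ⟨biprod.braiding X Y⟩
  nsmul := nsmulRec

end IsoCls

/-- The split Grothendieck group. -/
abbrev K0split (A : Type u) [Category.{v} A] [Abelian A] : Type u :=
  Algebra.GrothendieckAddGroup (IsoCls A)

/-- The class in the split Grothendieck group. -/
noncomputable def clsSplit (X : A) : K0split A :=
  Algebra.GrothendieckAddGroup.of (IsoCls.mk X)

lemma clsSplit_biprod (X Y : A) : clsSplit (X ⊞ Y) = clsSplit X + clsSplit Y := by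
  simp only [clsSplit, ← map_add, IsoCls.mk_add]

/-- The componentwise direct sum of two short complexes. -/
noncomputable abbrev scBiprod (S T : ShortComplex A) : ShortComplex A :=
  ShortComplex.mk (biprod.map S.f T.f) (biprod.map S.g T.g) (by ext <;> simp)

lemma scBiprod_shortExact {S T : ShortComplex A} (hS : S.ShortExact) (hT : T.ShortExact) :
    (scBiprod S T).ShortExact := by
  have := hS.mono_f; have := hT.mono_f; have := hS.epi_g; have := hT.epi_g
  have hm : Mono (scBiprod S T).f := by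
    refine ⟨fun a b h => ?_⟩
    change a ≫ biprod.map S.f T.f = b ≫ biprod.map S.f T.f at h
    have h1 := h =≫ biprod.fst
    have h2 := h =≫ biprod.snd
    simp at h1 h2
    refine biprod.hom_ext _ _ ?_ ?_
    · rw [← cancel_mono S.f]; simpa using h1
    · rw [← cancel_mono T.f]; simpa using h2
  have he : Epi (scBiprod S T).g := by
    refine ⟨fun a b h => ?_⟩
    change biprod.map S.g T.g ≫ a = biprod.map S.g T.g ≫ b at h
    have h1 := biprod.inl ≫= h
    have h2 := biprod.inr ≫= h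
    simp at h1 h2
    refine biprod.hom_ext' _ _ ?_ ?_
    · rw [← cancel_epi S.g]; simpa using h1
    · rw [← cancel_epi T.g]; simpa using h2
  refine ShortComplex.ShortExact.mk' ?_ hm he
  rw [ShortComplex.exact_iff_exact_up_to_refinements]
  intro W x hx
  change W ⟶ S.X₂ ⊞ T.X₂ at x
  change x ≫ biprod.map S.g T.g = 0 at hx
  have h1 : (x ≫ biprod.fst) ≫ S.g = 0 := by simpa using hx =≫ biprod.fst
  have h2 : (x ≫ biprod.snd) ≫ T.g = 0 := by simpa using hx =≫ biprod.snd
  refine ⟨W, 𝟙 W, inferInstance, biprod.lift (hS.exact.lift _ h1) (hT.exact.lift _ h2), ?_⟩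
  ext <;> simp [ShortComplex.Exact.lift_f]

lemma shortExact_id (X : A) :
    (ShortComplex.mk (𝟙 X) (0 : X ⟶ (0 : A)) comp_zero).ShortExact where
  exact := (ShortComplex.exact_iff_epi _ rfl).2 (inferInstanceAs (Epi (𝟙 X)))
  mono_f := inferInstanceAs (Mono (𝟙 X))
  epi_g := ⟨fun _ _ _ => (isZero_zero A).eq_of_src _ _⟩

lemma shortExact_zero :
    (ShortComplex.mk (𝟙 (0 : A)) (0 : (0 : A) ⟶ (0 : A)) comp_zero).ShortExact := shortExact_id _

/-- Heller's criterion. -/
theorem exists_of_cl_eq {X Y : A} (h : KZero.cl X = KZero.cl Y) :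
    ∃ S T : ShortComplex A, S.ShortExact ∧ T.ShortExact ∧
      Nonempty (X ⊞ ((S.X₁ ⊞ S.X₃) ⊞ T.X₂) ≅ Y ⊞ (S.X₂ ⊞ (T.X₁ ⊞ T.X₃))) := by
  let δ : ShortComplex A → K0split A := fun S => clsSplit S.X₂ - clsSplit S.X₁ - clsSplit S.X₃
  have hδ : ∀ S T, δ (scBiprod S T) = δ S + δ T := by
    intro S T
    simp only [δ, scBiprod, clsSplit_biprod]
    abel
  let H : AddSubgroup (K0split A) :=
    { carrier := {z | ∃ S T : ShortComplex A, S.ShortExact ∧ T.ShortExact ∧ z = δ S - δ T}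
      zero_mem' := ⟨_, _, shortExact_zero, shortExact_zero, (sub_self _).symm⟩
      add_mem' := by
        rintro _ _ ⟨S, T, hS, hT, rfl⟩ ⟨S', T', hS', hT', rfl⟩
        exact ⟨scBiprod S S', scBiprod T T', scBiprod_shortExact hS hS',
          scBiprod_shortExact hT hT', by rw [hδ, hδ]; abel⟩
      neg_mem' := by
        rintro _ ⟨S, T, hS, hT, rfl⟩
        exact ⟨T, S, hT, hS, by abel⟩ }
  obtain ⟨f, hf⟩ := exists_lift (fun Z : A => QuotientAddGroup.mk' H (clsSplit Z))
    (fun S hS => by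
      rw [← map_add, ← sub_eq_zero, ← map_sub, QuotientAddGroup.mk'_apply,
        QuotientAddGroup.eq_zero_iff]
      refine ⟨S, _, hS, shortExact_zero, ?_⟩
      have h0 : clsSplit (0 : A) = 0 := by
        show Algebra.GrothendieckAddGroup.of (0 : IsoCls A) = 0
        exact map_zero _
      simp [δ, h0]
      abel)
  have := congrArg f h
  rw [hf, hf, ← sub_eq_zero, ← map_sub, QuotientAddGroup.mk'_apply,
    QuotientAddGroup.eq_zero_iff] at this
  obtain ⟨S, T, hS, hT, he⟩ := this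
  have key : Algebra.GrothendieckAddGroup.of
      (IsoCls.mk (X ⊞ ((S.X₁ ⊞ S.X₃) ⊞ T.X₂))) =
      Algebra.GrothendieckAddGroup.of (IsoCls.mk (Y ⊞ (S.X₂ ⊞ (T.X₁ ⊞ T.X₃)))) := by
    show clsSplit _ = clsSplit _
    simp only [clsSplit_biprod]
    simp only [δ] at he
    rw [← sub_eq_zero] at he ⊢
    rw [← he]
    abel
  obtain ⟨c, hc⟩ := (AddLocalization.addMonoidOf (⊤ : AddSubmonoid (IsoCls A))).eq_iff_exists.1 key
  obtain ⟨c, hc'⟩ := c
  obtain ⟨W, rfl⟩ : ∃ W, IsoCls.mk W = c := Quotient.exists_rep c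
  let S' := scBiprod (ShortComplex.mk (𝟙 W) (0 : W ⟶ (0 : A)) comp_zero) S
  refine ⟨S', T, scBiprod_shortExact (shortExact_id W) hS, hT, IsoCls.mk_eq_iff.1 ?_⟩
  simp only [S', scBiprod, ← IsoCls.mk_add] at hc ⊢
  change IsoCls.mk X + (IsoCls.mk W + IsoCls.mk S.X₁ + (0 + IsoCls.mk S.X₃) + IsoCls.mk T.X₂) =
    IsoCls.mk Y + (IsoCls.mk W + IsoCls.mk S.X₂ + (IsoCls.mk T.X₁ + IsoCls.mk T.X₃))
  rw [zero_add]
  convert hc using 1 <;> abel

lemma clSub_homology_eq {M N O : A} (φ : M ⟶ N) (ψ : N ⟶ O) (w : φ ≫ ψ = 0) :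
    KZero.cl (ShortComplex.mk φ ψ w).homology =
      KZero.cl (kernel φ) + KZero.cl (kernel ψ) - KZero.cl M := by
  let S := ShortComplex.mk φ ψ w
  let d := ShortComplex.LeftHomologyData.ofHasKernelOfHasCokernel S
  let l : M ⟶ kernel ψ := kernel.lift ψ φ w
  have e : S.homology ≅ cokernel l := d.homologyIso
  rw [cl_iso e]
  have h1 := cl_ses (shortExact_kernel_image l)
  have h2 := cl_ses (kerSeq_shortExact (cokernel.π l))
  have e2 : kernel l ≅ kernel φ :=
    (kernelCompMono l (kernel.ι ψ)).symm ≪≫ kernelIsoOfEq (kernel.lift_ι ..)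
  simp only at h1 h2
  rw [cl_iso e2] at h1
  change KZero.cl (kernel ψ) = KZero.cl (Abelian.image l) + KZero.cl (cokernel l) at h2
  change KZero.cl M = KZero.cl (kernel φ) + KZero.cl (Abelian.image l) at h1
  rw [h1, h2]
  abel
where
  shortExact_kernel_image {M K : A} (l : M ⟶ K) :
      (ShortComplex.mk (kernel.ι l) (Abelian.factorThruImage l)
        (by rw [← cancel_mono (Abelian.image.ι l), Category.assoc, Abelian.image.fac,
          kernel.condition, zero_comp])).ShortExact :=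
    { exact := ShortComplex.exact_of_f_is_kernel _
        (KernelFork.IsLimit.ofι' _ _ (fun {T} k hk => by
          have : k ≫ l = 0 := by
            rw [← Abelian.image.fac l, ← Category.assoc, hk, zero_comp]
          exact ⟨kernel.lift l k this, kernel.lift_ι ..⟩)) }

/-- A short complex with one summand having vanishing differentials. -/
lemma homology_biprod_zero {a N₁ N₂ N₃ b c : A} (f : N₁ ⟶ N₂) (g : N₂ ⟶ N₃) (w : f ≫ g = 0)
    (hex : (ShortComplex.mk f g w).Exact) (p : b ⊞ N₁ ⟶ a ⊞ N₂) (q : a ⊞ N₂ ⟶ c ⊞ N₃)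
    (hp : p = biprod.snd ≫ f ≫ biprod.inr) (hq : q = biprod.snd ≫ g ≫ biprod.inr) (w' : p ≫ q = 0) :
    Nonempty ((ShortComplex.mk p q w').homology ≅ a) := by
  subst hp hq
  have : Epi (kernel.lift g f w) := hex.epi_kernelLift
  let i : a ⊞ kernel g ⟶ a ⊞ N₂ := biprod.map (𝟙 a) (kernel.ι g)
  have wi : i ≫ biprod.snd ≫ g ≫ (biprod.inr : N₃ ⟶ c ⊞ N₃) = 0 := by simp [i]
  have hi : IsLimit (KernelFork.ofι i wi) := by
    have : Mono i := by
      refine ⟨fun x y h => ?_⟩
      have h1 := h =≫ biprod.fst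
      have h2 := h =≫ biprod.snd
      simp [i] at h1 h2
      refine biprod.hom_ext _ _ h1 ?_
      rw [← cancel_mono (kernel.ι g)]; simpa using h2
    exact KernelFork.IsLimit.ofι' i wi (fun {T} k hk => by
      have hk' : (k ≫ biprod.snd) ≫ g = 0 := by
        simpa using hk =≫ biprod.snd
      exact ⟨biprod.lift (k ≫ biprod.fst) (kernel.lift g _ hk'), by ext <;> simp [i]⟩)
  let S := ShortComplex.mk _ _ w'
  let l : b ⊞ N₁ ⟶ a ⊞ kernel g := biprod.snd ≫ kernel.lift g f w ≫ biprod.inr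
  have hl : l ≫ i = biprod.snd ≫ f ≫ biprod.inr := by ext <;> simp [l, i]
  have wp : l ≫ (biprod.fst : a ⊞ kernel g ⟶ a) = 0 := by simp [l]
  have : Epi (biprod.snd ≫ kernel.lift g f w : b ⊞ N₁ ⟶ kernel g) := epi_comp _ _
  have hπ : IsColimit (CokernelCofork.ofπ (biprod.fst : a ⊞ kernel g ⟶ a) wp) :=
    CokernelCofork.IsColimit.ofπ' _ wp (fun {T} k hk => by
      refine ⟨biprod.inl ≫ k, ?_⟩
      have : biprod.inr ≫ k = 0 := by
        rw [← cancel_epi (biprod.snd ≫ kernel.lift g f w : b ⊞ N₁ ⟶ kernel g), comp_zero]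
        simpa [l] using hk
      refine biprod.hom_ext' _ _ (by simp) ?_
      simp [this])
  have key : hi.lift (KernelFork.ofι S.f S.zero) = l := by
    refine Fork.IsLimit.hom_ext hi ?_
    rw [Fork.IsLimit.lift_ι]
    exact hl.symm
  let d : S.LeftHomologyData :=
    { K := a ⊞ kernel g
      H := a
      i := i
      π := biprod.fst
      wi := wi
      hi := hi
      wπ := by rw [key]; exact wp
      hπ := CokernelCofork.IsColimit.ofπ' _ _ (fun {T} k hk => by
        obtain ⟨m, hm⟩ := CokernelCofork.IsColimit.desc' hπ k (by rw [← key]; exact hk)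
        exact ⟨m, hm⟩) }
  exact ⟨d.homologyIso⟩

theorem exists_periodic {a b : A} (h : KZero.cl a = KZero.cl b) :
    ∃ (M : A) (φ ψ : M ⟶ M) (h₁ : φ ≫ ψ = 0) (h₂ : ψ ≫ φ = 0),
      Nonempty ((ShortComplex.mk φ ψ h₁).homology ≅ b) ∧
      Nonempty ((ShortComplex.mk ψ φ h₂).homology ≅ a) := by
  obtain ⟨S, T, hS, hT, ⟨θ⟩⟩ := exists_of_cl_eq h
  let f : ((S.X₁ ⊞ S.X₃) ⊞ T.X₂) ⟶ (S.X₂ ⊞ (T.X₁ ⊞ T.X₃)) := biprod.desc (biprod.fst ≫ S.f ≫ biprod.inl)
    (T.g ≫ biprod.inr ≫ biprod.inr)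
  let g : (S.X₂ ⊞ (T.X₁ ⊞ T.X₃)) ⟶ ((S.X₁ ⊞ S.X₃) ⊞ T.X₂) := biprod.desc (S.g ≫ biprod.inr ≫ biprod.inl)
    (biprod.fst ≫ T.f ≫ biprod.inr)
  have hfg : f ≫ g = 0 := by ext <;> simp [f, g]
  have hgf : g ≫ f = 0 := by ext <;> simp [f, g]
  have := hS.mono_f; have := hT.mono_f; have := hS.epi_g; have := hT.epi_g
  have hex1 : (ShortComplex.mk f g hfg).Exact := by
    rw [ShortComplex.exact_iff_exact_up_to_refinements]
    intro W x hx
    change W ⟶ (S.X₂ ⊞ (T.X₁ ⊞ T.X₃)) at x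
    change x ≫ g = 0 at hx
    have h1 : (x ≫ biprod.fst) ≫ S.g = 0 := by
      simpa [g, biprod.desc_eq, Preadditive.add_comp, Preadditive.comp_add] using hx =≫ (biprod.fst ≫ biprod.snd)
    have h2 : x ≫ biprod.snd ≫ biprod.fst = 0 := by
      rw [← cancel_mono T.f]
      simpa [g, biprod.desc_eq, Preadditive.add_comp, Preadditive.comp_add] using hx =≫ biprod.snd
    obtain ⟨W', π, hπ, y, hy⟩ := surjective_up_to_refinements_of_epi T.g
      (x ≫ biprod.snd ≫ biprod.snd)
    refine ⟨W', π, hπ, biprod.lift (biprod.lift (π ≫ hS.exact.lift _ h1) 0) y, ?_⟩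
    dsimp
    refine biprod.hom_ext _ _ ?_ (biprod.hom_ext _ _ ?_ ?_)
    · simp [f, ShortComplex.Exact.lift_f]
    · simp [f, h2]
    · simp [f, hy]
  have hex2 : (ShortComplex.mk g f hgf).Exact := by
    rw [ShortComplex.exact_iff_exact_up_to_refinements]
    intro W x hx
    change W ⟶ ((S.X₁ ⊞ S.X₃) ⊞ T.X₂) at x
    change x ≫ f = 0 at hx
    have h1 : x ≫ biprod.fst ≫ biprod.fst = 0 := by
      rw [← cancel_mono S.f]
      simpa [f, biprod.desc_eq, Preadditive.add_comp, Preadditive.comp_add] using hx =≫ biprod.fst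
    have h2 : (x ≫ biprod.snd) ≫ T.g = 0 := by
      simpa [f, biprod.desc_eq, Preadditive.add_comp, Preadditive.comp_add] using hx =≫ (biprod.snd ≫ biprod.snd)
    obtain ⟨W', π, hπ, y, hy⟩ := surjective_up_to_refinements_of_epi S.g
      (x ≫ biprod.fst ≫ biprod.snd)
    refine ⟨W', π, hπ, biprod.lift y (biprod.lift (π ≫ hT.exact.lift _ h2) 0), ?_⟩
    dsimp
    refine biprod.hom_ext _ _ (biprod.hom_ext _ _ ?_ ?_) ?_
    · simp [g, h1]
    · simp [g, hy]
    · simp [g, ShortComplex.Exact.lift_f]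
  let p : a ⊞ ((S.X₁ ⊞ S.X₃) ⊞ T.X₂) ⟶ b ⊞ (S.X₂ ⊞ (T.X₁ ⊞ T.X₃)) := biprod.snd ≫ f ≫ biprod.inr
  let q : b ⊞ (S.X₂ ⊞ (T.X₁ ⊞ T.X₃)) ⟶ a ⊞ ((S.X₁ ⊞ S.X₃) ⊞ T.X₂) := biprod.snd ≫ g ≫ biprod.inr
  have wpq : p ≫ q = 0 := by simp [p, q, reassoc_of% hfg]
  have wqp : q ≫ p = 0 := by simp [p, q, reassoc_of% hgf]
  obtain ⟨eb⟩ := homology_biprod_zero (a := b) (b := a) (c := a) f g hfg hex1 p q rfl rfl wpq
  obtain ⟨ea⟩ := homology_biprod_zero (a := a) (b := b) (c := b) g f hgf hex2 q p rfl rfl wqp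
  have h₁ : (p ≫ θ.inv) ≫ θ.hom ≫ q = 0 := by simp [wpq]
  have h₂ : (θ.hom ≫ q) ≫ p ≫ θ.inv = 0 := by simp [reassoc_of% wqp]
  have i1 : ShortComplex.mk (p ≫ θ.inv) (θ.hom ≫ q) h₁ ≅ ShortComplex.mk p q wpq :=
    ShortComplex.isoMk (Iso.refl _) θ (Iso.refl _) (by simp) (by simp)
  have i2 : ShortComplex.mk (θ.hom ≫ q) (p ≫ θ.inv) h₂ ≅ ShortComplex.mk q p wqp :=
    ShortComplex.isoMk θ (Iso.refl _) θ (by simp) (by simp)
  exact ⟨_, p ≫ θ.inv, θ.hom ≫ q, h₁, h₂, ⟨ShortComplex.homologyMapIso i1 ≪≫ eb⟩,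
    ⟨ShortComplex.homologyMapIso i2 ≪≫ ea⟩⟩

section Localization

variable (P : ObjectProperty A) [P.IsSerreClass]

lemma exists_sub_clSub (x : KZero.K0sub P) :
    ∃ a b, P a ∧ P b ∧ x = KZero.clSub P a - KZero.clSub P b := by
  have h0 : P (0 : A) := P.prop_of_isZero (isZero_zero A)
  have hadd : ∀ {a b}, P a → P b →
      P (a ⊞ b) ∧ KZero.clSub P (a ⊞ b) = KZero.clSub P a + KZero.clSub P b := by
    intro a b ha hb
    have hs := (ShortComplex.Splitting.ofHasBinaryBiproduct a b).shortExact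
    have hab : P (a ⊞ b) := P.prop_X₂_of_shortExact hs ha hb
    exact ⟨hab, clSub_ses P hs ha hab hb⟩
  refine QuotientAddGroup.induction_on x fun z => ?_
  induction z using FreeAbelianGroup.induction_on with
  | zero => exact ⟨0, 0, h0, h0, by simp⟩
  | of X =>
    exact ⟨X.1, 0, X.2, h0, by rw [clSub_isZero P (isZero_zero A), sub_zero, clSub_of_prop P X.2]⟩
  | neg X hX =>
    obtain ⟨a, b, ha, hb, e⟩ := hX
    exact ⟨b, a, hb, ha, by rw [QuotientAddGroup.mk_neg, e, neg_sub]⟩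
  | add z w hz hw =>
    obtain ⟨a, b, ha, hb, e⟩ := hz
    obtain ⟨a', b', ha', hb', e'⟩ := hw
    refine ⟨a ⊞ a', b ⊞ b', (hadd ha ha').1, (hadd hb hb').1, ?_⟩
    rw [QuotientAddGroup.mk_add, e, e', (hadd ha ha').2, (hadd hb hb').2]
    abel

variable {Q : Type u'} [Category.{v'} Q] [Abelian Q] (L : A ⥤ Q)
  [L.IsLocalization P.isoModSerre] [L.Additive] [PreservesFiniteLimits L]
  [PreservesFiniteColimits L]

theorem localization_sequence (ι : KZero.K0sub P →+ KZero.K0 A)
    (hι : ∀ X, P X → ι (KZero.clSub P X) = KZero.cl X) :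
    ∃ lam : KZero.K0 A →+ KZero.K0 Q, (∀ X, lam (KZero.cl X) = KZero.cl (L.obj X)) ∧
      Function.Surjective lam ∧ lam.ker = ι.range := by
  obtain ⟨lam, hlam⟩ := exists_lift (fun X => KZero.cl (L.obj X))
    (fun S hS => cl_ses (hS.map_of_exact L))
  have := Localization.essSurj L P.isoModSerre
  let π := QuotientAddGroup.mk' ι.range
  have hπ0 : ∀ {Z}, P Z → π (KZero.cl Z) = 0 := fun {Z} hZ => by
    simp only [π, QuotientAddGroup.mk'_apply, QuotientAddGroup.eq_zero_iff]
    exact ⟨_, hι Z hZ⟩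
  have hw : ∀ {X Y : A} (g : X ⟶ Y), P.isoModSerre g → π (KZero.cl X) = π (KZero.cl Y) := by
    intro X Y g hg
    have h1 := cl_ses (clSub_homology_eq.shortExact_kernel_image g)
    have h2 := cl_ses (kerSeq_shortExact (cokernel.π g))
    change KZero.cl X = KZero.cl (kernel g) + KZero.cl (Abelian.image g) at h1
    change KZero.cl Y = KZero.cl (Abelian.image g) + KZero.cl (cokernel g) at h2
    rw [h1, h2, map_add, map_add, hπ0 hg.1, hπ0 hg.2, zero_add, add_zero]
  have hwd : ∀ {X Y : A}, (L.obj X ≅ L.obj Y) → π (KZero.cl X) = π (KZero.cl Y) := by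
    intro X Y e
    obtain ⟨φ, hφ⟩ := Localization.exists_leftFraction L P.isoModSerre e.hom
    have hs : IsIso (L.map φ.s) := Localization.inverts L _ φ.s φ.hs
    have he : L.map φ.f = e.hom ≫ L.map φ.s := by
      rw [hφ, MorphismProperty.LeftFraction.map_comp_map_s]
    have hf : IsIso (L.map φ.f) := by rw [he]; infer_instance
    rw [hw φ.f ((ObjectProperty.SerreClassLocalization.isIso_map_iff L P φ.f).1 hf), hw φ.s φ.hs]
  obtain ⟨μ, hμ⟩ := exists_lift (fun q : Q => π (KZero.cl (L.objPreimage q))) (fun S hS => by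
    obtain ⟨φ, hφ⟩ := Localization.exists_leftFraction L P.isoModSerre
      ((L.objObjPreimageIso S.X₁).hom ≫ S.f ≫ (L.objObjPreimageIso S.X₂).inv)
    have hs : IsIso (L.map φ.s) := Localization.inverts L _ φ.s φ.hs
    let e₂ : S.X₂ ≅ L.obj φ.Y' := (L.objObjPreimageIso S.X₂).symm ≪≫ asIso (L.map φ.s)
    have he : L.map φ.f = (L.objObjPreimageIso S.X₁).hom ≫ S.f ≫ e₂.hom := by
      rw [← MorphismProperty.LeftFraction.map_comp_map_s φ L (Localization.inverts L _), ← hφ]
      simp [e₂]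
    have := hS.mono_f; have := hS.epi_g
    have : Mono (L.map φ.f) := by rw [he]; infer_instance
    let T : ShortComplex A := kerSeq (cokernel.π φ.f)
    have hT : T.ShortExact := kerSeq_shortExact _
    have hfac : L.map (Abelian.factorThruImage φ.f) ≫ L.map (Abelian.image.ι φ.f) = L.map φ.f := by
      rw [← L.map_comp, Abelian.image.fac]
    have : Mono (L.map (Abelian.factorThruImage φ.f)) := mono_of_mono_fac hfac
    have : Epi (L.map (Abelian.factorThruImage φ.f)) := inferInstance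
    have hiso : IsIso (L.map (Abelian.factorThruImage φ.f)) := isIso_of_mono_of_epi _
    have hLT := hT.map_of_exact L
    have h3 : L.obj T.X₃ ≅ S.X₃ := by
      have hc := hLT.gIsCokernel
      have hc' := hS.gIsCokernel
      refine IsColimit.coconePointUniqueUpToIso hc
        ((IsColimit.equivOfNatIsoOfIso ?_ _ _ (Cofork.ext (Iso.refl _) ?_)) hc')
      · exact parallelPair.ext ((L.objObjPreimageIso S.X₁).symm ≪≫
          @asIso _ _ _ _ (L.map (Abelian.factorThruImage φ.f)) hiso) e₂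
          (by
            show S.f ≫ e₂.hom = ((L.objObjPreimageIso S.X₁).inv ≫
              L.map (Abelian.factorThruImage φ.f)) ≫ L.map (Abelian.image.ι φ.f)
            rw [Category.assoc, hfac, he, Iso.inv_hom_id_assoc])
          (by simp)
      · exact Category.comp_id _
    have h1 : L.obj (L.objPreimage S.X₁) ≅ L.obj T.X₁ :=
      @asIso _ _ _ _ _ hiso
    rw [hw φ.s φ.hs, hwd h1,
      hwd (L.objObjPreimageIso S.X₃ ≪≫ h3.symm : L.obj (L.objPreimage S.X₃) ≅ L.obj T.X₃),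
      ← map_add]
    exact congrArg π (cl_ses hT))
  refine ⟨lam, hlam, ?_, le_antisymm (fun x hx => ?_) ?_⟩
  · intro y
    refine QuotientAddGroup.induction_on y fun z => ?_
    induction z using FreeAbelianGroup.induction_on with
    | zero => exact ⟨0, map_zero lam⟩
    | of q => exact ⟨KZero.cl (L.objPreimage q), (hlam _).trans (cl_iso (L.objObjPreimageIso q))⟩
    | neg X hX =>
      obtain ⟨x, hx⟩ := hX
      exact ⟨-x, by rw [map_neg, hx]; rfl⟩
    | add a b ha hb =>
      obtain ⟨x, hx⟩ := ha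
      obtain ⟨y, hy⟩ := hb
      exact ⟨x + y, by rw [map_add, hx, hy]; rfl⟩
  · have hcomp : μ.comp lam = π := K0_hom_ext fun X => by
      rw [AddMonoidHom.comp_apply, hlam, hμ]
      exact hwd (L.objObjPreimageIso (L.obj X))
    have := DFunLike.congr_fun hcomp x
    rw [AddMonoidHom.comp_apply, (AddMonoidHom.mem_ker).1 hx, map_zero] at this
    exact (QuotientAddGroup.eq_zero_iff x).1 this.symm
  · have : lam.comp ι = 0 := K0sub_hom_ext P fun X hX => by
      rw [AddMonoidHom.comp_apply, hι X hX, hlam, cl_isZero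
        ((ObjectProperty.SerreClassLocalization.isZero_obj_iff L P X).2 hX)]
      rfl
    rintro x ⟨y, rfl⟩
    exact DFunLike.congr_fun this y

theorem periodic_iff (ι : KZero.K0sub P →+ KZero.K0 A)
    (hι : ∀ X, P X → ι (KZero.clSub P X) = KZero.cl X) (x : KZero.K0sub P) : ι x = 0 ↔
      ∃ (M : A) (φ ψ : M ⟶ M) (h₁ : φ ≫ ψ = 0) (h₂ : ψ ≫ φ = 0),
        P (ShortComplex.mk φ ψ h₁).homology ∧ P (ShortComplex.mk ψ φ h₂).homology ∧
        x = KZero.clSub P (ShortComplex.mk φ ψ h₁).homology -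
          KZero.clSub P (ShortComplex.mk ψ φ h₂).homology := by
  constructor
  · intro hx
    obtain ⟨a, b, ha, hb, rfl⟩ := exists_sub_clSub P x
    rw [map_sub, hι a ha, hι b hb, sub_eq_zero] at hx
    obtain ⟨M, φ, ψ, h₁, h₂, ⟨e₁⟩, ⟨e₂⟩⟩ := exists_periodic hx.symm
    have h0 : P (0 : A) := P.prop_of_isZero (isZero_zero A)
    refine ⟨M, φ, ψ, h₁, h₂, P.prop_of_iso e₁.symm ha, P.prop_of_iso e₂.symm hb, ?_⟩
    rw [clSub_iso P e₁ (P.prop_of_iso e₁.symm ha) ha (isZero_zero A) h0,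
      clSub_iso P e₂ (P.prop_of_iso e₂.symm hb) hb (isZero_zero A) h0]
  · rintro ⟨M, φ, ψ, h₁, h₂, p₁, p₂, rfl⟩
    rw [map_sub, hι _ p₁, hι _ p₂, clSub_homology_eq φ ψ h₁, clSub_homology_eq ψ φ h₂]
    abel

end Localization

end Groth.Agent.KZ
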