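import Groth.Agent.KZ.Transport
import Groth.Agent.QCoh.Tilde
import Groth.Agent.S7142
import Groth.Agent.S1105
import Groth.Agent.S0997
import Groth.Agent.S0914
import Groth.Agent.KFlatLib.Scheme.PCQCoh
import Groth.Prelude.Def_DCoh2

/-! `K₀` of a ring versus `K₀` of perfect objects on its spectrum. -/

universe u

set_option backward.isDefEq.respectTransparency false
set_option backward.isDefEq.respectTransparency.types false

open CategoryTheory CategoryTheory.Limits AlgebraicGeometry CategoryTheory.Pretriangulated ZeroObject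

attribute [local instance] HasDerivedCategory.standard

namespace Groth.Agent.KZ

theorem exists_K0_spec (A : Type u) [CommRing A] :
    ∃ φ : KZero.K0sub (fun M : ModuleCat.{u} A => Module.Finite A M ∧ Module.Projective A M) ≃+
        KZero.K0tr (fun K : DCoh.D (Spec (CommRingCat.of A)) => DCoh.IsPerfect K),
      ∀ (M : ModuleCat.{u} A), Module.Finite A M → Module.Projective A M →
        φ (KZero.clSub (fun M : ModuleCat.{u} A => Module.Finite A M ∧ Module.Projective A M) M) =
          KZero.clTr (fun K : DCoh.D (Spec (CommRingCat.of A)) => DCoh.IsPerfect K) (DCoh.inD (Spec (CommRingCat.of A)) (tilde M)) := by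
  let R := CommRingCat.of A
  haveI : PreservesFiniteLimits (tilde.functor R) := QCoh.tilde_preservesFiniteLimits (R := R)
  obtain ⟨hfull, hfaith, hess⟩ := S0997.result R
  haveI : (DCoh.tildeD R).Full := hfull
  haveI : (DCoh.tildeD R).Faithful := hfaith
  let Q : ObjectProperty (DCoh.D (Spec R)) := fun K => DCoh.IsPerfect K
  haveI : Q.IsClosedUnderIsomorphisms := ⟨fun e h x => by
    obtain ⟨V, hx, hV⟩ := h x
    exact ⟨V, hx, fun F ⟨eF⟩ => hV F ⟨eF ≪≫ e.symm⟩⟩⟩
  haveI : PreservesFiniteColimits (tilde.functor R) := QCoh.tilde_preservesFiniteColimits (R := R)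
  haveI : PreservesBinaryBiproducts (tilde.functor R) := preservesBinaryBiproducts_of_preservesBinaryCoproducts _
  haveI : (tilde.functor R).Additive := Functor.additive_of_preservesBinaryBiproducts _
  obtain ⟨φ₁, h₁, -⟩ := S7142.result A
  have hP0 : DRing.IsPerfect A (0 : Dual.D A) :=
    ⟨0, 0, 0, fun i _ => (HomologicalComplex.eval _ _ i).map_isZero (isZero_zero _), fun i => by
      haveI : Subsingleton ((0 : DRing.Cx A).X i) := ModuleCat.subsingleton_of_isZero
        ((HomologicalComplex.eval (ModuleCat.{u} A) (ComplexShape.up ℤ) i).map_isZero (isZero_zero (DRing.Cx A)))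
      exact ⟨inferInstance, Module.Projective.of_free⟩,
    ⟨(DerivedCategory.Q.map_isZero (isZero_zero _)).iso (isZero_zero _)⟩⟩
  obtain ⟨φ₂, h₂⟩ := exists_equiv_of_fullyFaithful (DCoh.tildeD R) (fun K => DRing.IsPerfect A K) Q
    (fun K => (S1105.result A K).symm) (fun K hK => (hess K).1 fun i =>
      KFlatLib.isQCoh_HD_of_pseudoCoherent (((S0914.result K).1 hK).1 (i - 1)) i (by omega))
    ⟨0, isZero_zero _, hP0⟩
  refine ⟨φ₁.trans φ₂, fun M hf hp => ?_⟩
  obtain ⟨E, a, b, hz, ht, e⟩ : DRing.IsPerfect A (Dual.inD A M) := by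
    refine ⟨(HomologicalComplex.single _ (ComplexShape.up ℤ) 0).obj (ModuleCat.of A M), 0, 0,
      fun i hi => HomologicalComplex.isZero_single_obj_X _ _ _ _ (by omega), fun i => ?_, ⟨?_⟩⟩
    · by_cases hi : i = 0
      · subst hi
        let e := (HomologicalComplex.singleObjXSelf (ComplexShape.up ℤ) 0 (ModuleCat.of A M)).symm.toLinearEquiv
        exact ⟨Module.Finite.equiv e, Module.Projective.of_equiv e⟩
      · haveI := ModuleCat.subsingleton_of_isZero (HomologicalComplex.isZero_single_obj_X (ComplexShape.up ℤ) 0 (ModuleCat.of A M) i hi)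
        exact ⟨inferInstance, Module.Projective.of_free⟩
    · exact (DerivedCategory.singleFunctorIsoCompQ _ 0).app _
  rw [AddEquiv.trans_apply, h₁ M hf hp, h₂ _ ⟨E, a, b, hz, ht, e⟩]
  have hM : Q ((DCoh.tildeD R).obj (Dual.inD A M)) := (S1105.result A _).2 ⟨E, a, b, hz, ht, e⟩
  exact clTr_iso Q (((tilde.functor R).mapDerivedCategorySingleFunctor 0).app M) hM
    (Q.prop_of_iso (((tilde.functor R).mapDerivedCategorySingleFunctor 0).app M) hM)
    ((DCoh.tildeD R).map_isZero (isZero_zero _)) ((S1105.result A _).2 hP0)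

end Groth.Agent.KZ
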