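import Groth.Agent.KZ.Basic
import Mathlib.CategoryTheory.Triangulated.Functor

/-! Transport of `K₀` of triangulated subcategories along fully faithful triangulated functors. -/

universe v u v' u'

open CategoryTheory CategoryTheory.Limits CategoryTheory.Pretriangulated

namespace Groth.Agent.KZ

variable {C : Type u} [Category.{v} C] [Preadditive C] [HasZeroObject C] [HasShift C ℤ]
  [∀ n : ℤ, (shiftFunctor C n).Additive] [Pretriangulated C]
  {D : Type u'} [Category.{v'} D] [Preadditive D] [HasZeroObject D] [HasShift D ℤ]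
  [∀ n : ℤ, (shiftFunctor D n).Additive] [Pretriangulated D]

theorem exists_equiv_of_fullyFaithful (F : C ⥤ D) [F.CommShift ℤ] [F.IsTriangulated] [F.Full] [F.Faithful]
    (P : ObjectProperty C) (Q : ObjectProperty D) [Q.IsClosedUnderIsomorphisms] (hPQ : ∀ X, P X ↔ Q (F.obj X))
    (hess : ∀ Y, Q Y → ∃ X, Nonempty (F.obj X ≅ Y)) (hP0 : ∃ Z, IsZero Z ∧ P Z) :
    ∃ φ : KZero.K0tr P ≃+ KZero.K0tr Q, ∀ X, P X → φ (KZero.clTr P X) = KZero.clTr Q (F.obj X) := by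
  classical
  obtain ⟨Z, hZ, hPZ⟩ := hP0
  obtain ⟨f, hf⟩ := exists_liftTr P (fun X => KZero.clTr Q (F.obj X)) fun T hT a b c =>
    clTr_triangle Q (F.map_distinguished T hT) ((hPQ _).1 a) ((hPQ _).1 b) ((hPQ _).1 c)
  have : ∀ Y : D, ∃ X : C, Q Y → Nonempty (F.obj X ≅ Y) := fun Y =>
    if h : Q Y then let ⟨X, e⟩ := hess Y h; ⟨X, fun _ => e⟩ else ⟨Z, fun h' => absurd h' h⟩
  choose G hG using this
  have hPG : ∀ Y, Q Y → P (G Y) := fun Y hY => (hPQ _).2 (Q.prop_of_iso (hG Y hY).some.symm hY)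
  obtain ⟨g, hg⟩ := exists_liftTr Q (fun Y => KZero.clTr P (G Y)) fun T hT a b c => by
    let e₁ := (hG _ a).some
    let e₂ := (hG _ b).some
    let e₃ := (hG _ c).some
    let u := F.preimage (e₁.hom ≫ T.mor₁ ≫ e₂.inv)
    let v := F.preimage (e₂.hom ≫ T.mor₂ ≫ e₃.inv)
    let w := F.preimage (e₃.hom ≫ T.mor₃ ≫ e₁.inv⟦(1 : ℤ)⟧' ≫ (F.commShiftIso (1 : ℤ)).inv.app _)
    have hT' : Triangle.mk u v w ∈ distTriang C := by
      rw [← F.map_distinguished_iff]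
      refine isomorphic_distinguished _ hT _ (Triangle.isoMk _ _ e₁ e₂ e₃ ?_ ?_ ?_)
      · show F.map u ≫ e₂.hom = e₁.hom ≫ T.mor₁
        simp [u]
      · show F.map v ≫ e₃.hom = e₂.hom ≫ T.mor₂
        simp [v]
      · show (F.map w ≫ (F.commShiftIso (1 : ℤ)).hom.app (G T.obj₁)) ≫ e₁.hom⟦(1 : ℤ)⟧' = e₃.hom ≫ T.mor₃
        simp [w, ← Functor.map_comp]
    exact clTr_triangle P hT' (hPG _ a) (hPG _ b) (hPG _ c)
  refine ⟨AddMonoidHom.toAddEquiv f g ?_ ?_, fun X hX => hf X hX⟩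
  · refine K0tr_hom_ext P fun X hX => ?_
    have hQ := (hPQ X).1 hX
    rw [AddMonoidHom.comp_apply, hf X hX, hg _ hQ, AddMonoidHom.id_apply]
    exact clTr_iso P (F.preimageIso (hG _ hQ).some) (hPG _ hQ) hX hZ hPZ
  · refine K0tr_hom_ext Q fun Y hY => ?_
    rw [AddMonoidHom.comp_apply, hg Y hY, hf _ (hPG Y hY), AddMonoidHom.id_apply]
    exact clTr_iso Q (hG Y hY).some ((hPQ _).1 (hPG Y hY)) hY (F.map_isZero hZ) ((hPQ _).1 hPZ)

end Groth.Agent.KZ
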