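import Groth.Agent.KZ.Basic
import Mathlib.CategoryTheory.Limits.Preserves.Shapes.Products
import Mathlib.Algebra.Ring.NegOnePow
import Mathlib.Tactic.Ring

/-!
# K₀ of a pretriangulated category: shifts, biproducts, swindle
-/

universe v u

open CategoryTheory CategoryTheory.Limits CategoryTheory.Pretriangulated ZeroObject

namespace Groth.Agent.KZ

variable {C : Type u} [Category.{v} C] [Preadditive C] [HasZeroObject C]
    [HasShift C ℤ] [∀ n : ℤ, (shiftFunctor C n).Additive] [Pretriangulated C]

lemma clTri_eq_clTr (X : C) : KZero.clTri X = KZero.clTr (⊤ : ObjectProperty C) X :=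
  (clTr_of_prop (⊤ : ObjectProperty C) (X := X) trivial).symm

lemma clTri_triangle {T : Triangle C} (hT : T ∈ distTriang C) :
    KZero.clTri T.obj₂ = KZero.clTri T.obj₁ + KZero.clTri T.obj₃ := by
  simp only [clTri_eq_clTr]; exact clTr_triangle _ hT trivial trivial trivial

lemma clTri_isZero {X : C} (h : IsZero X) : KZero.clTri X = 0 := by
  rw [clTri_eq_clTr]; exact clTr_isZero _ h

lemma clTri_iso {X Y : C} (e : X ≅ Y) : KZero.clTri X = KZero.clTri Y := by
  simp only [clTri_eq_clTr]; exact clTr_iso _ e trivial trivial (isZero_zero C) trivial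

lemma clTri_shift_one (X : C) : KZero.clTri (X⟦(1 : ℤ)⟧) = -KZero.clTri X := by
  have h1 := clTri_triangle (rot_of_distTriang _ (contractible_distinguished X))
  change KZero.clTri (0 : C) = KZero.clTri X + KZero.clTri (X⟦(1 : ℤ)⟧) at h1
  rw [clTri_isZero (isZero_zero C)] at h1
  exact eq_neg_of_add_eq_zero_right h1.symm

lemma clTri_shift (X : C) (k : ℤ) :
    KZero.clTri (X⟦k⟧) = ((k.negOnePow : ℤˣ) : ℤ) • KZero.clTri X := by
  induction k using Int.induction_on with
  | zero => simp [clTri_iso ((shiftFunctorZero C ℤ).app X)]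
  | succ i ih =>
    rw [clTri_iso ((shiftFunctorAdd' C (i : ℤ) 1 _ rfl).app X), Functor.comp_obj,
      clTri_shift_one, ih, Int.negOnePow_succ]
    simp
  | pred i ih =>
    have h : -(i : ℤ) - 1 + 1 = -(i : ℤ) := by ring
    rw [clTri_iso ((shiftFunctorAdd' C (-(i : ℤ) - 1) 1 _ h).app X), Functor.comp_obj,
      clTri_shift_one] at ih
    rw [← neg_inj, ih]
    conv_lhs => rw [← h, Int.negOnePow_succ]
    simp

lemma clTri_biprod (X Y : C) [HasBinaryBiproduct X Y] :
    KZero.clTri (X ⊞ Y) = KZero.clTri X + KZero.clTri Y :=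
  clTri_triangle (binaryBiproductTriangle_distinguished X Y)

/-- The Eilenberg swindle. -/
theorem clTri_eq_zero_of_coproduct (L : C) (n : ℤ)
    [HasCoproduct (fun i : ℕ => (shiftFunctor C (2 * n * (i : ℤ))).obj L)] :
    KZero.clTri L = 0 := by
  let f : ℕ → C := fun i => (shiftFunctor C (2 * n * (i : ℤ))).obj L
  let M := ∐ f
  let F := shiftFunctor C (2 * n)
  let e : ∀ i, f (i + 1) ≅ F.obj (f i) := fun i =>
    (shiftFunctorAdd' C (2 * n * (i : ℤ)) (2 * n) (2 * n * ((i + 1 : ℕ) : ℤ))
      (by push_cast; ring)).app L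
  let c : Cofan (fun i => F.obj (f i)) := Cofan.mk (F.obj M) (fun i => F.map (Sigma.ι f i))
  have hc : IsColimit c :=
    isColimitCofanMkObjOfIsColimit F f (Sigma.ι f) (coproductIsCoproduct f)
  let a : M ⟶ f 0 ⊞ F.obj M := Sigma.desc fun i => match i with
    | 0 => biprod.inl
    | i + 1 => (e i).hom ≫ c.inj i ≫ biprod.inr
  let d : F.obj M ⟶ M := Cofan.IsColimit.desc hc (fun i => (e i).inv ≫ Sigma.ι f (i + 1))
  let iso : M ≅ f 0 ⊞ F.obj M :=
    { hom := a
      inv := biprod.desc (Sigma.ι f 0) d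
      hom_inv_id := Sigma.hom_ext _ _ fun i => by
        rcases i with _ | i
        · simp [a]; exact (Category.comp_id (Sigma.ι f 0)).symm
        · simp only [a, Sigma.ι_desc_assoc, Category.assoc, biprod.inr_desc, Category.comp_id]
          rw [Cofan.IsColimit.fac, Iso.hom_inv_id_assoc]
          exact (Category.comp_id (Sigma.ι f (i + 1))).symm
      inv_hom_id := by
        refine biprod.hom_ext' _ _ ?_ ?_
        · simp [a]
        · refine Cofan.IsColimit.hom_ext hc _ _ fun i => ?_
          rw [biprod.inr_desc_assoc, Category.comp_id, ← Category.assoc, Cofan.IsColimit.fac]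
          simp [a]; rfl }
  have h := clTri_iso iso
  rw [clTri_biprod, clTri_shift M (2 * n), Int.negOnePow_even _ ⟨n, by ring⟩] at h
  simp only [Units.val_one, one_smul, right_eq_add] at h
  rw [← h]
  exact (clTri_iso ((shiftFunctorZero' C (2 * n * ((0 : ℕ) : ℤ)) (by simp)).app L)).symm

end Groth.Agent.KZ
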